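import Mathlib

set_option autoImplicit false

namespace Groth.Agent.Lib.Helper43.OverBC

open CategoryTheory Limits Opposite

universe v₁ v₂ u₁ u₂ v u

section Star
variable {C : Type u₁} [Category.{v₁} C] {D : Type u₂} [Category.{v₂} D]
  [HasBinaryProducts C] [HasBinaryProducts D]
  (Φ : C ⥤ D) [PreservesLimitsOfShape (Discrete WalkingPair) Φ] (U : C)

set_option backward.isDefEq.respectTransparency false in
set_option backward.defeqAttrib.useBackward true in
/-- `Φ(U × V) → Φ U` is `Φ U × Φ V → Φ U`. -/
noncomputable def starPostIso :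
    Over.star U ⋙ Over.post Φ ≅ Φ ⋙ Over.star (Φ.obj U) :=
  NatIso.ofComponents (fun V => Over.isoMk (PreservesLimitPair.iso Φ U V) (by
      simp))
    (fun {V V'} g => by
      ext
      simp [prodComparison_natural])

end Star

section Main
variable {C : Type u₁} [Category.{v₁} C] {D : Type u₂} [Category.{v₂} D]
  [HasBinaryProducts C] [HasBinaryProducts D]
  (J : GrothendieckTopology C) (K : GrothendieckTopology D)
  (A : Type u) [Category.{v} A]
  (Φ : C ⥤ D) [PreservesLimitsOfShape (Discrete WalkingPair) Φ] [Φ.IsContinuous J K] (U : C)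
  [(Over.post (X := U) Φ).IsContinuous (J.over U) (K.over (Φ.obj U))]

/-- restriction to `Over U` is left adjoint to pushforward along `V ↦ U × V`. -/
noncomputable def overAdj :
    J.overPullback A U ⊣ (Over.star U).sheafPushforwardContinuous A J (J.over U) :=
  (Over.forgetAdjStar U).sheafPushforwardContinuous (E := A) (J.over U) J

/-- the two composite direct images agree. -/
noncomputable def rightIso :
    (Over.star (Φ.obj U)).sheafPushforwardContinuous A K (K.over (Φ.obj U)) ⋙
        Φ.sheafPushforwardContinuous A J K ≅
      (Over.post (X := U) Φ).sheafPushforwardContinuous A (J.over U) (K.over (Φ.obj U)) ⋙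
        (Over.star U).sheafPushforwardContinuous A J (J.over U) :=
  letI := Functor.isContinuous_comp (Over.star U) (Over.post (X := U) Φ) J (J.over U)
    (K.over (Φ.obj U))
  Functor.sheafPushforwardContinuousComp' (F := Φ) (G := Over.star (Φ.obj U))
      (FG := Over.star U ⋙ Over.post Φ) (starPostIso Φ U).symm A J K (K.over (Φ.obj U)) ≪≫
    (Functor.sheafPushforwardContinuousComp (Over.star U) (Over.post (X := U) Φ) A J (J.over U)
      (K.over (Φ.obj U))).symm

variable [(Φ.sheafPushforwardContinuous A J K).IsRightAdjoint]
  [((Over.post (X := U) Φ).sheafPushforwardContinuous A (J.over U)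
    (K.over (Φ.obj U))).IsRightAdjoint]

/-- **Inverse image commutes with restriction to a slice.** -/
noncomputable def pullOverIso :
    Φ.sheafPullback A J K ⋙ K.overPullback A (Φ.obj U) ≅
      J.overPullback A U ⋙
        (Over.post (X := U) Φ).sheafPullback A (J.over U) (K.over (Φ.obj U)) :=
  ((conjugateIsoEquiv
    ((Φ.sheafAdjunctionContinuous A J K).comp (overAdj K A (Φ.obj U)))
    ((overAdj J A U).comp
      ((Over.post (X := U) Φ).sheafAdjunctionContinuous A (J.over U) (K.over (Φ.obj U))))).symm
    (rightIso J K A Φ U)).symm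

/-- global sections over the slice are compatible with `Over.post`. -/
noncomputable def sectionsIso :
    (Over.post (X := U) Φ).sheafPushforwardContinuous A (J.over U) (K.over (Φ.obj U)) ⋙
        (sheafSections (J.over U) A).obj (op (Over.mk (𝟙 U))) ≅
      (sheafSections (K.over (Φ.obj U)) A).obj (op (Over.mk (𝟙 (Φ.obj U)))) :=
  NatIso.ofComponents
    (fun H => H.obj.mapIso (Over.isoMk (Iso.refl _)
      (by
        change 𝟙 _ ≫ Φ.map (𝟙 U) = 𝟙 _
        rw [Φ.map_id, Category.comp_id]) :
      Over.mk (𝟙 (Φ.obj U)) ≅ (Over.post (X := U) Φ).obj (Over.mk (𝟙 U))).op)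
    (fun {H H'} α => by
      exact (α.hom.naturality _).symm)

variable [HasWeakSheafify (J.over U) A] [HasWeakSheafify (K.over (Φ.obj U)) A]

/-- The inverse image of a constant sheaf on a slice is constant. -/
noncomputable def constIso :
    constantSheaf (J.over U) A ⋙
        (Over.post (X := U) Φ).sheafPullback A (J.over U) (K.over (Φ.obj U)) ≅
      constantSheaf (K.over (Φ.obj U)) A :=
  ((conjugateIsoEquiv
    ((constantSheafAdj (J.over U) A Over.mkIdTerminal).comp
      ((Over.post (X := U) Φ).sheafAdjunctionContinuous A (J.over U) (K.over (Φ.obj U))))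
    (constantSheafAdj (K.over (Φ.obj U)) A Over.mkIdTerminal)).symm
    (sectionsIso J K A Φ U)).symm

/-- **Main lemma**: if `G` restricted to the slice over `U` is constant with value `M`, then the
inverse image of `G` restricted to the slice over `Φ U` is constant with value `M`. -/
theorem nonempty_pull_over_iso_const (G : Sheaf J A) (M : A)
    (e : G.over U ≅ (constantSheaf (J.over U) A).obj M) :
    Nonempty (((Φ.sheafPullback A J K).obj G).over (Φ.obj U) ≅
      (constantSheaf (K.over (Φ.obj U)) A).obj M) :=
  ⟨(pullOverIso J K A Φ U).app G ≪≫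
    ((Over.post (X := U) Φ).sheafPullback A (J.over U) (K.over (Φ.obj U))).mapIso e ≪≫
    (constIso J K A Φ U).app M⟩

end Main

end Groth.Agent.Lib.Helper43.OverBC
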