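import Groth.Prelude.Def_EtBase
import Mathlib
import Groth.Agent.Lib.Helper43.OverBC

set_option autoImplicit false
universe u v w
open CategoryTheory Limits Opposite AlgebraicGeometry

namespace Groth.Agent.Lib.Helper43.EtPullLC

variable {X Y : Scheme.{u}} (f : X ⟶ Y)

instance overPost_bc_isContinuous (U : Y.Etale) :
    (Over.post (X := U) (EtCoh.bc f)).IsContinuous (Y.smallEtaleTopology.over U)
      (X.smallEtaleTopology.over ((EtCoh.bc f).obj U)) :=
  haveI : RepresentablyFlat (Over.post (X := U) (EtCoh.bc f)) := flat_of_preservesFiniteLimits _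
  Functor.isContinuous_of_coverPreserving
    (compatiblePreservingOfFlat _ _)
    (CoverPreserving.overPost U (EtCoh.coverPreserving_bc f))

/-- base change of a covering family is a covering family. -/
theorem covers_bc {ι : Type u} {U : ι → Y.Etale} (hU : EtCoh.Covers U) :
    EtCoh.Covers (fun i => (EtCoh.bc f).obj (U i)) := by
  intro x
  obtain ⟨i, y, hy⟩ := hU (f.base x)
  obtain ⟨z, -, hz⟩ := Scheme.Pullback.exists_preimage_pullback (f := (U i).hom) (g := f) y x hy
  exact ⟨i, z, hz⟩

variable (A : Type w) [Category.{v} A]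
  [((EtCoh.bc f).sheafPushforwardContinuous A Y.smallEtaleTopology
    X.smallEtaleTopology).IsRightAdjoint]

/-- If `G|_U` is constant with value `M` then `(f⁻¹ G)|_{U ×_Y X}` is constant with value `M`. -/
theorem nonempty_pull_over_iso_const (U : Y.Etale)
    [((Over.post (X := U) (EtCoh.bc f)).sheafPushforwardContinuous A (Y.smallEtaleTopology.over U)
      (X.smallEtaleTopology.over ((EtCoh.bc f).obj U))).IsRightAdjoint]
    [HasWeakSheafify (Y.smallEtaleTopology.over U) A]
    [HasWeakSheafify (X.smallEtaleTopology.over ((EtCoh.bc f).obj U)) A]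
    (G : Sheaf Y.smallEtaleTopology A) (M : A)
    (e : G.over U ≅ (constantSheaf (Y.smallEtaleTopology.over U) A).obj M) :
    Nonempty ((((EtCoh.bc f).sheafPullback A Y.smallEtaleTopology X.smallEtaleTopology).obj G).over
        ((EtCoh.bc f).obj U) ≅
      (constantSheaf (X.smallEtaleTopology.over ((EtCoh.bc f).obj U)) A).obj M) :=
  OverBC.nonempty_pull_over_iso_const Y.smallEtaleTopology X.smallEtaleTopology A (EtCoh.bc f) U G M e

end Groth.Agent.Lib.Helper43.EtPullLC
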