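import Mathlib

set_option autoImplicit false
universe u
open CategoryTheory Limits Opposite AlgebraicGeometry TopologicalSpace Topology

namespace Groth.Agent.Lib.Helper43.StrataLib

/-- closed subsets carry closed subscheme structures. -/
theorem exists_closedImmersion_range_eq {T : Scheme.{u}} (Z : Set T) (hZ : IsClosed Z) :
    ∃ (Z' : Scheme.{u}) (i : Z' ⟶ T), IsClosedImmersion i ∧ Set.range i = Z := by
  refine ⟨_, (Scheme.IdealSheafData.vanishingIdeal ⟨Z, hZ⟩).subschemeι, inferInstance, ?_⟩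
  rw [Scheme.IdealSheafData.range_subschemeι]
  simp

variable {X : Scheme.{u}}

/-- A finite stratification of `S ⊆ X` by immersions satisfying the predicate `P`. -/
def Strata (P : ∀ (T : Scheme.{u}), (T ⟶ X) → Prop) (S : Set X) : Prop :=
  ∃ (n : ℕ) (T : Fin n → Scheme.{u}) (g : ∀ i, T i ⟶ X),
    (∀ i, IsImmersion (g i)) ∧
    (∀ i, Topology.IsConstructible ((Subtype.val : S → X) ⁻¹' Set.range (g i))) ∧
    Pairwise (fun i j => Disjoint (Set.range (g i)) (Set.range (g j))) ∧
    (⋃ i, Set.range (g i)) = S ∧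
    ∀ i, P (T i) (g i)

/-- version indexed by an arbitrary finite type -/
theorem Strata.of_finite {P : ∀ (T : Scheme.{u}), (T ⟶ X) → Prop} {S : Set X}
    (ι : Type) [Finite ι] (T : ι → Scheme.{u}) (g : ∀ i, T i ⟶ X)
    (h1 : ∀ i, IsImmersion (g i))
    (h2 : ∀ i, Topology.IsConstructible ((Subtype.val : S → X) ⁻¹' Set.range (g i)))
    (h3 : Pairwise (fun i j => Disjoint (Set.range (g i)) (Set.range (g j))))
    (h4 : (⋃ i, Set.range (g i)) = S)
    (h5 : ∀ i, P (T i) (g i)) : Strata P S := by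
  obtain ⟨n, ⟨e⟩⟩ := Finite.exists_equiv_fin ι
  refine ⟨n, fun k => T (e.symm k), fun k => g (e.symm k), fun k => h1 _, fun k => h2 _, ?_, ?_,
    fun k => h5 _⟩
  · intro a b hab
    exact h3 (fun h => hab (e.symm.injective h))
  · rw [← h4]
    ext x
    simp only [Set.mem_iUnion]
    constructor
    · rintro ⟨k, hk⟩
      exact ⟨_, hk⟩
    · rintro ⟨i, hi⟩
      refine ⟨e i, ?_⟩
      have : ∀ j, j = i → x ∈ Set.range (g j) := by
        rintro j rfl
        exact hi
      exact this _ (e.symm_apply_apply i)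


theorem range_ι_comp {T : Scheme.{u}} (g : T ⟶ X) (O : X.Opens) :
    Set.range ((g ⁻¹ᵁ O).ι ≫ g) = Set.range g ∩ O := by
  rw [Scheme.Hom.comp_base, TopCat.coe_comp, Set.range_comp, Scheme.Opens.range_ι]
  exact Set.image_preimage_eq_range_inter

theorem isOpenEmbedding_inclusion_inter (S : Set X) (O : X.Opens) :
    IsOpenEmbedding (Set.inclusion (Set.inter_subset_left : S ∩ (O : Set X) ⊆ S)) := by
  refine ⟨IsEmbedding.inclusion _, ?_⟩
  rw [Set.range_inclusion]
  have : {x : S | (x : X) ∈ S ∩ (O : Set X)} = (Subtype.val : S → X) ⁻¹' (O : Set X) := by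
    ext x
    simp [x.2]
  rw [this]
  exact O.isOpen.preimage continuous_subtype_val

/-- restriction of a stratification to an open. -/
theorem Strata.inter_opens {P : ∀ (T : Scheme.{u}), (T ⟶ X) → Prop}
    (hP : ∀ {T T' : Scheme.{u}} (h : T' ⟶ T) (g : T ⟶ X), P T g → P T' (h ≫ g))
    {S : Set X} (hS : Strata P S) (O : X.Opens) : Strata P (S ∩ (O : Set X)) := by
  obtain ⟨n, T, g, h1, h2, h3, h4, h5⟩ := hS
  refine ⟨n, fun i => ((g i) ⁻¹ᵁ O).toScheme, fun i => ((g i) ⁻¹ᵁ O).ι ≫ g i,
    fun i => inferInstance, fun i => ?_, ?_, ?_, fun i => hP _ _ (h5 i)⟩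
  · rw [range_ι_comp]
    have := (h2 i).preimage_of_isOpenEmbedding (isOpenEmbedding_inclusion_inter S O)
    convert this using 1
    ext x
    simp only [Set.mem_preimage, Set.mem_inter_iff, Set.coe_inclusion, and_iff_left_iff_imp]
    intro _
    exact x.2.2
  · intro a b hab
    simp only [range_ι_comp]
    exact (h3 hab).mono Set.inter_subset_left Set.inter_subset_left
  · simp only [range_ι_comp]
    rw [← Set.iUnion_inter, h4]


theorem range_closed_comp {T Z' : Scheme.{u}} (g : T ⟶ X) (i : Z' ⟶ T) (Z : Set X)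
    (hi : Set.range i = g ⁻¹' Z) : Set.range (i ≫ g) = Set.range g ∩ Z := by
  rw [Scheme.Hom.comp_base, TopCat.coe_comp, Set.range_comp]
  erw [hi]
  exact Set.image_preimage_eq_range_inter

/-- gluing stratifications along a finite retrocompact open cover. -/
theorem Strata.glue {P : ∀ (T : Scheme.{u}), (T ⟶ X) → Prop}
    (hP : ∀ {T T' : Scheme.{u}} (h : T' ⟶ T) (g : T ⟶ X), P T g → P T' (h ≫ g))
    {S : Set X} (m : ℕ) (O : Fin m → X.Opens)
    (hcov : S ⊆ ⋃ k, (O k : Set X))
    (hrc : ∀ k, IsRetrocompact ((Subtype.val : S → X) ⁻¹' (O k : Set X)))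
    (h : ∀ k, Strata P (S ∩ (O k : Set X))) : Strata P S := by
  choose n T g h1 h2 h3 h4 h5 using h
  -- the closed complements
  let Z : Fin m → Set X := fun k => (⋃ l : {l : Fin m // l < k}, (O l.1 : Set X))ᶜ
  have hZ : ∀ k, IsClosed (Z k) := fun k =>
    (isOpen_iUnion fun l : {l : Fin m // l < k} => (O l.1).isOpen).isClosed_compl
  have hex : ∀ (k : Fin m) (j : Fin (n k)), ∃ (Z' : Scheme.{u}) (i : Z' ⟶ T k j),
      IsClosedImmersion i ∧ Set.range i = (g k j) ⁻¹' (Z k) := fun k j =>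
    exists_closedImmersion_range_eq _ ((hZ k).preimage (g k j).continuous)
  choose Z' i hi1 hi2 using hex
  have hsub : ∀ k j, Set.range (g k j) ⊆ S ∩ (O k : Set X) := fun k j => by
    rw [← h4 k]
    exact Set.subset_iUnion (fun j => Set.range (g k j)) j
  have hr : ∀ k j, Set.range (i k j ≫ g k j) = Set.range (g k j) ∩ Z k := fun k j =>
    range_closed_comp _ _ _ (hi2 k j)
  refine Strata.of_finite (Σ k : Fin m, Fin (n k)) (fun p => Z' p.1 p.2)
    (fun p => i p.1 p.2 ≫ g p.1 p.2) ?_ ?_ ?_ ?_ (fun p => hP _ _ (h5 p.1 p.2))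
  · rintro ⟨k, j⟩
    haveI := hi1 k j
    haveI := h1 k j
    infer_instance
  · rintro ⟨k, j⟩
    dsimp only
    rw [hr]
    have hc1 : IsConstructible ((Subtype.val : S → X) ⁻¹' Set.range (g k j)) := by
      have := (h2 k j).image_of_isOpenEmbedding (isOpenEmbedding_inclusion_inter S (O k)) (by
        rw [Set.range_inclusion]
        have : {x : S | (x : X) ∈ S ∩ (O k : Set X)} =
            (Subtype.val : S → X) ⁻¹' (O k : Set X) := by
          ext x
          simp
        rw [this]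
        exact hrc k)
      convert this using 1
      ext x
      simp only [Set.mem_preimage, Set.mem_image, Subtype.exists]
      constructor
      · intro hx
        exact ⟨x.1, hsub k j hx, hx, rfl⟩
      · rintro ⟨y, hy, hy', rfl⟩
        exact hy'
    have hc2 : IsConstructible ((Subtype.val : S → X) ⁻¹' (Z k)) := by
      have : (Subtype.val : S → X) ⁻¹' (Z k) =
          (⋃ l : {l : Fin m // l < k}, (Subtype.val : S → X) ⁻¹' (O l.1 : Set X))ᶜ := by
        simp only [Z, Set.preimage_compl, Set.preimage_iUnion]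
      rw [this, isConstructible_compl]
      exact IsConstructible.iUnion fun l =>
        (hrc l.1).isConstructible ((O l.1).isOpen.preimage continuous_subtype_val)
    rw [Set.preimage_inter]
    exact hc1.inter hc2
  · rintro ⟨k, j⟩ ⟨k', j'⟩ hne
    dsimp only
    rw [hr, hr]
    rcases lt_trichotomy k k' with hlt | heq | hgt
    · refine Set.disjoint_left.2 fun x hx hx' => ?_
      exact hx'.2 (Set.mem_iUnion.2 ⟨⟨k, hlt⟩, (hsub k j hx.1).2⟩)
    · subst heq
      have : j ≠ j' := fun hj => hne (by rw [hj])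
      exact (h3 k this).mono Set.inter_subset_left Set.inter_subset_left
    · refine Set.disjoint_left.2 fun x hx hx' => ?_
      exact hx.2 (Set.mem_iUnion.2 ⟨⟨k', hgt⟩, (hsub k' j' hx'.1).2⟩)
  · apply Set.Subset.antisymm
    · refine Set.iUnion_subset fun p => ?_
      dsimp only
      rw [hr]
      exact fun x hx => (hsub _ _ hx.1).1
    · intro x hx
      obtain ⟨k0, hk0⟩ := Set.mem_iUnion.1 (hcov hx)
      obtain ⟨k, hk, hmin⟩ := wellFounded_lt.has_min {k : Fin m | x ∈ (O k : Set X)} ⟨k0, hk0⟩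
      have hxk : x ∈ S ∩ (O k : Set X) := ⟨hx, hk⟩
      rw [← h4 k] at hxk
      obtain ⟨j, hj⟩ := Set.mem_iUnion.1 hxk
      refine Set.mem_iUnion.2 ⟨⟨k, j⟩, ?_⟩
      dsimp only
      rw [hr]
      refine ⟨hj, ?_⟩
      intro hmem
      obtain ⟨l, hl⟩ := Set.mem_iUnion.1 hmem
      exact hmin l.1 hl l.2


/-- transport of a stratification along an open immersion. -/
theorem Strata.map_openImmersion {X' : Scheme.{u}} (j : X' ⟶ X) [IsOpenImmersion j]
    {P' : ∀ (T : Scheme.{u}), (T ⟶ X') → Prop} {P : ∀ (T : Scheme.{u}), (T ⟶ X) → Prop}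
    (hPP : ∀ (T : Scheme.{u}) (g : T ⟶ X'), P' T g → P T (g ≫ j))
    {S' : Set X'} (h : Strata P' S') : Strata P (j '' S') := by
  obtain ⟨n, T, g, h1, h2, h3, h4, h5⟩ := h
  have hr : ∀ i, Set.range (g i ≫ j) = j '' Set.range (g i) := fun i => by
    rw [Scheme.Hom.comp_base, TopCat.coe_comp, Set.range_comp]
  have hsub : ∀ i, Set.range (g i) ⊆ S' := fun i => by
    rw [← h4]
    exact Set.subset_iUnion (fun i => Set.range (g i)) i
  refine ⟨n, T, fun i => g i ≫ j, fun i => inferInstance, fun i => ?_, ?_, ?_,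
    fun i => hPP _ _ (h5 i)⟩
  · rw [hr]
    let φ := j.isOpenEmbedding.isEmbedding.homeomorphImage S'
    have hφ : ∀ y : S', ((φ y : ↥(j '' S')) : X) = j y.1 := fun y => rfl
    have := (h2 i).image_of_isOpenEmbedding φ.isOpenEmbedding (by
      rw [φ.surjective.range_eq]
      exact IsRetrocompact.univ)
    convert this using 1
    ext x
    simp only [Set.mem_preimage, Set.mem_image]
    constructor
    · rintro ⟨r, hr, hrx⟩
      exact ⟨⟨r, hsub i hr⟩, hr, Subtype.ext ((hφ _).trans hrx)⟩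
    · rintro ⟨y, hy, rfl⟩
      exact ⟨y.1, hy, (hφ y).symm⟩
  · intro a b hab
    simp only [hr]
    exact (Set.disjoint_image_iff j.isOpenEmbedding.injective).2 (h3 hab)
  · simp only [hr]
    rw [← Set.image_iUnion, h4]


/-- preimages of constructible sets under maps of affine opens are constructible. -/
theorem isConstructible_preimage_resLE {X' : Scheme.{u}} (f : X' ⟶ X) (W : X.Opens)
    (W' : X'.Opens) (hW : IsAffineOpen W) (hW' : IsAffineOpen W') (hle : W' ≤ f ⁻¹ᵁ W)
    (R : Set X) (hR : IsConstructible ((Subtype.val : ↥(W : Set X) → X) ⁻¹' R)) :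
    IsConstructible ((Subtype.val : ↥(W' : Set X') → X') ⁻¹' (f ⁻¹' R)) := by
  haveI : IsAffine W.toScheme := hW
  haveI : IsAffine W'.toScheme := hW'
  let ψ : W'.toScheme ⟶ W.toScheme := f.resLE W W' hle
  have hψ : ∀ x : W'.toScheme, W.ι (ψ x) = f (W'.ι x) := fun x => by
    have := congrArg (fun (k : W'.toScheme ⟶ X) => k x) (Scheme.Hom.resLE_comp_ι f hle)
    exact this
  have key : IsConstructible (ψ ⁻¹' ((Subtype.val : ↥(W : Set X) → X) ⁻¹' R)) := by
    refine IsConstructible.preimage (f := ψ) ψ.continuous (fun s hs hs' => ?_) hR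
    have hc : IsCompact s := IsRetrocompact.isCompact (X := W.toScheme) hs'
    have := QuasiCompact.isCompact_preimage (f := ψ) s hs hc
    exact IsCompact.isRetrocompact (X := W'.toScheme) this (hs.preimage ψ.continuous)
  have heq : ((Subtype.val : ↥(W' : Set X') → X') ⁻¹' (f ⁻¹' R)) =
      (ψ ⁻¹' ((Subtype.val : ↥(W : Set X) → X) ⁻¹' R) : Set W'.toScheme) := by
    ext x
    simp only [Set.mem_preimage]
    exact (congrArg (· ∈ R) (hψ x)).to_iff.symm
  rw [heq]
  exact key

/-- transport of a stratification along an arbitrary morphism, on affine opens. -/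
theorem Strata.pullback {X' : Scheme.{u}} (f : X' ⟶ X)
    {P : ∀ (T : Scheme.{u}), (T ⟶ X) → Prop} {P' : ∀ (T : Scheme.{u}), (T ⟶ X') → Prop}
    (hP' : ∀ {T T' : Scheme.{u}} (h : T' ⟶ T) (g : T ⟶ X'), P' T g → P' T' (h ≫ g))
    (hPP : ∀ (T : Scheme.{u}) (g : T ⟶ X), P T g → P' _ (pullback.snd g f))
    (W : X.Opens) (W' : X'.Opens) (hW : IsAffineOpen W) (hW' : IsAffineOpen W')
    (hle : W' ≤ f ⁻¹ᵁ W) (h : Strata P (W : Set X)) : Strata P' (W' : Set X') := by
  obtain ⟨n, T, g, h1, h2, h3, h4, h5⟩ := h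
  have hr : ∀ i, Set.range (((pullback.snd (g i) f) ⁻¹ᵁ W').ι ≫ pullback.snd (g i) f) =
      f ⁻¹' Set.range (g i) ∩ (W' : Set X') := fun i => by
    rw [range_ι_comp, Scheme.Pullback.range_snd]
  refine ⟨n, fun i => ((pullback.snd (g i) f) ⁻¹ᵁ W').toScheme,
    fun i => ((pullback.snd (g i) f) ⁻¹ᵁ W').ι ≫ pullback.snd (g i) f,
    fun i => inferInstance, fun i => ?_, ?_, ?_, fun i => hP' _ _ (hPP _ _ (h5 i))⟩
  · rw [hr]
    have := isConstructible_preimage_resLE f W W' hW hW' hle _ (h2 i)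
    convert this using 1
    ext x
    simp only [Set.mem_preimage, Set.mem_inter_iff, and_iff_left_iff_imp]
    intro _
    exact x.2
  · intro a b hab
    simp only [hr]
    exact ((h3 hab).preimage f).mono Set.inter_subset_left Set.inter_subset_left
  · simp only [hr]
    rw [← Set.iUnion_inter, ← Set.preimage_iUnion, h4]
    exact Set.inter_eq_right.2 hle


/-- compact opens inside an affine open are retrocompact in it. -/
theorem isRetrocompact_preimage_of_le {W O : X.Opens} (hW : IsAffineOpen W)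
    (hO : IsCompact (O : Set X)) (hle : O ≤ W) :
    IsRetrocompact ((Subtype.val : ↥(W : Set X) → X) ⁻¹' (O : Set X)) := by
  haveI : IsAffine W.toScheme := hW
  have hc : IsCompact ((Subtype.val : ↥(W : Set X) → X) ⁻¹' (O : Set X)) :=
    (IsInducing.subtypeVal.isCompact_preimage_iff (by
      rw [Subtype.range_val]
      exact hle)).2 hO
  exact IsCompact.isRetrocompact (X := W.toScheme) hc (O.isOpen.preimage continuous_subtype_val)

/-- finite covers of a compact open by affine opens with a prescribed property. -/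
theorem exists_finite_affine_cover {W : Set X} (hW : IsCompact W) (B : X.Opens → Prop)
    (hB : ∀ x ∈ W, ∃ O : X.Opens, x ∈ O ∧ B O) :
    ∃ (m : ℕ) (O : Fin m → X.Opens), (∀ k, B (O k)) ∧ W ⊆ ⋃ k, (O k : Set X) := by
  choose O hO1 hO2 using hB
  let O' : W → X.Opens := fun x => O x.1 x.2
  obtain ⟨t, ht⟩ := hW.elim_finite_subcover (fun x : W => (O' x : Set X))
    (fun x => (O' x).isOpen) (fun x hx => Set.mem_iUnion.2 ⟨⟨x, hx⟩, hO1 x hx⟩)
  refine ⟨t.card, fun k => O' (t.equivFin.symm k).1,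
    fun k => hO2 _ _, fun x hx => ?_⟩
  obtain ⟨y, hy⟩ := Set.mem_iUnion.1 (ht hx)
  obtain ⟨hyt, hy'⟩ := Set.mem_iUnion.1 hy
  refine Set.mem_iUnion.2 ⟨t.equivFin ⟨y, hyt⟩, ?_⟩
  change x ∈ (O' (t.equivFin.symm (t.equivFin ⟨y, hyt⟩)).1 : Set X)
  rw [Equiv.symm_apply_apply]
  exact hy'

end Groth.Agent.Lib.Helper43.StrataLib
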