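import Mathlib
import Groth.Prelude.Def_EtOpen

/-!
# Subsheaves of the final object on the small étale site are opens

Helper library (helper43).  For a presheaf of sets `P` on `X.Etale` whose sections are all subsingletons:
* `supp P` the open of `X` swept out by the étale `X`-schemes with a section;
* `nonempty_iff_range_subset`: for a sheaf, `P(V)` is nonempty iff the image of `V` lies in `supp P`;
* `isSheaf_opens`: `V ↦ Hom(V, W)` (lifted) is a sheaf for an open `W`;
* `iso_of_subsingleton`: a sheaf with subsingleton sections is isomorphic to the one attached to `supp`.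
-/

set_option autoImplicit false
open CategoryTheory CategoryTheory.Limits AlgebraicGeometry Opposite
universe u w

namespace Groth.Agent.Lib.Helper43.EtOpenSub

set_option backward.isDefEq.respectTransparency.types false in
lemma mem_smallEtaleTopology_iff' {X : Scheme.{u}} (U : X.Etale) (R : Sieve U) :
    R ∈ X.smallEtaleTopology U ↔
      ∀ x : U.left, ∃ (V : X.Etale) (f : V ⟶ U) (y : V.left), R f ∧ f.left y = x := by
  have h0 : X.smallEtaleTopology = (X.smallPretopology (Q := @Etale) (P := @Etale)).toGrothendieck :=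
    Scheme.smallGrothendieckTopology_eq_toGrothendieck_smallPretopology _ le_rfl
  rw [h0]
  refine (Scheme.mem_toGrothendieck_smallPretopology (P := @Etale) (Q := @Etale) U R).trans ?_
  constructor
  · intro h x
    obtain ⟨V, f, y, h1, -, h3⟩ := h x
    exact ⟨V, f, y, h1, h3⟩
  · intro h x
    obtain ⟨V, f, y, h1, h3⟩ := h x
    refine ⟨V, f, y, h1, ?_, h3⟩
    infer_instance

lemma hom_left_eq {S : Scheme.{u}} {V U : S.Etale} (g : V ⟶ U) : g.left ≫ U.hom = V.hom :=
  MorphismProperty.Over.w g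

lemma hom_apply {S : Scheme.{u}} {V U : S.Etale} (g : V ⟶ U) (v : V.left) :
    U.hom (g.left v) = V.hom v := by
  rw [← hom_left_eq g]; rfl

/-- Hom into an open is subsingleton. -/
lemma subsingleton_hom_open {S : Scheme.{u}} (W : S.Opens) (V : S.Etale) :
    Subsingleton (V ⟶ Scheme.Etale.mk W.ι) := by
  constructor
  intro a b
  apply MorphismProperty.Over.Hom.ext
  have ha := hom_left_eq a
  have hb := hom_left_eq b
  exact (cancel_mono W.ι).1 (ha.trans hb.symm)

lemma nonempty_hom_open_iff {S : Scheme.{u}} (W : S.Opens) (V : S.Etale) :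
    Nonempty (V ⟶ Scheme.Etale.mk W.ι) ↔ Set.range V.hom ⊆ (W : Set S) := by
  constructor
  · rintro ⟨a⟩ x ⟨v, rfl⟩
    have ha := hom_left_eq a
    have : V.hom v = W.ι (a.left v) := by
      rw [← ha]; rfl
    rw [this]
    exact (a.left v).2
  · intro h
    have h' : Set.range V.hom ⊆ Set.range W.ι := by
      rw [Scheme.Opens.range_ι]; exact h
    let l : V.left ⟶ W.toScheme := IsOpenImmersion.lift W.ι V.hom h'
    have hl : l ≫ W.ι = V.hom := IsOpenImmersion.lift_fac _ _ _
    exact ⟨MorphismProperty.Over.homMk (A := V) (B := Scheme.Etale.mk W.ι) l hl⟩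

instance etale_hom {S : Scheme.{u}} (V : S.Etale) : Etale V.hom := V.prop

noncomputable def supp {S : Scheme.{u}} (F : (S.Etale)ᵒᵖ ⥤ Type w) : S.Opens :=
  ⟨⋃ (V : S.Etale) (_ : Nonempty (F.obj (op V))), Set.range V.hom,
    isOpen_iUnion fun V => isOpen_iUnion fun _ => V.hom.isOpenMap.isOpen_range⟩

lemma mem_supp {S : Scheme.{u}} (F : (S.Etale)ᵒᵖ ⥤ Type w) (s : S) :
    s ∈ supp F ↔ ∃ (V : S.Etale), Nonempty (F.obj (op V)) ∧ s ∈ Set.range V.hom := by
  change s ∈ (⋃ (V : S.Etale) (_ : Nonempty (F.obj (op V))), Set.range V.hom) ↔ _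
  simp only [Set.mem_iUnion, exists_prop]

/-- The sieve of arrows `V' ⟶ V` such that the point-image of `V'` in `S` lies in a given set; it is
covering as soon as ... (used via `mem_smallEtaleTopology_iff'`). -/
lemma exists_refinement {S : Scheme.{u}} (V V' : S.Etale) (x : V.left) (v : V'.left)
    (hv : V'.hom v = V.hom x) :
    ∃ (W : S.Etale) (a : W ⟶ V) (_ : W ⟶ V') (z : W.left), a.left z = x := by
  obtain ⟨z, hz1, hz2⟩ :=
    Scheme.Pullback.exists_preimage_pullback (f := V.hom) (g := V'.hom) x v hv.symm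
  let W : S.Etale := Scheme.Etale.mk (pullback.fst V.hom V'.hom ≫ V.hom)
  let a : W ⟶ V := MorphismProperty.Over.homMk (pullback.fst V.hom V'.hom) rfl
  let b : W ⟶ V' := MorphismProperty.Over.homMk (pullback.snd V.hom V'.hom) pullback.condition.symm
  exact ⟨W, a, b, z, hz1⟩

lemma nonempty_iff_range_subset (S : Scheme.{u}) (F : Sheaf S.smallEtaleTopology (Type w))
    (hF : ∀ U : S.Etale, Subsingleton (F.obj.obj (op U))) (V : S.Etale) :
    Nonempty (F.obj.obj (op V)) ↔ Set.range V.hom ⊆ (supp F.obj : Set S) := by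
  constructor
  · intro h x hx
    exact (mem_supp F.obj x).2 ⟨V, h, hx⟩
  · intro h
    let R : Sieve V :=
      { arrows := fun W _ => Nonempty (F.obj.obj (op W))
        downward_closed := fun {W W'} g hs h => by
          obtain ⟨s⟩ := hs
          exact ⟨F.obj.map h.op s⟩ }
    have hR : R ∈ S.smallEtaleTopology V := by
      rw [mem_smallEtaleTopology_iff']
      intro x
      obtain ⟨V', hne, v, hv⟩ := (mem_supp F.obj (V.hom x)).1 (h ⟨x, rfl⟩)
      obtain ⟨W, a, b, z, hz⟩ := exists_refinement V V' x v hv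
      refine ⟨W, a, z, ?_, hz⟩
      obtain ⟨s⟩ := hne
      exact ⟨F.obj.map b.op s⟩
    have hsh := F.property.isSheafFor R hR
    let fam : Presieve.FamilyOfElements F.obj R.arrows := fun W g hg => hg.some
    have hfam : fam.Compatible := by
      intro Y₁ Y₂ Z g₁ g₂ f₁ f₂ h₁ h₂ _
      exact (hF Z).elim _ _
    exact ⟨hsh.amalgamate fam hfam⟩

/-- A presheaf with subsingleton sections which is "local" is a sheaf. -/
lemma isSheaf_of_subsingleton {S : Scheme.{u}} (P : (S.Etale)ᵒᵖ ⥤ Type w)
    (hP : ∀ U : S.Etale, Subsingleton (P.obj (op U)))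
    (hloc : ∀ (V : S.Etale) (R : Sieve V), R ∈ S.smallEtaleTopology V →
      (∀ (V' : S.Etale) (g : V' ⟶ V), R g → Nonempty (P.obj (op V'))) → Nonempty (P.obj (op V))) :
    Presieve.IsSheaf S.smallEtaleTopology P := by
  intro V R hR fam hfam
  obtain ⟨t⟩ := hloc V R hR (fun V' g hg => ⟨fam g hg⟩)
  refine ⟨t, ?_, ?_⟩
  · intro V' g hg
    exact (hP V').elim _ _
  · intro y _
    exact (hP V).elim _ _

/-- The presheaf `V ↦ ULift (V ⟶ W)` for an open `W`. -/
noncomputable abbrev openPsh {S : Scheme.{u}} (W : S.Opens) : (S.Etale)ᵒᵖ ⥤ Type (max u w) :=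
  yoneda.obj (Scheme.Etale.mk W.ι) ⋙ uliftFunctor.{w, u}

lemma subsingleton_openPsh {S : Scheme.{u}} (W : S.Opens) (V : S.Etale) :
    Subsingleton ((openPsh.{u, w} W).obj (op V)) := by
  have := subsingleton_hom_open W V
  change Subsingleton (ULift.{w, u} (V ⟶ Scheme.Etale.mk W.ι))
  infer_instance

lemma nonempty_openPsh_iff {S : Scheme.{u}} (W : S.Opens) (V : S.Etale) :
    Nonempty ((openPsh.{u, w} W).obj (op V)) ↔ Set.range V.hom ⊆ (W : Set S) := by
  rw [← nonempty_hom_open_iff]
  change Nonempty (ULift.{w, u} (V ⟶ Scheme.Etale.mk W.ι)) ↔ _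
  exact ⟨fun ⟨x⟩ => ⟨x.down⟩, fun ⟨x⟩ => ⟨⟨x⟩⟩⟩

lemma isSheaf_openPsh {S : Scheme.{u}} (W : S.Opens) :
    Presieve.IsSheaf S.smallEtaleTopology (openPsh.{u, w} W) := by
  apply isSheaf_of_subsingleton _ (subsingleton_openPsh W)
  intro V R hR h
  rw [nonempty_openPsh_iff]
  rintro _ ⟨x, rfl⟩
  rw [mem_smallEtaleTopology_iff'] at hR
  obtain ⟨V', g, y, hg, hy⟩ := hR x
  have h1 := (nonempty_openPsh_iff W V').1 (h V' g hg)
  have h2 : V.hom x = V'.hom y := by
    rw [← hy, hom_apply]
  rw [h2]
  exact h1 ⟨y, rfl⟩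

/-- Presheaves with subsingleton sections and the same nonempty sections are isomorphic. -/
noncomputable def isoOfSubsingleton {C : Type*} [Category C] (P Q : Cᵒᵖ ⥤ Type w)
    (hP : ∀ U, Subsingleton (P.obj U)) (hQ : ∀ U, Subsingleton (Q.obj U))
    (h : ∀ U, Nonempty (P.obj U) ↔ Nonempty (Q.obj U)) : P ≅ Q :=
  NatIso.ofComponents (fun V => Equiv.toIso
    (by
      haveI := hP V
      haveI := hQ V
      exact
        { toFun := fun x => ((h V).1 ⟨x⟩).some
          invFun := fun x => ((h V).2 ⟨x⟩).some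
          left_inv := fun x => Subsingleton.elim _ _
          right_inv := fun x => Subsingleton.elim _ _ }))
    (by
      intro V V' g
      have := hQ V'
      ext x
      exact Subsingleton.elim _ _)

/-- A sheaf with subsingleton sections is the sheaf of an open. -/
lemma nonempty_iso_openPsh (S : Scheme.{u}) (F : Sheaf S.smallEtaleTopology (Type (max u w)))
    (hF : ∀ U : S.Etale, Subsingleton (F.obj.obj (op U))) :
    Nonempty (F.obj ≅ openPsh.{u, w} (supp F.obj)) := by
  refine ⟨isoOfSubsingleton _ _ (fun U => hF U.unop) (fun U => subsingleton_openPsh _ U.unop) ?_⟩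
  intro U
  rw [show U = op U.unop from rfl, nonempty_openPsh_iff, nonempty_iff_range_subset S F hF]

end Groth.Agent.Lib.Helper43.EtOpenSub
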