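import Mathlib
import Groth.Prelude.Def_EtBase
import Groth.Agent.H53.PointsDetect
import Groth.Agent.Lib.Helper43.EtOpenSub

/-!
# Geometric points of the small étale site detect coverings; mono/epi/exactness on stalks

Uses helper53's generic `Groth.Agent.H53.isLocallyInjective_of_points` / `isLocallySurjective_of_points`.
-/

set_option autoImplicit false
universe u
open CategoryTheory CategoryTheory.Limits AlgebraicGeometry Opposite
open scoped ZeroObject

namespace Groth.Agent.Lib.Helper43.EtStalk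

instance forgetPresFiltered : PreservesFilteredColimitsOfSize.{u, u} (forget AddCommGrpCat.{u + 1}) :=
  preservesFilteredColimitsOfSize_shrink.{u, u + 1, u, u + 1} _

instance ab5Ab : AB5OfSize.{u, u} AddCommGrpCat.{u + 1} :=
  AB5OfSize_shrink.{u, u, u + 1, u + 1} AddCommGrpCat.{u + 1}

instance ab5Type : AB5OfSize.{u, u} (Type (u + 1)) :=
  AB5OfSize_shrink.{u, u, u + 1, u + 1} (Type (u + 1))

variable {X : Scheme.{u}}

/-- the family of all geometric points of `X` -/
def geomPts (X : Scheme.{u}) : Set (GrothendieckTopology.Point.{u} X.smallEtaleTopology) :=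
  {Φ | ∃ (Ω : Type u) (_ : Field Ω) (_ : IsSepClosed Ω) (ξ : Spec (CommRingCat.of Ω) ⟶ X),
    Φ = Scheme.pointSmallEtale ξ}

lemma mem_geomPts {Ω : Type u} [Field Ω] [IsSepClosed Ω] (ξ : Spec (CommRingCat.of Ω) ⟶ X) :
    Scheme.pointSmallEtale ξ ∈ geomPts X := ⟨Ω, _, _, ξ, rfl⟩

theorem detectsCoverings_geomPts : Groth.Agent.H53.DetectsCoverings (geomPts X) := by
  intro U R hR
  rw [EtOpenSub.mem_smallEtaleTopology_iff']
  intro x
  let s₀ : X := U.hom x
  let Ω := SeparableClosure (X.residueField s₀)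
  let s : Spec (CommRingCat.of Ω) ⟶ X :=
    (Scheme.SpecToEquivOfField Ω X).2 ⟨s₀, CommRingCat.ofHom (algebraMap (X.residueField s₀) Ω)⟩
  have hs₀ : s default = s₀ := by simp [s, Scheme.SpecToEquivOfField]
  obtain ⟨x', hx'⟩ := Scheme.pointSmallEtaleFiberObjToPreimage_surjective s hs₀ U ⟨x, rfl⟩
  rw [Subtype.ext_iff] at hx'
  obtain ⟨V, f, hf, y, hy⟩ := hR _ (mem_geomPts s) x'
  refine ⟨V, f, (Scheme.pointSmallEtaleFiberObjToPreimage s hs₀ y).1, hf, ?_⟩
  have hx'' : (Scheme.pointSmallEtaleFiberObjToPreimage s hs₀ x').1 = x := hx'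
  rw [← hx'', ← hy]
  rfl

section TypeValued

variable {F G : Sheaf X.smallEtaleTopology (Type (u + 1))} (v : F ⟶ G)

theorem mono_of_stalks_type
    (h : ∀ (Ω : Type u) [Field Ω] [IsSepClosed Ω] (ξ : Spec (CommRingCat.of Ω) ⟶ X),
      Function.Injective (((Scheme.pointSmallEtale ξ).sheafFiber (A := Type (u + 1))).map v)) :
    Mono v := by
  have : Presheaf.IsLocallyInjective X.smallEtaleTopology v.hom :=
    Groth.Agent.H53.isLocallyInjective_of_points detectsCoverings_geomPts v.hom (by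
      rintro Φ ⟨Ω, _, _, ξ, rfl⟩
      exact h Ω ξ)
  exact Sheaf.mono_of_isLocallyInjective v

theorem epi_of_stalks_type
    (h : ∀ (Ω : Type u) [Field Ω] [IsSepClosed Ω] (ξ : Spec (CommRingCat.of Ω) ⟶ X),
      Function.Surjective (((Scheme.pointSmallEtale ξ).sheafFiber (A := Type (u + 1))).map v)) :
    Epi v := by
  have : Presheaf.IsLocallySurjective X.smallEtaleTopology v.hom :=
    Groth.Agent.H53.isLocallySurjective_of_points detectsCoverings_geomPts v.hom (by
      rintro Φ ⟨Ω, _, _, ξ, rfl⟩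
      exact h Ω ξ)
  exact Sheaf.epi_of_isLocallySurjective' v

theorem mono_iff_stalks_type :
    Mono v ↔ ∀ (Ω : Type u) [Field Ω] [IsSepClosed Ω] (ξ : Spec (CommRingCat.of Ω) ⟶ X),
      Function.Injective (((Scheme.pointSmallEtale ξ).sheafFiber (A := Type (u + 1))).map v) := by
  refine ⟨fun hv Ω _ _ ξ => ?_, mono_of_stalks_type v⟩
  exact (mono_iff_injective _).1 inferInstance

theorem epi_iff_stalks_type :
    Epi v ↔ ∀ (Ω : Type u) [Field Ω] [IsSepClosed Ω] (ξ : Spec (CommRingCat.of Ω) ⟶ X),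
      Function.Surjective (((Scheme.pointSmallEtale ξ).sheafFiber (A := Type (u + 1))).map v) := by
  refine ⟨fun hv Ω _ _ ξ => ?_, epi_of_stalks_type v⟩
  exact (epi_iff_surjective _).1 inferInstance

end TypeValued

section Ab

variable {F G : Sheaf X.smallEtaleTopology AddCommGrpCat.{u + 1}} (v : F ⟶ G)

theorem mono_of_stalks_ab
    (h : ∀ (Ω : Type u) [Field Ω] [IsSepClosed Ω] (ξ : Spec (CommRingCat.of Ω) ⟶ X),
      Function.Injective (((Scheme.pointSmallEtale ξ).sheafFiber (A := AddCommGrpCat.{u + 1})).map v)) :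
    Mono v := by
  have : Presheaf.IsLocallyInjective X.smallEtaleTopology v.hom :=
    Groth.Agent.H53.isLocallyInjective_of_points detectsCoverings_geomPts v.hom (by
      rintro Φ ⟨Ω, _, _, ξ, rfl⟩
      exact h Ω ξ)
  exact Sheaf.mono_of_isLocallyInjective v

theorem epi_of_stalks_ab
    (h : ∀ (Ω : Type u) [Field Ω] [IsSepClosed Ω] (ξ : Spec (CommRingCat.of Ω) ⟶ X),
      Function.Surjective (((Scheme.pointSmallEtale ξ).sheafFiber (A := AddCommGrpCat.{u + 1})).map v)) :
    Epi v := by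
  have : Presheaf.IsLocallySurjective X.smallEtaleTopology v.hom :=
    Groth.Agent.H53.isLocallySurjective_of_points detectsCoverings_geomPts v.hom (by
      rintro Φ ⟨Ω, _, _, ξ, rfl⟩
      exact h Ω ξ)
  exact Sheaf.epi_of_isLocallySurjective v

theorem mono_iff_stalks_ab :
    Mono v ↔ ∀ (Ω : Type u) [Field Ω] [IsSepClosed Ω] (ξ : Spec (CommRingCat.of Ω) ⟶ X),
      Function.Injective (((Scheme.pointSmallEtale ξ).sheafFiber (A := AddCommGrpCat.{u + 1})).map v) := by
  refine ⟨fun hv Ω _ _ ξ => ?_, mono_of_stalks_ab v⟩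
  exact (AddCommGrpCat.mono_iff_injective _).1 inferInstance

theorem epi_iff_stalks_ab :
    Epi v ↔ ∀ (Ω : Type u) [Field Ω] [IsSepClosed Ω] (ξ : Spec (CommRingCat.of Ω) ⟶ X),
      Function.Surjective (((Scheme.pointSmallEtale ξ).sheafFiber (A := AddCommGrpCat.{u + 1})).map v) := by
  refine ⟨fun hv Ω _ _ ξ => ?_, epi_of_stalks_ab v⟩
  exact (AddCommGrpCat.epi_iff_surjective _).1 inferInstance

theorem isZero_of_stalks_ab (H : Sheaf X.smallEtaleTopology AddCommGrpCat.{u + 1})
    (h : ∀ (Ω : Type u) [Field Ω] [IsSepClosed Ω] (ξ : Spec (CommRingCat.of Ω) ⟶ X),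
      IsZero (((Scheme.pointSmallEtale ξ).sheafFiber (A := AddCommGrpCat.{u + 1})).obj H)) :
    IsZero H := by
  have : Mono (0 : H ⟶ 0) := mono_of_stalks_ab _ (fun Ω _ _ ξ x y _ => by
    have := AddCommGrpCat.subsingleton_of_isZero (h Ω ξ)
    exact Subsingleton.elim _ _)
  exact IsZero.of_mono (0 : H ⟶ 0) (isZero_zero _)

instance additive_sheafFiber {Ω : Type u} [Field Ω] [IsSepClosed Ω] (ξ : Spec (CommRingCat.of Ω) ⟶ X) :
    ((Scheme.pointSmallEtale ξ).sheafFiber (A := AddCommGrpCat.{u + 1})).Additive :=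
  Functor.additive_of_preserves_binary_products _

theorem exact_iff_stalks_ab (S : ShortComplex (Sheaf X.smallEtaleTopology AddCommGrpCat.{u + 1})) :
    S.Exact ↔ ∀ (Ω : Type u) [Field Ω] [IsSepClosed Ω] (ξ : Spec (CommRingCat.of Ω) ⟶ X),
      (S.map ((Scheme.pointSmallEtale ξ).sheafFiber (A := AddCommGrpCat.{u + 1}))).Exact := by
  constructor
  · intro hS Ω _ _ ξ
    exact hS.map _
  · intro h
    rw [S.exact_iff_isZero_homology]
    apply isZero_of_stalks_ab
    intro Ω _ _ ξ
    have h1 := (h Ω ξ)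
    rw [ShortComplex.exact_iff_isZero_homology] at h1
    exact IsZero.of_iso h1 (S.mapHomologyIso _).symm

end Ab

end Groth.Agent.Lib.Helper43.EtStalk
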