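import Mathlib

set_option autoImplicit false

namespace Groth.Agent.Lib.Helper43.ConstRestr

open CategoryTheory Limits Opposite

universe v₁ v₂ u₁ u₂ v u

section General
variable {C : Type u₁} [Category.{v₁} C] {D : Type u₂} [Category.{v₂} D]
  (J : GrothendieckTopology C) (K : GrothendieckTopology D)
  (A : Type u) [Category.{v} A]
  (G : C ⥤ D) [G.IsContinuous J K] [G.IsCocontinuous J K]
  [∀ (F : Cᵒᵖ ⥤ A), G.op.HasPointwiseRightKanExtension F]
  [HasWeakSheafify J A] [HasWeakSheafify K A]

/-- Restriction of a constant sheaf along a continuous and cocontinuous functor is constant. -/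
noncomputable def constRestrIso :
    constantSheaf K A ⋙ G.sheafPushforwardContinuous A J K ≅ constantSheaf J A :=
  Functor.isoWhiskerLeft (Functor.const Dᵒᵖ)
      (G.pushforwardContinuousSheafificationCompatibility A J K).symm ≪≫
    (Functor.associator _ _ _).symm ≪≫
    Functor.isoWhiskerRight
      (NatIso.ofComponents (fun M => NatIso.ofComponents (fun _ => Iso.refl _)) :
        Functor.const Dᵒᵖ ⋙ (Functor.whiskeringLeft Cᵒᵖ Dᵒᵖ A).obj G.op ≅ Functor.const Cᵒᵖ)
      (presheafToSheaf J A)

end General

section Over
variable {C : Type u₁} [Category.{v₁} C] (J : GrothendieckTopology C)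
  (A : Type u) [Category.{v} A]

/-- Transport of a trivialization along a morphism `W ⟶ U`. -/
theorem nonempty_over_iso_const_of_hom (F : Sheaf J A) {U W : C} (g : W ⟶ U) (M : A)
    [∀ (P : (Over W)ᵒᵖ ⥤ A), (Over.map g).op.HasPointwiseRightKanExtension P]
    [HasWeakSheafify (J.over W) A] [HasWeakSheafify (J.over U) A]
    (e : F.over U ≅ (constantSheaf (J.over U) A).obj M) :
    Nonempty (F.over W ≅ (constantSheaf (J.over W) A).obj M) :=
  ⟨(F.pushforwardOverMapIso g).symm ≪≫
    ((Over.map g).sheafPushforwardContinuous A (J.over W) (J.over U)).mapIso e ≪≫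
    (constRestrIso (J.over W) (J.over U) A (Over.map g)).app M⟩

/-- The restriction of a constant sheaf to a slice is the constant sheaf of the slice. -/
noncomputable def constOverIso (U : C)
    [∀ (P : (Over U)ᵒᵖ ⥤ A), (Over.forget U).op.HasPointwiseRightKanExtension P]
    [HasWeakSheafify (J.over U) A] [HasWeakSheafify J A] :
    constantSheaf J A ⋙ J.overPullback A U ≅ constantSheaf (J.over U) A :=
  constRestrIso (J.over U) J A (Over.forget U)

end Over

end Groth.Agent.Lib.Helper43.ConstRestr
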