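import Mathlib

/-!
# Elementary properties of constant sheaves of modules on a site

`cst J M W : M ⟶ K_M(W)` the constant sections, `locally_cst` every section of the constant sheaf is
locally constant, `cst_injective` constant sections are faithful over objects without empty covers.
-/

set_option autoImplicit false
universe v v₁ u₁ w
open CategoryTheory CategoryTheory.Limits Opposite

namespace Groth.Agent.Lib.Helper43.ConstSheafMod

variable {Λ : Type w} [Ring Λ] {C : Type u₁} [Category.{v₁} C] (J : GrothendieckTopology C)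
  [HasWeakSheafify J (ModuleCat.{v} Λ)] [J.WEqualsLocallyBijective (ModuleCat.{v} Λ)]

/-- the constant presheaf -/
abbrev cpsh (M : (ModuleCat.{v} Λ)) : Cᵒᵖ ⥤ (ModuleCat.{v} Λ) := (Functor.const Cᵒᵖ).obj M

/-- the constant sheaf -/
noncomputable abbrev K (M : (ModuleCat.{v} Λ)) : Sheaf J (ModuleCat.{v} Λ) :=
  (constantSheaf J (ModuleCat.{v} Λ)).obj M

/-- constant sections -/
noncomputable def cst (M : (ModuleCat.{v} Λ)) (W : C) : M ⟶ (K J M).obj.obj (op W) :=
  (toSheafify J (cpsh M)).app (op W)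

omit [J.WEqualsLocallyBijective (ModuleCat.{v} Λ)] in
lemma cst_map (M : (ModuleCat.{v} Λ)) {W W' : C} (f : W' ⟶ W) (m : M) :
    (K J M).obj.map f.op (cst J M W m) = cst J M W' m := by
  have h := (toSheafify J (cpsh M)).naturality f.op
  have h' := congrArg (fun t => t.hom m) h
  exact h'.symm

omit [J.WEqualsLocallyBijective (ModuleCat.{v} Λ)] in
lemma constantSheaf_map_cst {M N : (ModuleCat.{v} Λ)} (h : M ⟶ N) (W : C) (m : M) :
    ((constantSheaf J (ModuleCat.{v} Λ)).map h).hom.app (op W) (cst J M W m) = cst J N W (h m) := by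
  have h1 := toSheafify_naturality J ((Functor.const Cᵒᵖ).map h)
  have h2 := congrArg (fun t => (t.app (op W)).hom m) h1
  exact h2.symm

lemma locally_cst (M : (ModuleCat.{v} Λ)) {W : C} (s : (K J M).obj.obj (op W)) :
    ∃ S : Sieve W, S ∈ J W ∧ ∀ ⦃W' : C⦄ (f : W' ⟶ W), S f →
      ∃ m : M, (K J M).obj.map f.op s = cst J M W' m := by
  refine ⟨Presheaf.imageSieve (toSheafify J (cpsh M)) s,
    Presheaf.imageSieve_mem J (toSheafify J (cpsh M)) s, ?_⟩
  intro W' f hf
  obtain ⟨m, hm⟩ := hf
  exact ⟨m, hm.symm⟩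

lemma cst_injective (M : (ModuleCat.{v} Λ)) (W : C)
    (hW : ∀ S : Sieve W, S ∈ J W → ∃ (W' : C) (f : W' ⟶ W), S f) :
    Function.Injective (cst J M W) := by
  intro m m' h
  have hmem := Presheaf.equalizerSieve_mem J (toSheafify J (cpsh M)) (X := op W) m m' h
  obtain ⟨W', f, hf⟩ := hW _ hmem
  exact hf

end Groth.Agent.Lib.Helper43.ConstSheafMod
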