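import Mathlib
import Groth.Agent.Lib.Helper43.ConstSheaf
import Groth.Agent.Lib.Helper43.ConstRestr

/-!
# Morphisms out of constant sheaves (abelian groups), restriction of trivializations

* `K_hom_ext`, `K_desc`, `K_desc_cst`: maps out of a constant sheaf on a site with terminal object;
* `constRestrIso_hom_cst`: `constRestrIso` maps constant sections to constant sections;
* `transport`: transport of a trivialization `F.over U ≅ K M` along `W ⟶ U`, with formulas on sections;
* exactness of `overPullback` and `constantSheaf`.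
-/

set_option autoImplicit false
universe v v₁ v₂ u₁ u₂
open CategoryTheory CategoryTheory.Limits Opposite

namespace Groth.Agent.Lib.Helper43.LCHom

open Groth.Agent.Lib.Helper43.ConstSheaf Groth.Agent.Lib.Helper43.ConstRestr

section General

variable {C : Type u₁} [Category.{v₁} C] (J : GrothendieckTopology C)
  [HasWeakSheafify J AddCommGrpCat.{v}]

/-- Maps out of a constant sheaf are determined by their values on constants at a terminal object. -/
lemma K_hom_ext {T : C} (hT : IsTerminal T) {M : AddCommGrpCat.{v}} {G : Sheaf J AddCommGrpCat.{v}}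
    (f g : K J M ⟶ G)
    (h : ∀ m : M, f.hom.app (op T) (cst J M T m) = g.hom.app (op T) (cst J M T m)) : f = g := by
  apply Sheaf.hom_ext
  apply sheafify_hom_ext _ _ _ G.property
  ext ⟨V⟩ m
  have e1 : (toSheafify J (cpsh M)).app (op V) m =
      (K J M).obj.map (hT.from V).op (cst J M T m) := (cst_map J M (hT.from V) m).symm
  have e2 : ∀ (k : K J M ⟶ G), k.hom.app (op V) ((K J M).obj.map (hT.from V).op (cst J M T m)) =
      G.obj.map (hT.from V).op (k.hom.app (op T) (cst J M T m)) := fun k =>
    congrArg (fun t => t.hom (cst J M T m)) (k.hom.naturality (hT.from V).op)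
  change f.hom.app (op V) ((toSheafify J (cpsh M)).app (op V) m) =
    g.hom.app (op V) ((toSheafify J (cpsh M)).app (op V) m)
  rw [e1, e2 f, e2 g, h m]

/-- the map out of the constant sheaf with prescribed values on constants at the terminal object -/
noncomputable def K_desc {T : C} (hT : IsTerminal T) {M : AddCommGrpCat.{v}}
    {G : Sheaf J AddCommGrpCat.{v}} (t : M ⟶ G.obj.obj (op T)) : K J M ⟶ G :=
  ⟨sheafifyLift J
    { app := fun V => t ≫ G.obj.map (hT.from V.unop).op
      naturality := by
        intro V V' f
        dsimp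
        rw [Category.id_comp, Category.assoc, ← G.obj.map_comp]
        congr 2
        apply Quiver.Hom.unop_inj
        exact hT.hom_ext _ _ } G.property⟩

lemma K_desc_cst {T : C} (hT : IsTerminal T) {M : AddCommGrpCat.{v}}
    {G : Sheaf J AddCommGrpCat.{v}} (t : M ⟶ G.obj.obj (op T)) (m : M) :
    (K_desc J hT t).hom.app (op T) (cst J M T m) = t m := by
  have h := toSheafify_sheafifyLift J
    ({ app := fun V => t ≫ G.obj.map (hT.from V.unop).op
       naturality := by
        intro V V' f
        dsimp
        rw [Category.id_comp, Category.assoc, ← G.obj.map_comp]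
        congr 2
        apply Quiver.Hom.unop_inj
        exact hT.hom_ext _ _ } : cpsh M ⟶ G.obj) G.property
  have h' := congrArg (fun k => (k.app (op T)).hom m) h
  have e : hT.from T = 𝟙 T := hT.hom_ext _ _
  refine h'.trans ?_
  change G.obj.map (hT.from T).op (t m) = t m
  rw [e]
  simp

end General

section Restr

variable {C : Type u₁} [Category.{v₁} C] {D : Type u₂} [Category.{v₂} D]
  (J : GrothendieckTopology C) (L : GrothendieckTopology D)
  (G : C ⥤ D) [G.IsContinuous J L] [G.IsCocontinuous J L]

section
variable (A : Type*) [Category A]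
  [∀ (F : Cᵒᵖ ⥤ A), G.op.HasPointwiseRightKanExtension F]
  [HasWeakSheafify J A] [HasWeakSheafify L A]

set_option backward.isDefEq.respectTransparency false in
/-- `constRestrIso` is compatible with the canonical maps from the value object. -/
lemma toSheafify_constRestrIso (M : A) (V : C) :
    (toSheafify L ((Functor.const Dᵒᵖ).obj M)).app (op (G.obj V)) ≫
      ((constRestrIso J L A G).hom.app M).hom.app (op V) =
    (toSheafify J ((Functor.const Cᵒᵖ).obj M)).app (op V) := by
  let P : Dᵒᵖ ⥤ A := (Functor.const Dᵒᵖ).obj M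
  let η : G.op ⋙ P ⟶ (Functor.const Cᵒᵖ).obj M := { app := fun _ => 𝟙 _ }
  have key := G.toSheafify_pullbackSheafificationCompatibility A J L P
  have key2 : Functor.whiskerLeft G.op (toSheafify L P) ≫
      ((G.pushforwardContinuousSheafificationCompatibility A J L).inv.app P).hom =
      toSheafify J (G.op ⋙ P) := by
    rw [← key, Category.assoc]
    have : ((G.pushforwardContinuousSheafificationCompatibility A J L).hom.app P).hom ≫
        ((G.pushforwardContinuousSheafificationCompatibility A J L).inv.app P).hom = 𝟙 _ := by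
      rw [← ObjectProperty.FullSubcategory.comp_hom, Iso.hom_inv_id_app]
      rfl
    rw [this]
    exact Category.comp_id _
  have key3 := congrArg (fun t => t.app (op V)) key2
  have nat := congrArg (fun t => t.app (op V)) (toSheafify_naturality J η)
  have e : ((constRestrIso J L A G).hom.app M).hom.app (op V) =
      ((G.pushforwardContinuousSheafificationCompatibility A J L).inv.app P).hom.app (op V) ≫
        (sheafifyMap J η).app (op V) := by
    simp [constRestrIso, P, η]
    rfl
  rw [e]
  dsimp at key3 nat ⊢
  rw [← Category.assoc, key3, ← nat]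
  simp [η]

end

section
variable [HasWeakSheafify J AddCommGrpCat.{v}] [HasWeakSheafify L AddCommGrpCat.{v}]
  [∀ (F : Cᵒᵖ ⥤ AddCommGrpCat.{v}), G.op.HasPointwiseRightKanExtension F]

lemma constRestrIso_hom_cst (M : AddCommGrpCat.{v}) (V : C) (m : M) :
    ((constRestrIso J L AddCommGrpCat.{v} G).hom.app M).hom.app (op V) (cst L M (G.obj V) m) =
      cst J M V m :=
  congrArg (fun t => t.hom m) (toSheafify_constRestrIso J L G AddCommGrpCat.{v} M V)

lemma constRestrIso_inv_cst (M : AddCommGrpCat.{v}) (V : C) (m : M) :
    ((constRestrIso J L AddCommGrpCat.{v} G).inv.app M).hom.app (op V) (cst J M V m) =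
      cst L M (G.obj V) m := by
  rw [← constRestrIso_hom_cst J L G M V m]
  exact congrArg (fun t => t.hom.app (op V) (cst L M (G.obj V) m))
    ((constRestrIso J L AddCommGrpCat.{v} G).hom_inv_id_app M)

end

end Restr

section Over

variable {C : Type u₁} [Category.{v₁} C] (J : GrothendieckTopology C)

section
variable (A : Type*) [Category A]

/-- Transport of a trivialization along `g : W ⟶ U`. -/
noncomputable def transport (F : Sheaf J A) {U W : C} (g : W ⟶ U) (M : A)
    [∀ (P : (Over W)ᵒᵖ ⥤ A), (Over.map g).op.HasPointwiseRightKanExtension P]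
    [HasWeakSheafify (J.over W) A] [HasWeakSheafify (J.over U) A]
    (e : F.over U ≅ (constantSheaf (J.over U) A).obj M) :
    F.over W ≅ (constantSheaf (J.over W) A).obj M :=
  (F.pushforwardOverMapIso g).symm ≪≫
    ((Over.map g).sheafPushforwardContinuous A (J.over W) (J.over U)).mapIso e ≪≫
    (constRestrIso (J.over W) (J.over U) A (Over.map g)).app M

end

variable {U W : C} (g : W ⟶ U)
  [∀ (P : (Over W)ᵒᵖ ⥤ AddCommGrpCat.{v}), (Over.map g).op.HasPointwiseRightKanExtension P]
  [HasWeakSheafify (J.over W) AddCommGrpCat.{v}] [HasWeakSheafify (J.over U) AddCommGrpCat.{v}]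

/-- If `α⁻¹ ≫ φ|U ≫ β` maps constants to constants (through `h`) over the object
`(Over.map g).obj (𝟙 W)`, then over `W`, with the transported trivializations, `φ` is induced by `h`. -/
theorem restrict_form {F G : Sheaf J AddCommGrpCat.{v}} (φ : F ⟶ G) {M N : AddCommGrpCat.{v}}
    (α : F.over U ≅ K (J.over U) M) (β : G.over U ≅ K (J.over U) N) (h : M ⟶ N)
    (hyp : ∀ m : M, (α.inv ≫ (J.overPullback AddCommGrpCat.{v} U).map φ ≫ β.hom).hom.app
        (op ((Over.map g).obj (Over.mk (𝟙 W))))
        (cst (J.over U) M ((Over.map g).obj (Over.mk (𝟙 W))) m) =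
      cst (J.over U) N ((Over.map g).obj (Over.mk (𝟙 W))) (h m)) :
    (J.overPullback AddCommGrpCat.{v} W).map φ ≫ (transport J AddCommGrpCat.{v} G g N β).hom =
      (transport J AddCommGrpCat.{v} F g M α).hom ≫
        (constantSheaf (J.over W) AddCommGrpCat.{v}).map h := by
  let R := (Over.map g).sheafPushforwardContinuous AddCommGrpCat.{v} (J.over W) (J.over U)
  let c := constRestrIso (J.over W) (J.over U) AddCommGrpCat.{v} (Over.map g)
  let ψ := α.inv ≫ (J.overPullback AddCommGrpCat.{v} U).map φ ≫ β.hom
  have hψ : (J.overPullback AddCommGrpCat.{v} U).map φ ≫ β.hom = α.hom ≫ ψ := by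
    simp [ψ]
  have key' : c.inv.app M ≫ R.map ψ ≫ c.hom.app N =
      (constantSheaf (J.over W) AddCommGrpCat.{v}).map h := by
    apply K_hom_ext (J.over W) Over.mkIdTerminal
    intro m
    have e1 := constRestrIso_inv_cst (J.over W) (J.over U) (Over.map g) M (Over.mk (𝟙 W)) m
    have e2 := constRestrIso_hom_cst (J.over W) (J.over U) (Over.map g) N (Over.mk (𝟙 W)) (h m)
    have e3 := constantSheaf_map_cst (J.over W) h (Over.mk (𝟙 W)) m
    rw [e3]
    change (c.hom.app N).hom.app (op (Over.mk (𝟙 W)))
      (ψ.hom.app (op ((Over.map g).obj (Over.mk (𝟙 W))))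
        ((c.inv.app M).hom.app (op (Over.mk (𝟙 W))) (cst (J.over W) M (Over.mk (𝟙 W)) m))) = _
    rw [e1, hyp m, e2]
  have key : R.map ψ ≫ c.hom.app N =
      c.hom.app M ≫ (constantSheaf (J.over W) AddCommGrpCat.{v}).map h := by
    rw [← key']
    simp
  have nat : (J.overPullback AddCommGrpCat.{v} W).map φ ≫ (G.pushforwardOverMapIso g).inv =
      (F.pushforwardOverMapIso g).inv ≫ R.map ((J.overPullback AddCommGrpCat.{v} U).map φ) := by
    ext V
    simp [R, Sheaf.pushforwardOverMapIso]
    rfl
  change (J.overPullback AddCommGrpCat.{v} W).map φ ≫ (G.pushforwardOverMapIso g).inv ≫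
      R.map β.hom ≫ c.hom.app N =
    ((F.pushforwardOverMapIso g).inv ≫ R.map α.hom ≫ c.hom.app M) ≫
      (constantSheaf (J.over W) AddCommGrpCat.{v}).map h
  rw [← Category.assoc, nat, Category.assoc, ← Category.assoc (R.map _), ← R.map_comp, hψ,
    R.map_comp, Category.assoc, key]
  simp

/-- the canonical map `(Over.map g)(𝟙 W) ⟶ 𝟙 U` in `Over U` -/
abbrev termMap : (Over.map g).obj (Over.mk (𝟙 W)) ⟶ Over.mk (𝟙 U) :=
  Over.homMk g (by simp)

lemma transport_hom_app {F : Sheaf J AddCommGrpCat.{v}} {M : AddCommGrpCat.{v}}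
    (e : F.over U ≅ K (J.over U) M) (V : Over W) (x : (F.over W).obj.obj (op V)) :
    (transport J AddCommGrpCat.{v} F g M e).hom.hom.app (op V) x =
      ((constRestrIso (J.over W) (J.over U) AddCommGrpCat.{v} (Over.map g)).hom.app M).hom.app (op V)
        (e.hom.hom.app (op ((Over.map g).obj V)) x) := rfl

lemma transport_inv_cst {F : Sheaf J AddCommGrpCat.{v}} {M : AddCommGrpCat.{v}}
    (e : F.over U ≅ K (J.over U) M) (V : Over W) (m : M) :
    (transport J AddCommGrpCat.{v} F g M e).inv.hom.app (op V) (cst (J.over W) M V m) =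
      e.inv.hom.app (op ((Over.map g).obj V)) (cst (J.over U) M ((Over.map g).obj V) m) := by
  have h1 : (transport J AddCommGrpCat.{v} F g M e).hom.hom.app (op V)
      (e.inv.hom.app (op ((Over.map g).obj V)) (cst (J.over U) M ((Over.map g).obj V) m)) =
      cst (J.over W) M V m := by
    rw [transport_hom_app]
    have e1 : e.hom.hom.app (op ((Over.map g).obj V))
        (e.inv.hom.app (op ((Over.map g).obj V)) (cst (J.over U) M ((Over.map g).obj V) m)) =
        cst (J.over U) M ((Over.map g).obj V) m :=
      congrArg (fun t => t.hom.app (op ((Over.map g).obj V))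
        (cst (J.over U) M ((Over.map g).obj V) m)) e.inv_hom_id
    rw [e1]
    exact constRestrIso_hom_cst (J.over W) (J.over U) (Over.map g) M V m
  rw [← h1]
  exact congrArg (fun t => t.hom.app (op V)
    (e.inv.hom.app (op ((Over.map g).obj V)) (cst (J.over U) M ((Over.map g).obj V) m)))
    (transport J AddCommGrpCat.{v} F g M e).hom_inv_id

/-- restriction of the section corresponding to a constant is the corresponding section for the
transported trivialization -/
lemma restrict_inv_cst {F : Sheaf J AddCommGrpCat.{v}} {M : AddCommGrpCat.{v}}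
    (e : F.over U ≅ K (J.over U) M) (m : M) :
    F.obj.map g.op (e.inv.hom.app (op (Over.mk (𝟙 U))) (cst (J.over U) M (Over.mk (𝟙 U)) m)) =
      (transport J AddCommGrpCat.{v} F g M e).inv.hom.app (op (Over.mk (𝟙 W)))
        (cst (J.over W) M (Over.mk (𝟙 W)) m) := by
  rw [transport_inv_cst]
  have nat := congrArg (fun t => t.hom (cst (J.over U) M (Over.mk (𝟙 U)) m))
    (e.inv.hom.naturality (termMap g).op)
  have e2 := cst_map (J.over U) M (termMap g) m
  rw [← e2]
  exact nat.symm

/-- a section whose image under the trivialization restricts to a constant restricts to the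
corresponding section for the transported trivialization -/
lemma restrict_eq_of_const {F : Sheaf J AddCommGrpCat.{v}} {M : AddCommGrpCat.{v}}
    (e : F.over U ≅ K (J.over U) M) (x : F.obj.obj (op U)) (a : M)
    (hx : (K (J.over U) M).obj.map (termMap g).op (e.hom.hom.app (op (Over.mk (𝟙 U))) x) =
      cst (J.over U) M ((Over.map g).obj (Over.mk (𝟙 W))) a) :
    F.obj.map g.op x = (transport J AddCommGrpCat.{v} F g M e).inv.hom.app (op (Over.mk (𝟙 W)))
        (cst (J.over W) M (Over.mk (𝟙 W)) a) := by
  rw [transport_inv_cst, ← hx]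
  have nat := congrArg (fun t => t.hom x) (e.hom.hom.naturality (termMap g).op)
  have h1 : (K (J.over U) M).obj.map (termMap g).op (e.hom.hom.app (op (Over.mk (𝟙 U))) x) =
      e.hom.hom.app (op ((Over.map g).obj (Over.mk (𝟙 W)))) (F.obj.map g.op x) := nat.symm
  rw [h1]
  exact (congrArg (fun t => t.hom.app (op ((Over.map g).obj (Over.mk (𝟙 W)))) (F.obj.map g.op x))
    e.hom_inv_id).symm

end Over

section Exact

variable {C : Type u₁} [Category.{v₁} C] {D : Type u₂} [Category.{v₂} D]
  (J : GrothendieckTopology C) (L : GrothendieckTopology D)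
  (G : C ⥤ D) [G.IsContinuous J L] (A : Type*) [Category A]

lemma preservesLimitsOfShape_sheafPushforwardContinuous (I : Type*) [Category I]
    [HasLimitsOfShape I A] :
    PreservesLimitsOfShape I (G.sheafPushforwardContinuous A J L) := by
  have : PreservesLimitsOfShape I (G.sheafPushforwardContinuous A J L ⋙ sheafToPresheaf J A) :=
    preservesLimitsOfShape_of_natIso (G.sheafPushforwardContinuousCompSheafToPresheafIso A J L).symm
  exact preservesLimitsOfShape_of_reflects_of_preserves _ (sheafToPresheaf J A)

lemma preservesFiniteLimits_sheafPushforwardContinuous [HasFiniteLimits A] :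
    PreservesFiniteLimits (G.sheafPushforwardContinuous A J L) :=
  ⟨fun I _ _ => preservesLimitsOfShape_sheafPushforwardContinuous J L G A I⟩

lemma isLeftAdjoint_sheafPushforwardContinuous [G.IsCocontinuous J L]
    [∀ (F : Cᵒᵖ ⥤ A), G.op.HasPointwiseRightKanExtension F] :
    (G.sheafPushforwardContinuous A J L).IsLeftAdjoint :=
  (G.sheafAdjunctionCocontinuous A J L).isLeftAdjoint

lemma preservesFiniteLimits_constantSheaf [HasSheafify J AddCommGrpCat.{v}] :
    PreservesFiniteLimits (constantSheaf J AddCommGrpCat.{v}) := by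
  unfold constantSheaf
  infer_instance

lemma preservesFiniteColimits_constantSheaf [HasSheafify J AddCommGrpCat.{v}] :
    PreservesFiniteColimits (constantSheaf J AddCommGrpCat.{v}) := by
  unfold constantSheaf
  infer_instance

end Exact

end Groth.Agent.Lib.Helper43.LCHom
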