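import Mathlib
import Groth.Prelude
import Groth.Agent.Lib.Helper43.ConstSheaf
import Groth.Agent.Lib.Helper43.ConstRestr
import Groth.Agent.Lib.Helper43.LCHom
import Groth.Agent.Lib.Helper43.EtOpenSub

/-!
# Maps between locally constant abelian sheaves on the small étale site are locally constant
-/

set_option autoImplicit false
universe u
open CategoryTheory CategoryTheory.Limits AlgebraicGeometry Opposite

namespace Groth.Agent.Lib.Helper43.EtLCHom

open Groth.Agent.Lib.Helper43 Groth.Agent.Lib.Helper43.ConstSheaf Groth.Agent.Lib.Helper43.LCHom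

variable {X : Scheme.{u}}

/-- covering sieves of an object of the over site have members through every point -/
lemma over_exists_arrow (W : X.Etale) (Y : Over W) (y : Y.left.left)
    (S : Sieve Y) (hS : S ∈ (X.smallEtaleTopology.over W) Y) :
    ∃ (V : X.Etale) (f : V ⟶ Y.left) (v : V.left), f.left v = y ∧
      S (Over.homMk f rfl : Over.mk (f ≫ Y.hom) ⟶ Y) := by
  have hS' : Sieve.overEquiv Y S ∈ X.smallEtaleTopology Y.left := hS
  obtain ⟨V, f, v, hf, hv⟩ := (EtOpenSub.mem_smallEtaleTopology_iff' Y.left _).1 hS' y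
  exact ⟨V, f, v, hv, (Sieve.overEquiv_iff S f).1 hf⟩

lemma cst_injective_over (W : X.Etale) (M : AddCommGrpCat.{u + 1}) (Y : Over W)
    (hY : Nonempty Y.left.left) :
    Function.Injective (cst.{u + 1} (X.smallEtaleTopology.over W) M Y) := by
  apply cst_injective.{u + 1}
  intro S hS
  obtain ⟨y⟩ := hY
  obtain ⟨V, f, v, -, hf⟩ := over_exists_arrow W Y y S hS
  exact ⟨_, _, hf⟩

lemma iInf_mem {C : Type*} [Category C] (J : GrothendieckTopology C) {W : C} {ι : Type*} [Finite ι]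
    (S : ι → Sieve W) (hS : ∀ i, S i ∈ J W) : (⨅ i, S i) ∈ J W := by
  classical
  have := Fintype.ofFinite ι
  have : ∀ s : Finset ι, (⨅ i ∈ s, S i) ∈ J W := by
    intro s
    induction s using Finset.induction_on with
    | empty => simp
    | insert a s ha ih =>
      rw [Finset.iInf_insert]
      exact J.intersection_covering (hS a) ih
  simpa using this Finset.univ

/-- A map between constant sheaves with finite source is, locally around any point, induced by a
homomorphism. -/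
theorem exists_hom (W : X.Etale) (z : W.left) {M N : AddCommGrpCat.{u + 1}} [Finite M]
    (ψ : K.{u + 1} (X.smallEtaleTopology.over W) M ⟶ K.{u + 1} (X.smallEtaleTopology.over W) N) :
    ∃ (W₁ : X.Etale) (g : W₁ ⟶ W) (z₁ : W₁.left), g.left z₁ = z ∧ ∃ (h : M ⟶ N),
      ∀ m : M, ψ.hom.app (op ((Over.map g).obj (Over.mk (𝟙 W₁))))
          (cst.{u + 1} (X.smallEtaleTopology.over W) M ((Over.map g).obj (Over.mk (𝟙 W₁))) m) =
        cst.{u + 1} (X.smallEtaleTopology.over W) N ((Over.map g).obj (Over.mk (𝟙 W₁))) (h m) := by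
  let JW := X.smallEtaleTopology.over W
  let T : Over W := Over.mk (𝟙 W)
  have hloc : ∀ m : M, ∃ S : Sieve T, S ∈ JW T ∧
      ∀ ⦃Y' : Over W⦄ (f : Y' ⟶ T), S f →
      ∃ n : N, (K.{u + 1} JW N).obj.map f.op (ψ.hom.app (op T) (cst.{u + 1} JW M T m)) =
        cst.{u + 1} JW N Y' n :=
    fun m => locally_cst.{u + 1} JW N _
  choose S hS hSloc using hloc
  have hmem : (⨅ m, S m) ∈ JW T := iInf_mem JW S hS
  obtain ⟨W₁, g, z₁, hz₁, hg⟩ := over_exists_arrow W T z _ hmem
  refine ⟨W₁, g, z₁, hz₁, ?_⟩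
  let Y : Over W := (Over.map g).obj (Over.mk (𝟙 W₁))
  let j : Y ⟶ Over.mk (g ≫ T.hom) := Over.homMk (𝟙 W₁) (by simp [Y, T])
  let k : Y ⟶ T := j ≫ (Over.homMk g rfl : Over.mk (g ≫ T.hom) ⟶ T)
  have hk : ∀ m, S m k := by
    intro m
    have h1 : S m (Over.homMk g rfl : Over.mk (g ≫ T.hom) ⟶ T) :=
      (Sieve.sInf_apply _).1 hg (S m) ⟨m, rfl⟩
    exact (S m).downward_closed h1 j
  have hn : ∀ m : M, ∃ n : N, ψ.hom.app (op Y) (cst.{u + 1} JW M Y m) = cst.{u + 1} JW N Y n := by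
    intro m
    obtain ⟨n, hn⟩ := hSloc m k (hk m)
    refine ⟨n, ?_⟩
    rw [← hn]
    have nat := congrArg (fun t => t.hom (cst.{u + 1} JW M T m)) (ψ.hom.naturality k.op)
    have e := cst_map.{u + 1} JW M k m
    rw [← e]
    exact nat
  choose h₀ hh₀ using hn
  have hYne : Nonempty Y.left.left := ⟨z₁⟩
  have hinj := cst_injective_over W N Y hYne
  have hadd : ∀ m m', h₀ (m + m') = h₀ m + h₀ m' := by
    intro m m'
    apply hinj
    rw [map_add, ← hh₀, ← hh₀, ← hh₀, map_add, map_add]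
  exact ⟨AddCommGrpCat.ofHom (AddMonoidHom.mk' h₀ hadd), fun m => hh₀ m⟩

/-- Finitely many sections of a constant sheaf are simultaneously constant near any point. -/
theorem exists_const (W : X.Etale) (z : W.left) (N : AddCommGrpCat.{u + 1}) {ι : Type*} [Finite ι]
    (t : ι → (K.{u + 1} (X.smallEtaleTopology.over W) N).obj.obj (op (Over.mk (𝟙 W)))) :
    ∃ (W₁ : X.Etale) (g : W₁ ⟶ W) (z₁ : W₁.left), g.left z₁ = z ∧ ∃ n : ι → N, ∀ i,
      (K.{u + 1} (X.smallEtaleTopology.over W) N).obj.map (termMap g).op (t i) =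
        cst.{u + 1} (X.smallEtaleTopology.over W) N ((Over.map g).obj (Over.mk (𝟙 W₁))) (n i) := by
  let JW := X.smallEtaleTopology.over W
  let T : Over W := Over.mk (𝟙 W)
  have hloc : ∀ i : ι, ∃ S : Sieve T, S ∈ JW T ∧
      ∀ ⦃Y' : Over W⦄ (f : Y' ⟶ T), S f →
      ∃ n : N, (K.{u + 1} JW N).obj.map f.op (t i) = cst.{u + 1} JW N Y' n :=
    fun i => locally_cst.{u + 1} JW N _
  choose S hS hSloc using hloc
  have hmem : (⨅ i, S i) ∈ JW T := iInf_mem JW S hS
  obtain ⟨W₁, g, z₁, hz₁, hg⟩ := over_exists_arrow W T z _ hmem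
  refine ⟨W₁, g, z₁, hz₁, ?_⟩
  let Y : Over W := (Over.map g).obj (Over.mk (𝟙 W₁))
  let j : Y ⟶ Over.mk (g ≫ T.hom) := Over.homMk (𝟙 W₁) (by simp [Y, T])
  have hjk : j ≫ (Over.homMk g rfl : Over.mk (g ≫ T.hom) ⟶ T) = termMap g :=
    Over.mkIdTerminal.hom_ext _ _
  have hk : ∀ i, S i (termMap g) := by
    intro i
    have h1 : S i (Over.homMk g rfl : Over.mk (g ≫ T.hom) ⟶ T) :=
      (Sieve.sInf_apply _).1 hg (S i) ⟨i, rfl⟩
    rw [← hjk]
    exact (S i).downward_closed h1 j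
  have hn : ∀ i : ι, ∃ n : N, (K.{u + 1} JW N).obj.map (termMap g).op (t i) =
      cst.{u + 1} JW N Y n := fun i => hSloc i (termMap g) (hk i)
  choose n hn using hn
  exact ⟨n, hn⟩

lemma hom_comp_apply {V W : X.Etale} (g : V ⟶ W) (v : V.left) :
    W.hom (g.left v) = V.hom v := by
  have h : g.left ≫ W.hom = V.hom := MorphismProperty.Over.w g
  rw [← h]
  rfl

/-- Local form of a map from a finite locally constant sheaf to a locally constant sheaf. -/
theorem local_form {F G : EtCoh.Ab X} (φ : F ⟶ G) {U₁ U₂ : X.Etale}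
    {M N : AddCommGrpCat.{u + 1}} [Finite M]
    (α₁ : F.over U₁ ≅ K.{u + 1} (X.smallEtaleTopology.over U₁) M)
    (β₂ : G.over U₂ ≅ K.{u + 1} (X.smallEtaleTopology.over U₂) N)
    (y₁ : U₁.left) (y₂ : U₂.left) (hy : U₂.hom y₂ = U₁.hom y₁) :
    ∃ (W : X.Etale) (z : W.left), W.hom z = U₁.hom y₁ ∧ ∃ (h : M ⟶ N)
      (α : F.over W ≅ K.{u + 1} (X.smallEtaleTopology.over W) M)
      (β : G.over W ≅ K.{u + 1} (X.smallEtaleTopology.over W) N),
      (X.smallEtaleTopology.overPullback AddCommGrpCat.{u + 1} W).map φ ≫ β.hom =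
        α.hom ≫ (constantSheaf (X.smallEtaleTopology.over W) AddCommGrpCat.{u + 1}).map h := by
  obtain ⟨W, p₁, p₂, z, hz⟩ := EtOpenSub.exists_refinement U₁ U₂ y₁ y₂ hy
  let αW := transport X.smallEtaleTopology AddCommGrpCat.{u + 1} F p₁ M α₁
  let βW := transport X.smallEtaleTopology AddCommGrpCat.{u + 1} G p₂ N β₂
  obtain ⟨W₁, g, z₁, hz₁, h, hyp⟩ := exists_hom W z
    (αW.inv ≫ (X.smallEtaleTopology.overPullback AddCommGrpCat.{u + 1} W).map φ ≫ βW.hom)
  refine ⟨W₁, z₁, ?_, h, transport X.smallEtaleTopology AddCommGrpCat.{u + 1} F g M αW,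
    transport X.smallEtaleTopology AddCommGrpCat.{u + 1} G g N βW, ?_⟩
  · rw [← hom_comp_apply g z₁, hz₁, ← hom_comp_apply p₁ z, hz]
  · exact restrict_form X.smallEtaleTopology g φ αW βW h hyp

end Groth.Agent.Lib.Helper43.EtLCHom
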