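import Mathlib
import Groth.Agent.Lib.Helper43.ConstSheafMod
import Groth.Agent.Lib.Helper43.LCHom
import Groth.Agent.Lib.Helper43.ConstRestr

/-!
# Morphisms out of constant sheaves (modules), restriction of trivializations

* `K_hom_ext`, `K_desc`, `K_desc_cst`: maps out of a constant sheaf on a site with terminal object;
* `constRestrIso_hom_cst`: `constRestrIso` maps constant sections to constant sections;
* `transport`: transport of a trivialization `F.over U ≅ K M` along `W ⟶ U`, with formulas on sections;
* exactness of `overPullback` and `constantSheaf`.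
-/

set_option autoImplicit false
universe v v₁ v₂ u₁ u₂ w
open CategoryTheory CategoryTheory.Limits Opposite

namespace Groth.Agent.Lib.Helper43.LCHomMod

open Groth.Agent.Lib.Helper43.ConstSheafMod Groth.Agent.Lib.Helper43.ConstRestr Groth.Agent.Lib.Helper43.LCHom

section General

variable {Λ : Type w} [Ring Λ] {C : Type u₁} [Category.{v₁} C] (J : GrothendieckTopology C)
  [HasWeakSheafify J (ModuleCat.{v} Λ)]

/-- Maps out of a constant sheaf are determined by their values on constants at a terminal object. -/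
lemma K_hom_ext {T : C} (hT : IsTerminal T) {M : (ModuleCat.{v} Λ)} {G : Sheaf J (ModuleCat.{v} Λ)}
    (f g : K J M ⟶ G)
    (h : ∀ m : M, f.hom.app (op T) (cst J M T m) = g.hom.app (op T) (cst J M T m)) : f = g := by
  apply Sheaf.hom_ext
  apply sheafify_hom_ext _ _ _ G.property
  ext ⟨V⟩ m
  have e1 : (toSheafify J (cpsh M)).app (op V) m =
      (K J M).obj.map (hT.from V).op (cst J M T m) := (cst_map J M (hT.from V) m).symm
  have e2 : ∀ (k : K J M ⟶ G), k.hom.app (op V) ((K J M).obj.map (hT.from V).op (cst J M T m)) =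
      G.obj.map (hT.from V).op (k.hom.app (op T) (cst J M T m)) := fun k =>
    congrArg (fun t => t.hom (cst J M T m)) (k.hom.naturality (hT.from V).op)
  change f.hom.app (op V) ((toSheafify J (cpsh M)).app (op V) m) =
    g.hom.app (op V) ((toSheafify J (cpsh M)).app (op V) m)
  rw [e1, e2 f, e2 g, h m]

/-- the map out of the constant sheaf with prescribed values on constants at the terminal object -/
noncomputable def K_desc {T : C} (hT : IsTerminal T) {M : (ModuleCat.{v} Λ)}
    {G : Sheaf J (ModuleCat.{v} Λ)} (t : M ⟶ G.obj.obj (op T)) : K J M ⟶ G :=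
  ⟨sheafifyLift J
    { app := fun V => t ≫ G.obj.map (hT.from V.unop).op
      naturality := by
        intro V V' f
        dsimp
        rw [Category.id_comp, Category.assoc, ← G.obj.map_comp]
        congr 2
        apply Quiver.Hom.unop_inj
        exact hT.hom_ext _ _ } G.property⟩

lemma K_desc_cst {T : C} (hT : IsTerminal T) {M : (ModuleCat.{v} Λ)}
    {G : Sheaf J (ModuleCat.{v} Λ)} (t : M ⟶ G.obj.obj (op T)) (m : M) :
    (K_desc J hT t).hom.app (op T) (cst J M T m) = t m := by
  have h := toSheafify_sheafifyLift J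
    ({ app := fun V => t ≫ G.obj.map (hT.from V.unop).op
       naturality := by
        intro V V' f
        dsimp
        rw [Category.id_comp, Category.assoc, ← G.obj.map_comp]
        congr 2
        apply Quiver.Hom.unop_inj
        exact hT.hom_ext _ _ } : cpsh M ⟶ G.obj) G.property
  have h' := congrArg (fun k => (k.app (op T)).hom m) h
  have e : hT.from T = 𝟙 T := hT.hom_ext _ _
  refine h'.trans ?_
  change G.obj.map (hT.from T).op (t m) = t m
  rw [e]
  simp

end General

section Restr

variable {Λ : Type w} [Ring Λ] {C : Type u₁} [Category.{v₁} C] {D : Type u₂} [Category.{v₂} D]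
  (J : GrothendieckTopology C) (L : GrothendieckTopology D)
  (G : C ⥤ D) [G.IsContinuous J L] [G.IsCocontinuous J L]

section
variable [HasWeakSheafify J (ModuleCat.{v} Λ)] [HasWeakSheafify L (ModuleCat.{v} Λ)]
  [∀ (F : Cᵒᵖ ⥤ (ModuleCat.{v} Λ)), G.op.HasPointwiseRightKanExtension F]

lemma constRestrIso_hom_cst (M : (ModuleCat.{v} Λ)) (V : C) (m : M) :
    ((constRestrIso J L (ModuleCat.{v} Λ) G).hom.app M).hom.app (op V) (cst L M (G.obj V) m) =
      cst J M V m :=
  congrArg (fun t => t.hom m) (toSheafify_constRestrIso J L G (ModuleCat.{v} Λ) M V)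

lemma constRestrIso_inv_cst (M : (ModuleCat.{v} Λ)) (V : C) (m : M) :
    ((constRestrIso J L (ModuleCat.{v} Λ) G).inv.app M).hom.app (op V) (cst J M V m) =
      cst L M (G.obj V) m := by
  rw [← constRestrIso_hom_cst J L G M V m]
  exact congrArg (fun t => t.hom.app (op V) (cst L M (G.obj V) m))
    ((constRestrIso J L (ModuleCat.{v} Λ) G).hom_inv_id_app M)

end

end Restr

section Over

variable {Λ : Type w} [Ring Λ] {C : Type u₁} [Category.{v₁} C] (J : GrothendieckTopology C)

variable {U W : C} (g : W ⟶ U)
  [∀ (P : (Over W)ᵒᵖ ⥤ (ModuleCat.{v} Λ)), (Over.map g).op.HasPointwiseRightKanExtension P]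
  [HasWeakSheafify (J.over W) (ModuleCat.{v} Λ)] [HasWeakSheafify (J.over U) (ModuleCat.{v} Λ)]

/-- If `α⁻¹ ≫ φ|U ≫ β` maps constants to constants (through `h`) over the object
`(Over.map g).obj (𝟙 W)`, then over `W`, with the transported trivializations, `φ` is induced by `h`. -/
theorem restrict_form {F G : Sheaf J (ModuleCat.{v} Λ)} (φ : F ⟶ G) {M N : (ModuleCat.{v} Λ)}
    (α : F.over U ≅ K (J.over U) M) (β : G.over U ≅ K (J.over U) N) (h : M ⟶ N)
    (hyp : ∀ m : M, (α.inv ≫ (J.overPullback (ModuleCat.{v} Λ) U).map φ ≫ β.hom).hom.app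
        (op ((Over.map g).obj (Over.mk (𝟙 W))))
        (cst (J.over U) M ((Over.map g).obj (Over.mk (𝟙 W))) m) =
      cst (J.over U) N ((Over.map g).obj (Over.mk (𝟙 W))) (h m)) :
    (J.overPullback (ModuleCat.{v} Λ) W).map φ ≫ (transport J (ModuleCat.{v} Λ) G g N β).hom =
      (transport J (ModuleCat.{v} Λ) F g M α).hom ≫
        (constantSheaf (J.over W) (ModuleCat.{v} Λ)).map h := by
  let R := (Over.map g).sheafPushforwardContinuous (ModuleCat.{v} Λ) (J.over W) (J.over U)
  let c := constRestrIso (J.over W) (J.over U) (ModuleCat.{v} Λ) (Over.map g)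
  let ψ := α.inv ≫ (J.overPullback (ModuleCat.{v} Λ) U).map φ ≫ β.hom
  have hψ : (J.overPullback (ModuleCat.{v} Λ) U).map φ ≫ β.hom = α.hom ≫ ψ := by
    simp [ψ]
  have key' : c.inv.app M ≫ R.map ψ ≫ c.hom.app N =
      (constantSheaf (J.over W) (ModuleCat.{v} Λ)).map h := by
    apply K_hom_ext (J.over W) Over.mkIdTerminal
    intro m
    have e1 := constRestrIso_inv_cst (J.over W) (J.over U) (Over.map g) M (Over.mk (𝟙 W)) m
    have e2 := constRestrIso_hom_cst (J.over W) (J.over U) (Over.map g) N (Over.mk (𝟙 W)) (h m)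
    have e3 := constantSheaf_map_cst (J.over W) h (Over.mk (𝟙 W)) m
    rw [e3]
    change (c.hom.app N).hom.app (op (Over.mk (𝟙 W)))
      (ψ.hom.app (op ((Over.map g).obj (Over.mk (𝟙 W))))
        ((c.inv.app M).hom.app (op (Over.mk (𝟙 W))) (cst (J.over W) M (Over.mk (𝟙 W)) m))) = _
    rw [e1, hyp m, e2]
  have key : R.map ψ ≫ c.hom.app N =
      c.hom.app M ≫ (constantSheaf (J.over W) (ModuleCat.{v} Λ)).map h := by
    rw [← key']
    simp
  have nat : (J.overPullback (ModuleCat.{v} Λ) W).map φ ≫ (G.pushforwardOverMapIso g).inv =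
      (F.pushforwardOverMapIso g).inv ≫ R.map ((J.overPullback (ModuleCat.{v} Λ) U).map φ) := by
    ext V
    simp [R, Sheaf.pushforwardOverMapIso]
    rfl
  change (J.overPullback (ModuleCat.{v} Λ) W).map φ ≫ (G.pushforwardOverMapIso g).inv ≫
      R.map β.hom ≫ c.hom.app N =
    ((F.pushforwardOverMapIso g).inv ≫ R.map α.hom ≫ c.hom.app M) ≫
      (constantSheaf (J.over W) (ModuleCat.{v} Λ)).map h
  rw [← Category.assoc, nat, Category.assoc, ← Category.assoc (R.map _), ← R.map_comp, hψ,
    R.map_comp, Category.assoc, key]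
  simp

lemma transport_hom_app {F : Sheaf J (ModuleCat.{v} Λ)} {M : (ModuleCat.{v} Λ)}
    (e : F.over U ≅ K (J.over U) M) (V : Over W) (x : (F.over W).obj.obj (op V)) :
    (transport J (ModuleCat.{v} Λ) F g M e).hom.hom.app (op V) x =
      ((constRestrIso (J.over W) (J.over U) (ModuleCat.{v} Λ) (Over.map g)).hom.app M).hom.app (op V)
        (e.hom.hom.app (op ((Over.map g).obj V)) x) := rfl

lemma transport_inv_cst {F : Sheaf J (ModuleCat.{v} Λ)} {M : (ModuleCat.{v} Λ)}
    (e : F.over U ≅ K (J.over U) M) (V : Over W) (m : M) :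
    (transport J (ModuleCat.{v} Λ) F g M e).inv.hom.app (op V) (cst (J.over W) M V m) =
      e.inv.hom.app (op ((Over.map g).obj V)) (cst (J.over U) M ((Over.map g).obj V) m) := by
  have h1 : (transport J (ModuleCat.{v} Λ) F g M e).hom.hom.app (op V)
      (e.inv.hom.app (op ((Over.map g).obj V)) (cst (J.over U) M ((Over.map g).obj V) m)) =
      cst (J.over W) M V m := by
    rw [transport_hom_app]
    have e1 : e.hom.hom.app (op ((Over.map g).obj V))
        (e.inv.hom.app (op ((Over.map g).obj V)) (cst (J.over U) M ((Over.map g).obj V) m)) =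
        cst (J.over U) M ((Over.map g).obj V) m :=
      congrArg (fun t => t.hom.app (op ((Over.map g).obj V))
        (cst (J.over U) M ((Over.map g).obj V) m)) e.inv_hom_id
    rw [e1]
    exact constRestrIso_hom_cst (J.over W) (J.over U) (Over.map g) M V m
  rw [← h1]
  exact congrArg (fun t => t.hom.app (op V)
    (e.inv.hom.app (op ((Over.map g).obj V)) (cst (J.over U) M ((Over.map g).obj V) m)))
    (transport J (ModuleCat.{v} Λ) F g M e).hom_inv_id

/-- restriction of the section corresponding to a constant is the corresponding section for the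
transported trivialization -/
lemma restrict_inv_cst {F : Sheaf J (ModuleCat.{v} Λ)} {M : (ModuleCat.{v} Λ)}
    (e : F.over U ≅ K (J.over U) M) (m : M) :
    F.obj.map g.op (e.inv.hom.app (op (Over.mk (𝟙 U))) (cst (J.over U) M (Over.mk (𝟙 U)) m)) =
      (transport J (ModuleCat.{v} Λ) F g M e).inv.hom.app (op (Over.mk (𝟙 W)))
        (cst (J.over W) M (Over.mk (𝟙 W)) m) := by
  rw [transport_inv_cst]
  have nat := congrArg (fun t => t.hom (cst (J.over U) M (Over.mk (𝟙 U)) m))
    (e.inv.hom.naturality (termMap g).op)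
  have e2 := cst_map (J.over U) M (termMap g) m
  rw [← e2]
  exact nat.symm

/-- a section whose image under the trivialization restricts to a constant restricts to the
corresponding section for the transported trivialization -/
lemma restrict_eq_of_const {F : Sheaf J (ModuleCat.{v} Λ)} {M : (ModuleCat.{v} Λ)}
    (e : F.over U ≅ K (J.over U) M) (x : F.obj.obj (op U)) (a : M)
    (hx : (K (J.over U) M).obj.map (termMap g).op (e.hom.hom.app (op (Over.mk (𝟙 U))) x) =
      cst (J.over U) M ((Over.map g).obj (Over.mk (𝟙 W))) a) :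
    F.obj.map g.op x = (transport J (ModuleCat.{v} Λ) F g M e).inv.hom.app (op (Over.mk (𝟙 W)))
        (cst (J.over W) M (Over.mk (𝟙 W)) a) := by
  rw [transport_inv_cst, ← hx]
  have nat := congrArg (fun t => t.hom x) (e.hom.hom.naturality (termMap g).op)
  have h1 : (K (J.over U) M).obj.map (termMap g).op (e.hom.hom.app (op (Over.mk (𝟙 U))) x) =
      e.hom.hom.app (op ((Over.map g).obj (Over.mk (𝟙 W)))) (F.obj.map g.op x) := nat.symm
  rw [h1]
  exact (congrArg (fun t => t.hom.app (op ((Over.map g).obj (Over.mk (𝟙 W)))) (F.obj.map g.op x))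
    e.hom_inv_id).symm

end Over

section Exact

variable {Λ : Type w} [Ring Λ] {C : Type u₁} [Category.{v₁} C] {D : Type u₂} [Category.{v₂} D]
  (J : GrothendieckTopology C) (L : GrothendieckTopology D)
  (G : C ⥤ D) [G.IsContinuous J L] (A : Type*) [Category A]

lemma preservesFiniteLimits_constantSheaf [HasSheafify J (ModuleCat.{v} Λ)] :
    PreservesFiniteLimits (constantSheaf J (ModuleCat.{v} Λ)) := by
  unfold constantSheaf
  infer_instance

lemma preservesFiniteColimits_constantSheaf [HasSheafify J (ModuleCat.{v} Λ)] :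
    PreservesFiniteColimits (constantSheaf J (ModuleCat.{v} Λ)) := by
  unfold constantSheaf
  infer_instance

end Exact

end Groth.Agent.Lib.Helper43.LCHomMod
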