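import Mathlib
import Groth.Prelude
import Groth.Agent.Lib.Helper43.ConstSheafMod
import Groth.Agent.Lib.Helper43.ConstRestr
import Groth.Agent.Lib.Helper43.LCHom
import Groth.Agent.Lib.Helper43.LCHomMod
import Groth.Agent.Lib.Helper43.EtLCHom
import Groth.Agent.Lib.Helper43.EtOpenSub

/-!
# Maps between locally constant sheaves of modules on the small étale site are locally constant
-/

set_option autoImplicit false
universe u
open CategoryTheory CategoryTheory.Limits AlgebraicGeometry Opposite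

namespace Groth.Agent.Lib.Helper43.EtLCHomMod

open Groth.Agent.Lib.Helper43 Groth.Agent.Lib.Helper43.EtLCHom Groth.Agent.Lib.Helper43.ConstSheafMod Groth.Agent.Lib.Helper43.LCHom
  Groth.Agent.Lib.Helper43.LCHomMod

variable {Λ : Type (u + 1)} [CommRing Λ] {X : Scheme.{u}}

lemma cst_injective_over (W : X.Etale) (M : (ModuleCat.{u + 1} Λ)) (Y : Over W)
    (hY : Nonempty Y.left.left) :
    Function.Injective (cst.{u + 1} (X.smallEtaleTopology.over W) M Y) := by
  apply cst_injective.{u + 1}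
  intro S hS
  obtain ⟨y⟩ := hY
  obtain ⟨V, f, v, -, hf⟩ := over_exists_arrow W Y y S hS
  exact ⟨_, _, hf⟩

/-- Finitely many sections of a constant sheaf are simultaneously constant near any point. -/
theorem exists_const (W : X.Etale) (z : W.left) (N : (ModuleCat.{u + 1} Λ)) {ι : Type*} [Finite ι]
    (t : ι → (K.{u + 1} (X.smallEtaleTopology.over W) N).obj.obj (op (Over.mk (𝟙 W)))) :
    ∃ (W₁ : X.Etale) (g : W₁ ⟶ W) (z₁ : W₁.left), g.left z₁ = z ∧ ∃ n : ι → N, ∀ i,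
      (K.{u + 1} (X.smallEtaleTopology.over W) N).obj.map (termMap g).op (t i) =
        cst.{u + 1} (X.smallEtaleTopology.over W) N ((Over.map g).obj (Over.mk (𝟙 W₁))) (n i) := by
  let JW := X.smallEtaleTopology.over W
  let T : Over W := Over.mk (𝟙 W)
  have hloc : ∀ i : ι, ∃ S : Sieve T, S ∈ JW T ∧
      ∀ ⦃Y' : Over W⦄ (f : Y' ⟶ T), S f →
      ∃ n : N, (K.{u + 1} JW N).obj.map f.op (t i) = cst.{u + 1} JW N Y' n :=
    fun i => locally_cst.{u + 1} JW N _
  choose S hS hSloc using hloc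
  have hmem : (⨅ i, S i) ∈ JW T := iInf_mem JW S hS
  obtain ⟨W₁, g, z₁, hz₁, hg⟩ := over_exists_arrow W T z _ hmem
  refine ⟨W₁, g, z₁, hz₁, ?_⟩
  let Y : Over W := (Over.map g).obj (Over.mk (𝟙 W₁))
  let j : Y ⟶ Over.mk (g ≫ T.hom) := Over.homMk (𝟙 W₁) (by simp [Y, T])
  have hjk : j ≫ (Over.homMk g rfl : Over.mk (g ≫ T.hom) ⟶ T) = termMap g :=
    Over.mkIdTerminal.hom_ext _ _
  have hk : ∀ i, S i (termMap g) := by
    intro i
    have h1 : S i (Over.homMk g rfl : Over.mk (g ≫ T.hom) ⟶ T) :=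
      (Sieve.sInf_apply _).1 hg (S i) ⟨i, rfl⟩
    rw [← hjk]
    exact (S i).downward_closed h1 j
  have hn : ∀ i : ι, ∃ n : N, (K.{u + 1} JW N).obj.map (termMap g).op (t i) =
      cst.{u + 1} JW N Y n := fun i => hSloc i (termMap g) (hk i)
  choose n hn using hn
  exact ⟨n, hn⟩

/-- A map between constant sheaves with finitely generated source is, locally around any point,
induced by a linear map. -/
theorem exists_hom (W : X.Etale) (z : W.left) {M N : (ModuleCat.{u + 1} Λ)} [Module.Finite Λ M]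
    (ψ : K.{u + 1} (X.smallEtaleTopology.over W) M ⟶ K.{u + 1} (X.smallEtaleTopology.over W) N) :
    ∃ (W₁ : X.Etale) (g : W₁ ⟶ W) (z₁ : W₁.left), g.left z₁ = z ∧ ∃ (h : M ⟶ N),
      ∀ m : M, ψ.hom.app (op ((Over.map g).obj (Over.mk (𝟙 W₁))))
          (cst.{u + 1} (X.smallEtaleTopology.over W) M ((Over.map g).obj (Over.mk (𝟙 W₁))) m) =
        cst.{u + 1} (X.smallEtaleTopology.over W) N ((Over.map g).obj (Over.mk (𝟙 W₁))) (h m) := by
  let JW := X.smallEtaleTopology.over W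
  let T : Over W := Over.mk (𝟙 W)
  obtain ⟨k, gen, hgen⟩ := Module.Finite.exists_fin (R := Λ) (M := M)
  obtain ⟨W₁, g, z₁, hz₁, n, hn⟩ := exists_const W z N
    (fun i : Fin k => ψ.hom.app (op T) (cst.{u + 1} JW M T (gen i)))
  refine ⟨W₁, g, z₁, hz₁, ?_⟩
  let Y : Over W := (Over.map g).obj (Over.mk (𝟙 W₁))
  have hgenY : ∀ i, ψ.hom.app (op Y) (cst.{u + 1} JW M Y (gen i)) = cst.{u + 1} JW N Y (n i) := by
    intro i
    rw [← hn i]
    have nat := congrArg (fun t => t.hom (cst.{u + 1} JW M T (gen i)))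
      (ψ.hom.naturality (termMap g).op)
    have e := cst_map.{u + 1} JW M (termMap g) (gen i)
    rw [← e]
    exact nat
  let P : Submodule Λ M := Submodule.comap
    ((ψ.hom.app (op Y)).hom.comp (cst.{u + 1} JW M Y).hom) (LinearMap.range (cst.{u + 1} JW N Y).hom)
  have hP : P = ⊤ := by
    rw [eq_top_iff, ← hgen, Submodule.span_le]
    rintro _ ⟨i, rfl⟩
    exact ⟨n i, (hgenY i).symm⟩
  have hn' : ∀ m : M, ∃ n : N, ψ.hom.app (op Y) (cst.{u + 1} JW M Y m) = cst.{u + 1} JW N Y n := by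
    intro m
    have hm : m ∈ P := hP ▸ Submodule.mem_top
    obtain ⟨n, hn⟩ := hm
    exact ⟨n, hn.symm⟩
  choose h₀ hh₀ using hn'
  have hYne : Nonempty Y.left.left := ⟨z₁⟩
  have hinj := cst_injective_over (Λ := Λ) W N Y hYne
  have hadd : ∀ m m', h₀ (m + m') = h₀ m + h₀ m' := by
    intro m m'
    apply hinj
    rw [map_add, ← hh₀, ← hh₀, ← hh₀, map_add, map_add]
  have hsmul : ∀ (r : Λ) (m : M), h₀ (r • m) = r • h₀ m := by
    intro r m
    apply hinj
    rw [map_smul, ← hh₀, ← hh₀, map_smul, map_smul]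
  exact ⟨ModuleCat.ofHom { toFun := h₀, map_add' := hadd, map_smul' := hsmul }, fun m => hh₀ m⟩

/-- Local form of a map from a finite locally constant sheaf to a locally constant sheaf. -/
theorem local_form {F G : EtModW.Mod Λ X} (φ : F ⟶ G) {U₁ U₂ : X.Etale}
    {M N : (ModuleCat.{u + 1} Λ)} [Module.Finite Λ M]
    (α₁ : F.over U₁ ≅ K.{u + 1} (X.smallEtaleTopology.over U₁) M)
    (β₂ : G.over U₂ ≅ K.{u + 1} (X.smallEtaleTopology.over U₂) N)
    (y₁ : U₁.left) (y₂ : U₂.left) (hy : U₂.hom y₂ = U₁.hom y₁) :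
    ∃ (W : X.Etale) (z : W.left), W.hom z = U₁.hom y₁ ∧ ∃ (h : M ⟶ N)
      (α : F.over W ≅ K.{u + 1} (X.smallEtaleTopology.over W) M)
      (β : G.over W ≅ K.{u + 1} (X.smallEtaleTopology.over W) N),
      (X.smallEtaleTopology.overPullback (ModuleCat.{u + 1} Λ) W).map φ ≫ β.hom =
        α.hom ≫ (constantSheaf (X.smallEtaleTopology.over W) (ModuleCat.{u + 1} Λ)).map h := by
  obtain ⟨W, p₁, p₂, z, hz⟩ := EtOpenSub.exists_refinement U₁ U₂ y₁ y₂ hy
  let αW := transport X.smallEtaleTopology (ModuleCat.{u + 1} Λ) F p₁ M α₁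
  let βW := transport X.smallEtaleTopology (ModuleCat.{u + 1} Λ) G p₂ N β₂
  obtain ⟨W₁, g, z₁, hz₁, h, hyp⟩ := exists_hom W z
    (αW.inv ≫ (X.smallEtaleTopology.overPullback (ModuleCat.{u + 1} Λ) W).map φ ≫ βW.hom)
  refine ⟨W₁, z₁, ?_, h, transport X.smallEtaleTopology (ModuleCat.{u + 1} Λ) F g M αW,
    transport X.smallEtaleTopology (ModuleCat.{u + 1} Λ) G g N βW, ?_⟩
  · rw [← hom_comp_apply g z₁, hz₁, ← hom_comp_apply p₁ z, hz]
  · exact restrict_form X.smallEtaleTopology g φ αW βW h hyp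

end Groth.Agent.Lib.Helper43.EtLCHomMod
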