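import Mathlib
import Groth.Agent.Lib.Helper43.ConstSheafMod
import Groth.Agent.Lib.Helper43.LCHomMod

/-!
# Extensions of constant sheaves of modules are constant, given lifted generators with constant relations
-/

set_option autoImplicit false
universe v v₁ u₁ w
open CategoryTheory CategoryTheory.Limits Opposite

namespace Groth.Agent.Lib.Helper43.ExtConstMod

open Groth.Agent.Lib.Helper43.ConstSheafMod Groth.Agent.Lib.Helper43.LCHomMod

variable {Λ : Type w} [CommRing Λ] {C : Type u₁} [Category.{v₁} C] (J : GrothendieckTopology C)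
  [HasSheafify J (ModuleCat.{v} Λ)]

/-- sections over `T` -/
noncomputable abbrev Γ (T : C) : Sheaf J (ModuleCat.{v} Λ) ⥤ (ModuleCat.{v} Λ) :=
  sheafToPresheaf J (ModuleCat.{v} Λ) ⋙ (evaluation Cᵒᵖ (ModuleCat.{v} Λ)).obj (op T)

lemma sections_exact (S : ShortComplex (Sheaf J (ModuleCat.{v} Λ))) (hS : S.ShortExact) (T : C)
    (x : S.X₂.obj.obj (op T)) (hx : S.g.hom.app (op T) x = 0) :
    ∃ y : S.X₁.obj.obj (op T), S.f.hom.app (op T) y = x := by
  have := hS.mono_f
  have hex : (S.map (Γ J T)).Exact :=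
    hS.exact.map_of_mono_of_preservesKernel (Γ J T) hS.mono_f inferInstance
  exact (ShortComplex.moduleCat_exact_iff _).1 hex x hx

lemma sections_injective (S : ShortComplex (Sheaf J (ModuleCat.{v} Λ))) (hS : S.ShortExact) (T : C) :
    Function.Injective (S.f.hom.app (op T)) := by
  have := hS.mono_f
  have : Mono ((Γ J T).map S.f) := inferInstance
  exact (ModuleCat.mono_iff_injective _).1 this

theorem ext_const {T : C} (hT : IsTerminal T) (S : ShortComplex (Sheaf J (ModuleCat.{v} Λ)))
    (hS : S.ShortExact) {M' M'' : ModuleCat.{v} Λ} (α' : S.X₁ ≅ K J M') (α'' : S.X₃ ≅ K J M'')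
    (hinj' : Function.Injective (cst J M' T)) (hinj'' : Function.Injective (cst J M'' T))
    {ι : Type*} (gen : ι → M'') (hgen : Submodule.span Λ (Set.range gen) = ⊤)
    (s : ι → S.X₂.obj.obj (op T))
    (hs : ∀ i, S.g.hom.app (op T) (s i) = α''.inv.hom.app (op T) (cst J M'' T (gen i)))
    (hrel : ∀ l : ι →₀ Λ, Finsupp.linearCombination Λ gen l = 0 →
      ∃ a : M', Finsupp.linearCombination Λ s l =
        S.f.hom.app (op T) (α'.inv.hom.app (op T) (cst J M' T a))) :
    ∃ E : ModuleCat.{v} Λ, (Module.Finite Λ M' → Finite ι → Module.Finite Λ E) ∧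
      Nonempty (S.X₂ ≅ K J E) := by
  let ιm : M' →ₗ[Λ] S.X₂.obj.obj (op T) :=
    ((S.f.hom.app (op T)).hom.comp (α'.inv.hom.app (op T)).hom).comp (cst J M' T).hom
  let q : S.X₂.obj.obj (op T) →ₗ[Λ] (K J M'').obj.obj (op T) :=
    (α''.hom.hom.app (op T)).hom.comp (S.g.hom.app (op T)).hom
  have hι : ∀ a, ιm a = S.f.hom.app (op T) (α'.inv.hom.app (op T) (cst J M' T a)) := fun _ => rfl
  have hq : ∀ x, q x = α''.hom.hom.app (op T) (S.g.hom.app (op T) x) := fun _ => rfl
  have hqι : ∀ a, q (ιm a) = 0 := by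
    intro a
    rw [hι, hq]
    have h0 : S.g.hom.app (op T) (S.f.hom.app (op T) (α'.inv.hom.app (op T) (cst J M' T a))) = 0 := by
      have := congrArg (fun t => t.hom.app (op T) (α'.inv.hom.app (op T) (cst J M' T a))) S.zero
      exact this
    rw [h0, map_zero]
  have hqs : ∀ i, q (s i) = cst J M'' T (gen i) := by
    intro i
    rw [hq, hs]
    exact congrArg (fun t => t.hom.app (op T) (cst J M'' T (gen i))) α''.inv_hom_id
  have hqLC : ∀ l : ι →₀ Λ, q (Finsupp.linearCombination Λ s l) =
      cst J M'' T (Finsupp.linearCombination Λ gen l) := by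
    intro l
    have h1 := Finsupp.apply_linearCombination Λ q s l
    have h2 := Finsupp.apply_linearCombination Λ (cst J M'' T).hom gen l
    have h3 : (q ∘ s) = ((cst J M'' T).hom ∘ gen) := funext hqs
    rw [h1, h3]
    exact h2.symm
  let E : Submodule Λ (S.X₂.obj.obj (op T)) := LinearMap.range ιm ⊔ Submodule.span Λ (Set.range s)
  have hEmem : ∀ e : E, ∃ (a : M') (l : ι →₀ Λ),
      (e : S.X₂.obj.obj (op T)) = ιm a + Finsupp.linearCombination Λ s l := by
    intro e
    obtain ⟨y, ⟨a, rfl⟩, z, hz, hyz⟩ := Submodule.mem_sup.1 e.2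
    obtain ⟨l, rfl⟩ := (Finsupp.mem_span_range_iff_exists_finsupp).1 hz
    exact ⟨a, l, by rw [← hyz, Finsupp.linearCombination_apply]⟩
  have hπex : ∀ e : E, ∃ m, q e.1 = cst J M'' T m := by
    intro e
    obtain ⟨a, l, h⟩ := hEmem e
    exact ⟨Finsupp.linearCombination Λ gen l, by rw [h, map_add, hqι, zero_add, hqLC]⟩
  choose π₀ hπ₀ using hπex
  let π : E →ₗ[Λ] M'' :=
    { toFun := π₀
      map_add' := by
        intro e e'
        apply hinj''
        rw [map_add, ← hπ₀, ← hπ₀, ← hπ₀]
        exact map_add q e.1 e'.1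
      map_smul' := by
        intro r e
        apply hinj''
        rw [RingHom.id_apply, map_smul, ← hπ₀, ← hπ₀]
        exact map_smul q r e.1 }
  have hπ : ∀ e : E, q e.1 = cst J M'' T (π e) := hπ₀
  have hιmem : ∀ a, ιm a ∈ E := fun a => Submodule.mem_sup_left ⟨a, rfl⟩
  let ι' : M' →ₗ[Λ] E := ιm.codRestrict E hιmem
  have hLCmem : ∀ l : ι →₀ Λ, Finsupp.linearCombination Λ s l ∈ E := fun l =>
    Submodule.mem_sup_right ((Finsupp.mem_span_range_iff_exists_finsupp).2
      ⟨l, (Finsupp.linearCombination_apply Λ l).symm⟩)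
  have hπLC : ∀ l : ι →₀ Λ, π ⟨_, hLCmem l⟩ = Finsupp.linearCombination Λ gen l := by
    intro l
    apply hinj''
    rw [← hπ, hqLC]
  have hπι : ∀ a, π (ι' a) = 0 := by
    intro a
    apply hinj''
    rw [← hπ, map_zero]
    exact hqι a
  let SE : ShortComplex (ModuleCat.{v} Λ) :=
    ShortComplex.mk (ModuleCat.ofHom ι') (ModuleCat.ofHom π) (by
      ext a
      exact hπι a)
  have hSE : SE.ShortExact := by
    refine ShortComplex.ShortExact.mk' ?_ ?_ ?_
    · rw [ShortComplex.moduleCat_exact_iff]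
      intro e he
      have he' : π e = 0 := he
      obtain ⟨a, l, h⟩ := hEmem e
      have hl : Finsupp.linearCombination Λ gen l = 0 := by
        apply hinj''
        have h1 := hπ e
        rw [he', h, map_add, hqι, zero_add, hqLC] at h1
        rw [h1]
      obtain ⟨b, hb⟩ := hrel l hl
      refine ⟨a + b, ?_⟩
      apply Subtype.ext
      change ιm (a + b) = e.1
      rw [h, hb, map_add, hι b]
    · rw [ModuleCat.mono_iff_injective]
      intro a b hab
      have h1 : ιm a = ιm b := congrArg Subtype.val hab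
      rw [hι, hι] at h1
      have h2 := sections_injective J S hS T h1
      have hinv : Function.Injective (α'.inv.hom.app (op T)) := by
        intro x y hxy
        have := congrArg (α'.hom.hom.app (op T)) hxy
        have e1 : ∀ z, α'.hom.hom.app (op T) (α'.inv.hom.app (op T) z) = z := fun z =>
          congrArg (fun t => t.hom.app (op T) z) α'.inv_hom_id
        rwa [e1, e1] at this
      exact hinj' (hinv h2)
    · rw [ModuleCat.epi_iff_surjective]
      intro m
      have hm : m ∈ Submodule.span Λ (Set.range gen) := hgen ▸ Submodule.mem_top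
      obtain ⟨l, hl⟩ := (Finsupp.mem_span_range_iff_exists_finsupp).1 hm
      refine ⟨⟨_, hLCmem l⟩, ?_⟩
      change π ⟨_, hLCmem l⟩ = m
      rw [hπLC, Finsupp.linearCombination_apply]
      exact hl
  refine ⟨ModuleCat.of Λ E, ?_, ?_⟩
  · intro hM' hfin
    have h1 : (LinearMap.range ιm).FG := by
      rw [LinearMap.range_eq_map]
      exact Submodule.FG.map _ Module.Finite.fg_top
    have h2 : (Submodule.span Λ (Set.range s)).FG := Submodule.fg_span (Set.finite_range s)
    exact Module.Finite.iff_fg.2 (h1.sup h2)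
  · let ρ : K J (ModuleCat.of Λ E) ⟶ S.X₂ := K_desc J hT (ModuleCat.ofHom E.subtype)
    have hρ : ∀ e : E, ρ.hom.app (op T) (cst J (ModuleCat.of Λ E) T e) = e.1 := fun e =>
      K_desc_cst J hT (ModuleCat.ofHom E.subtype) e
    have : PreservesFiniteLimits (constantSheaf J (ModuleCat.{v} Λ)) :=
      preservesFiniteLimits_constantSheaf J
    have : PreservesFiniteColimits (constantSheaf J (ModuleCat.{v} Λ)) :=
      preservesFiniteColimits_constantSheaf J
    have h₁ : (SE.map (constantSheaf J (ModuleCat.{v} Λ))).ShortExact :=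
      hSE.map_of_exact (constantSheaf J (ModuleCat.{v} Λ))
    have comm₁₂ : α'.inv ≫ S.f = (constantSheaf J (ModuleCat.{v} Λ)).map (ModuleCat.ofHom ι') ≫ ρ := by
      apply K_hom_ext J hT
      intro a
      have e3 := constantSheaf_map_cst J (ModuleCat.ofHom ι') T a
      change S.f.hom.app (op T) (α'.inv.hom.app (op T) (cst J M' T a)) =
        ρ.hom.app (op T) (((constantSheaf J (ModuleCat.{v} Λ)).map (ModuleCat.ofHom ι')).hom.app
          (op T) (cst J M' T a))
      rw [e3]
      exact (hρ (ι' a)).symm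
    have comm₂₃ : ρ ≫ S.g = (constantSheaf J (ModuleCat.{v} Λ)).map (ModuleCat.ofHom π) ≫ α''.inv := by
      apply K_hom_ext J hT
      intro e
      have e3 := constantSheaf_map_cst J (ModuleCat.ofHom π) T e
      change S.g.hom.app (op T) (ρ.hom.app (op T) (cst J (ModuleCat.of Λ E) T e)) =
        α''.inv.hom.app (op T) (((constantSheaf J (ModuleCat.{v} Λ)).map (ModuleCat.ofHom π)).hom.app
          (op T) (cst J (ModuleCat.of Λ E) T e))
      rw [e3, hρ]
      have h1 := hπ e
      rw [hq] at h1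
      have h2 := congrArg (α''.inv.hom.app (op T)) h1
      have e1 : ∀ z, α''.inv.hom.app (op T) (α''.hom.hom.app (op T) z) = z := fun z =>
        congrArg (fun t => t.hom.app (op T) z) α''.hom_inv_id
      rw [e1] at h2
      exact h2
    let φ : SE.map (constantSheaf J (ModuleCat.{v} Λ)) ⟶ S :=
      { τ₁ := α'.inv, τ₂ := ρ, τ₃ := α''.inv, comm₁₂ := comm₁₂, comm₂₃ := comm₂₃ }
    have : IsIso φ.τ₁ := inferInstanceAs (IsIso α'.inv)
    have : IsIso φ.τ₃ := inferInstanceAs (IsIso α''.inv)
    have hiso : IsIso ρ := ShortComplex.isIso₂_of_shortExact_of_isIso₁₃ φ h₁ hS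
    exact ⟨(asIso ρ).symm⟩

end Groth.Agent.Lib.Helper43.ExtConstMod
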