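import Mathlib
import Groth.Prelude
import Groth.Agent.Lib.Helper43.EtLCHomMod
import Groth.Agent.Lib.Helper43.ExtConstMod

set_option autoImplicit false
universe u
open CategoryTheory CategoryTheory.Limits AlgebraicGeometry Opposite

namespace Groth.Agent.Lib.Helper43.EtFTLCSerre

open Groth.Agent.Lib.Helper43 Groth.Agent.Lib.Helper43.ConstSheafMod Groth.Agent.Lib.Helper43.LCHom
  Groth.Agent.Lib.Helper43.LCHomMod Groth.Agent.Lib.Helper43.EtLCHom
  Groth.Agent.Lib.Helper43.EtLCHomMod Groth.Agent.Lib.Helper43.ExtConstMod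

variable {Λ : Type (u + 1)} [CommRing Λ] {X : Scheme.{u}}

instance (W : X.Etale) :
    PreservesFiniteLimits (X.smallEtaleTopology.overPullback (ModuleCat.{u + 1} Λ) W) :=
  preservesFiniteLimits_sheafPushforwardContinuous _ _ _ _

instance (W : X.Etale) :
    (X.smallEtaleTopology.overPullback (ModuleCat.{u + 1} Λ) W).IsLeftAdjoint :=
  isLeftAdjoint_sheafPushforwardContinuous _ _ _ _

instance (W : X.Etale) : PreservesFiniteLimits
    (constantSheaf (X.smallEtaleTopology.over W) (ModuleCat.{u + 1} Λ)) :=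
  preservesFiniteLimits_constantSheaf _

instance (W : X.Etale) : PreservesFiniteColimits
    (constantSheaf (X.smallEtaleTopology.over W) (ModuleCat.{u + 1} Λ)) :=
  preservesFiniteColimits_constantSheaf _

/-- kernels and cokernels of maps of finite type locally constant sheaves (Noetherian coefficients) -/
theorem isFTLC_kernel_cokernel [IsNoetherianRing Λ] (F G : EtModW.Mod Λ X) (φ : F ⟶ G)
    (hF : EtModW.IsFTLocConst Λ F) (hG : EtModW.IsFTLocConst Λ G) :
    EtModW.IsFTLocConst Λ (kernel φ) ∧ EtModW.IsFTLocConst Λ (cokernel φ) := by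
  obtain ⟨ι₁, U₁, hcov₁, hU₁⟩ := hF
  obtain ⟨ι₂, U₂, hcov₂, hU₂⟩ := hG
  have key : ∀ x : X, ∃ (W : X.Etale) (z : W.left), W.hom z = x ∧
      (∃ (M : Type (u + 1)) (_ : AddCommGroup M) (_ : Module Λ M) (_ : Module.Finite Λ M),
        Nonempty (EtModW.restr Λ (kernel φ) W ≅
          (constantSheaf (X.smallEtaleTopology.over W) (ModuleCat.{u + 1} Λ)).obj
            (ModuleCat.of Λ M))) ∧
      (∃ (M : Type (u + 1)) (_ : AddCommGroup M) (_ : Module Λ M) (_ : Module.Finite Λ M),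
        Nonempty (EtModW.restr Λ (cokernel φ) W ≅
          (constantSheaf (X.smallEtaleTopology.over W) (ModuleCat.{u + 1} Λ)).obj
            (ModuleCat.of Λ M))) := by
    intro x
    obtain ⟨i₁, y₁, hy₁⟩ := hcov₁ x
    obtain ⟨i₂, y₂, hy₂⟩ := hcov₂ x
    obtain ⟨M, iM, mM, fM, ⟨α₁⟩⟩ := hU₁ i₁
    obtain ⟨N, iN, mN, fN, ⟨β₂⟩⟩ := hU₂ i₂
    have : Module.Finite Λ (ModuleCat.of Λ M) := fM
    have : Module.Finite Λ (ModuleCat.of Λ N) := fN
    obtain ⟨W, z, hz, h, α, β, hc⟩ := local_form φ α₁ β₂ y₁ y₂ (hy₂.trans hy₁.symm)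
    let R := X.smallEtaleTopology.overPullback (ModuleCat.{u + 1} Λ) W
    let KW := constantSheaf (X.smallEtaleTopology.over W) (ModuleCat.{u + 1} Λ)
    refine ⟨W, z, hz.trans hy₁, ?_, ?_⟩
    · refine ⟨LinearMap.ker h.hom, inferInstance, inferInstance, ?_, ⟨?_⟩⟩
      · have : IsNoetherian Λ M := isNoetherian_of_isNoetherianRing_of_finite Λ M
        exact Module.IsNoetherian.finite Λ _
      · exact PreservesKernel.iso R φ ≪≫ kernel.mapIso (R.map φ) (KW.map h) α β hc ≪≫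
          (PreservesKernel.iso KW h).symm ≪≫ KW.mapIso (ModuleCat.kernelIsoKer h)
    · refine ⟨N ⧸ LinearMap.range h.hom, inferInstance, inferInstance, inferInstance, ⟨?_⟩⟩
      exact PreservesCokernel.iso R φ ≪≫ cokernel.mapIso (R.map φ) (KW.map h) α β hc ≪≫
        (PreservesCokernel.iso KW h).symm ≪≫ KW.mapIso (ModuleCat.cokernelIsoRangeQuotient h)
  choose W z hz hker hcoker using key
  exact ⟨⟨X, W, fun x => ⟨x, z x, hz x⟩, hker⟩, ⟨X, W, fun x => ⟨x, z x, hz x⟩, hcoker⟩⟩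

/-- Stage 1: lifting finitely many constant sections of the quotient. -/
theorem exists_lifts (S : ShortComplex (EtModW.Mod Λ X)) (hS : S.ShortExact) (W : X.Etale) (z : W.left)
    {M'' : ModuleCat.{u + 1} Λ} {ι : Type*} [Finite ι] (gen : ι → M'')
    (α'' : S.X₃.over W ≅ K.{u + 1} (X.smallEtaleTopology.over W) M'') :
    ∃ (V : X.Etale) (f : V ⟶ W) (v : V.left), f.left v = z ∧
      ∃ s : ι → S.X₂.obj.obj (op V), ∀ i,
        S.g.hom.app (op V) (s i) =
          (transport X.smallEtaleTopology (ModuleCat.{u + 1} Λ) S.X₃ f M'' α'').inv.hom.app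
            (op (Over.mk (𝟙 V)))
            (cst.{u + 1} (X.smallEtaleTopology.over V) M'' (Over.mk (𝟙 V)) (gen i)) := by
  have := hS.epi_g
  have hsurj : Sheaf.IsLocallySurjective S.g := (Sheaf.isLocallySurjective_iff_epi' (φ := S.g)).2 hS.epi_g
  let t : ι → S.X₃.obj.obj (op W) := fun i =>
    α''.inv.hom.app (op (Over.mk (𝟙 W)))
      (cst.{u + 1} (X.smallEtaleTopology.over W) M'' (Over.mk (𝟙 W)) (gen i))
  have hmem : (⨅ i, Presheaf.imageSieve S.g.hom (t i)) ∈ X.smallEtaleTopology W :=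
    iInf_mem _ _ (fun i => Presheaf.imageSieve_mem X.smallEtaleTopology S.g.hom (t i))
  obtain ⟨V, f, v, hf, hv⟩ := (EtOpenSub.mem_smallEtaleTopology_iff' W _).1 hmem z
  refine ⟨V, f, v, hv, ?_⟩
  have hf' : ∀ i, Presheaf.imageSieve S.g.hom (t i) f := fun i =>
    (Sieve.sInf_apply _).1 hf _ ⟨i, rfl⟩
  choose s hs using hf'
  refine ⟨s, fun i => ?_⟩
  rw [← restrict_inv_cst X.smallEtaleTopology f α'' (gen i)]
  exact hs i

/-- An extension of sheaves of modules trivialized over `W` with finitely generated fibres is constant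
near any point (Noetherian coefficients). -/
theorem extension_local [IsNoetherianRing Λ] (S : ShortComplex (EtModW.Mod Λ X)) (hS : S.ShortExact)
    (W : X.Etale) (z : W.left)
    {M' M'' : ModuleCat.{u + 1} Λ} [Module.Finite Λ M'] [Module.Finite Λ M'']
    (α' : S.X₁.over W ≅ K.{u + 1} (X.smallEtaleTopology.over W) M')
    (α'' : S.X₃.over W ≅ K.{u + 1} (X.smallEtaleTopology.over W) M'') :
    ∃ (W₂ : X.Etale) (z₂ : W₂.left), W₂.hom z₂ = W.hom z ∧
      ∃ (E : ModuleCat.{u + 1} Λ), Module.Finite Λ E ∧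
        Nonempty (S.X₂.over W₂ ≅ K.{u + 1} (X.smallEtaleTopology.over W₂) E) := by
  obtain ⟨k, gen, hgen⟩ := Module.Finite.exists_fin (R := Λ) (M := M'')
  obtain ⟨V, f, v, hv, s, hs⟩ := exists_lifts S hS W z gen α''
  let α'V := transport X.smallEtaleTopology (ModuleCat.{u + 1} Λ) S.X₁ f M' α'
  let α''V := transport X.smallEtaleTopology (ModuleCat.{u + 1} Λ) S.X₃ f M'' α''
  let TV : Over V := Over.mk (𝟙 V)
  -- relations
  have hfg : (LinearMap.ker (Finsupp.linearCombination Λ gen)).FG :=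
    IsNoetherian.noetherian _
  obtain ⟨nr, r, hr⟩ := Submodule.fg_iff_exists_fin_generating_family.1 hfg
  have hrmem : ∀ j, Finsupp.linearCombination Λ gen (r j) = 0 := by
    intro j
    have : r j ∈ LinearMap.ker (Finsupp.linearCombination Λ gen) :=
      hr ▸ Submodule.subset_span ⟨j, rfl⟩
    exact this
  let A : M'' →ₗ[Λ] S.X₃.obj.obj (op V) :=
    ((α''V.inv.hom.app (op TV)).hom).comp (cst.{u + 1} (X.smallEtaleTopology.over V) M'' TV).hom
  have hsA : ∀ i, S.g.hom.app (op V) (s i) = A (gen i) := hs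
  have hd : ∀ j : Fin nr, ∃ y : S.X₁.obj.obj (op V),
      S.f.hom.app (op V) y = Finsupp.linearCombination Λ s (r j) := by
    intro j
    apply sections_exact X.smallEtaleTopology S hS V
    have h1 := Finsupp.apply_linearCombination Λ (S.g.hom.app (op V)).hom s (r j)
    have h2 := Finsupp.apply_linearCombination Λ A gen (r j)
    have h3 : ((S.g.hom.app (op V)).hom ∘ s) = (A ∘ gen) := funext hsA
    change (S.g.hom.app (op V)).hom (Finsupp.linearCombination Λ s (r j)) = 0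
    rw [h1, h3, ← h2, hrmem j, map_zero]
  choose d' hd' using hd
  obtain ⟨W₂, g, z₂, hz₂, c, hc⟩ := exists_const V v M'
    (fun j : Fin nr => α'V.hom.hom.app (op TV) (d' j))
  let α'₂ := transport X.smallEtaleTopology (ModuleCat.{u + 1} Λ) S.X₁ g M' α'V
  let α''₂ := transport X.smallEtaleTopology (ModuleCat.{u + 1} Λ) S.X₃ g M'' α''V
  let T₂ : Over W₂ := Over.mk (𝟙 W₂)
  have hd₂ : ∀ j : Fin nr, S.X₁.obj.map g.op (d' j) =
      α'₂.inv.hom.app (op T₂) (cst.{u + 1} (X.smallEtaleTopology.over W₂) M' T₂ (c j)) :=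
    fun j => restrict_eq_of_const X.smallEtaleTopology g α'V (d' j) (c j) (hc j)
  let s₂ : Fin k → S.X₂.obj.obj (op W₂) := fun i => S.X₂.obj.map g.op (s i)
  have hs₂ : ∀ i, S.g.hom.app (op W₂) (s₂ i) =
      α''₂.inv.hom.app (op T₂) (cst.{u + 1} (X.smallEtaleTopology.over W₂) M'' T₂ (gen i)) := by
    intro i
    have nat := congrArg (fun t => t.hom (s i)) (S.g.hom.naturality g.op)
    have h1 : S.g.hom.app (op W₂) (S.X₂.obj.map g.op (s i)) =
        S.X₃.obj.map g.op (S.g.hom.app (op V) (s i)) := nat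
    change S.g.hom.app (op W₂) (S.X₂.obj.map g.op (s i)) = _
    rw [h1, hs i]
    exact restrict_inv_cst X.smallEtaleTopology g α''V (gen i)
  let ιm₂ : M' →ₗ[Λ] S.X₂.obj.obj (op W₂) :=
    ((S.f.hom.app (op W₂)).hom.comp (α'₂.inv.hom.app (op T₂)).hom).comp
      (cst.{u + 1} (X.smallEtaleTopology.over W₂) M' T₂).hom
  have hrel₂ : ∀ l : Fin k →₀ Λ, Finsupp.linearCombination Λ gen l = 0 →
      ∃ a : M', Finsupp.linearCombination Λ s₂ l =
        S.f.hom.app (op W₂) (α'₂.inv.hom.app (op T₂)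
          (cst.{u + 1} (X.smallEtaleTopology.over W₂) M' T₂ a)) := by
    have hle : LinearMap.ker (Finsupp.linearCombination Λ gen) ≤
        Submodule.comap (Finsupp.linearCombination Λ s₂) (LinearMap.range ιm₂) := by
      rw [← hr, Submodule.span_le]
      rintro _ ⟨j, rfl⟩
      refine ⟨c j, ?_⟩
      have h1 := Finsupp.apply_linearCombination Λ (S.X₂.obj.map g.op).hom s (r j)
      have h2 : Finsupp.linearCombination Λ s₂ (r j) =
          (S.X₂.obj.map g.op).hom (Finsupp.linearCombination Λ s (r j)) := h1.symm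
      rw [h2, ← hd' j]
      have nat := congrArg (fun t => t.hom (d' j)) (S.f.hom.naturality g.op)
      have h3 : S.f.hom.app (op W₂) (S.X₁.obj.map g.op (d' j)) =
          S.X₂.obj.map g.op (S.f.hom.app (op V) (d' j)) := nat
      change S.f.hom.app (op W₂) (α'₂.inv.hom.app (op T₂)
          (cst.{u + 1} (X.smallEtaleTopology.over W₂) M' T₂ (c j))) =
        S.X₂.obj.map g.op (S.f.hom.app (op V) (d' j))
      rw [← h3, hd₂ j]
    intro l hl
    obtain ⟨a, ha⟩ := hle hl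
    exact ⟨a, ha.symm⟩
  have hS₂ : (S.map (X.smallEtaleTopology.overPullback (ModuleCat.{u + 1} Λ) W₂)).ShortExact :=
    hS.map_of_exact _
  have hne : Nonempty T₂.left.left := ⟨z₂⟩
  obtain ⟨E, hEfin, ⟨e⟩⟩ := ext_const (X.smallEtaleTopology.over W₂) Over.mkIdTerminal
    (S.map (X.smallEtaleTopology.overPullback (ModuleCat.{u + 1} Λ) W₂)) hS₂ α'₂ α''₂
    (cst_injective_over W₂ M' T₂ hne) (cst_injective_over W₂ M'' T₂ hne) gen hgen s₂ hs₂ hrel₂
  refine ⟨W₂, z₂, ?_, E, hEfin inferInstance inferInstance, ⟨e⟩⟩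
  rw [← hom_comp_apply g z₂, hz₂, ← hom_comp_apply f v, hv]

/-- extensions of finite type locally constant sheaves are finite type locally constant -/
theorem isFTLC_extension [IsNoetherianRing Λ] (S : ShortComplex (EtModW.Mod Λ X)) (hS : S.ShortExact)
    (h₁ : EtModW.IsFTLocConst Λ S.X₁) (h₃ : EtModW.IsFTLocConst Λ S.X₃) :
    EtModW.IsFTLocConst Λ S.X₂ := by
  obtain ⟨ι₁, U₁, hcov₁, hU₁⟩ := h₁
  obtain ⟨ι₃, U₃, hcov₃, hU₃⟩ := h₃
  have key : ∀ x : X, ∃ (W : X.Etale) (z : W.left), W.hom z = x ∧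
      (∃ (M : Type (u + 1)) (_ : AddCommGroup M) (_ : Module Λ M) (_ : Module.Finite Λ M),
        Nonempty (EtModW.restr Λ S.X₂ W ≅
          (constantSheaf (X.smallEtaleTopology.over W) (ModuleCat.{u + 1} Λ)).obj
            (ModuleCat.of Λ M))) := by
    intro x
    obtain ⟨i₁, y₁, hy₁⟩ := hcov₁ x
    obtain ⟨i₃, y₃, hy₃⟩ := hcov₃ x
    obtain ⟨M, iM, mM, fM, ⟨α₁⟩⟩ := hU₁ i₁
    obtain ⟨N, iN, mN, fN, ⟨α₃⟩⟩ := hU₃ i₃
    have : Module.Finite Λ (ModuleCat.of Λ M) := fM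
    have : Module.Finite Λ (ModuleCat.of Λ N) := fN
    obtain ⟨W, p₁, p₃, z, hz⟩ := EtOpenSub.exists_refinement (U₁ i₁) (U₃ i₃) y₁ y₃ (hy₃.trans hy₁.symm)
    obtain ⟨W₂, z₂, hz₂, E, hE, ⟨e⟩⟩ := extension_local S hS W z
      (transport X.smallEtaleTopology (ModuleCat.{u + 1} Λ) S.X₁ p₁ _ α₁)
      (transport X.smallEtaleTopology (ModuleCat.{u + 1} Λ) S.X₃ p₃ _ α₃)
    refine ⟨W₂, z₂, ?_, E, inferInstance, inferInstance, hE, ⟨e⟩⟩
    rw [hz₂, ← hom_comp_apply p₁ z, hz]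
    exact hy₁
  choose W z hz hW using key
  exact ⟨X, W, fun x => ⟨x, z x, hz x⟩, hW⟩

end Groth.Agent.Lib.Helper43.EtFTLCSerre
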