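import Mathlib
import Groth.Agent.Lib.Helper43.StrataLib

set_option autoImplicit false
universe u
open CategoryTheory CategoryTheory.Limits AlgebraicGeometry Opposite Topology

namespace Groth.Agent.Lib.Helper43.StrataLib

variable {X : Scheme.{u}}

/-- common refinement of two stratifications -/
theorem Strata.inf {P Q : ∀ (T : Scheme.{u}), (T ⟶ X) → Prop}
    (hP : ∀ {T T' : Scheme.{u}} (h : T' ⟶ T) (g : T ⟶ X), P T g → P T' (h ≫ g))
    (hQ : ∀ {T T' : Scheme.{u}} (h : T' ⟶ T) (g : T ⟶ X), Q T g → Q T' (h ≫ g))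
    (hQc : ∀ {T : Scheme.{u}} {g g' : T ⟶ X}, g = g' → Q T g → Q T g')
    {S : Set X} (h1 : Strata P S) (h2 : Strata Q S) :
    Strata (fun T g => P T g ∧ Q T g) S := by
  obtain ⟨n, T, g, a1, a2, a3, a4, a5⟩ := h1
  obtain ⟨n', T', g', b1, b2, b3, b4, b5⟩ := h2
  have := a1
  have := b1
  have hr : ∀ p : Fin n × Fin n', Set.range (pullback.fst (g p.1) (g' p.2) ≫ g p.1) =
      Set.range (g p.1) ∩ Set.range (g' p.2) := fun p =>
    Scheme.Pullback.range_fst_comp _ _
  refine Strata.of_finite (Fin n × Fin n') (fun p => Limits.pullback (g p.1) (g' p.2))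
    (fun p => pullback.fst (g p.1) (g' p.2) ≫ g p.1) (fun p => inferInstance) (fun p => ?_) ?_ ?_
    (fun p => ⟨hP _ _ (a5 p.1), hQc pullback.condition.symm (hQ _ _ (b5 p.2))⟩)
  · rw [hr, Set.preimage_inter]
    exact (a2 p.1).inter (b2 p.2)
  · intro p q hpq
    rw [hr, hr]
    by_cases h : p.1 = q.1
    · have h' : p.2 ≠ q.2 := fun h' => hpq (Prod.ext h h')
      exact (b3 h').mono Set.inter_subset_right Set.inter_subset_right
    · exact (a3 h).mono Set.inter_subset_left Set.inter_subset_left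
  · ext x
    simp only [hr, Set.mem_iUnion, Set.mem_inter_iff, Prod.exists]
    constructor
    · rintro ⟨i, j, hi, hj⟩
      exact a4 ▸ Set.mem_iUnion.2 ⟨i, hi⟩
    · intro hx
      obtain ⟨i, hi⟩ := Set.mem_iUnion.1 (a4 ▸ hx : x ∈ ⋃ i, Set.range (g i))
      obtain ⟨j, hj⟩ := Set.mem_iUnion.1 (b4 ▸ hx : x ∈ ⋃ j, Set.range (g' j))
      exact ⟨i, j, hi, hj⟩

end Groth.Agent.Lib.Helper43.StrataLib
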