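import Groth.Prelude.Def_Red2

/-!
# Points of base changes, affine group schemes, and the coordinate functions on 𝔾_a, 𝔾_m

* `bcPt f x`: for `f : S ⟶ B`, `G : Over B` and an `X`-point `x` of the base change `(Over.pullback f).obj G`,
  the corresponding point `(Over.map f).obj X ⟶ G`; `bcPt` is bijective and multiplicative.
* `ptFn x a`: value of the function `a ∈ A` at a point `x : X ⟶ Spec A`; behaviour under the
  multiplication of an affine monoid scheme for primitive / group-like elements.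
* API for `Red.gaFn`, `Red.gmFn`.
-/

set_option autoImplicit false
universe v u

open CategoryTheory MonoidalCategory CartesianMonoidalCategory MonObj Limits AlgebraicGeometry
open scoped TensorProduct

namespace Groth.Agent.Lib.Helper43

section BaseChange

variable {C : Type u} [Category.{v} C] [HasPullbacks C] {S B : C} (f : S ⟶ B)

attribute [local instance] Over.cartesianMonoidalCategory

/-- The point of `G` over `B` induced by a point of the base change of `G` along `f : S ⟶ B`. -/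
noncomputable def bcPt {G : Over B} {X : Over S} (x : X ⟶ (Over.pullback f).obj G) :
    (Over.map f).obj X ⟶ G :=
  Over.homMk (x.left ≫ pullback.fst _ _) (by
    have := Over.w x
    dsimp at this ⊢
    rw [Category.assoc, pullback.condition, ← Category.assoc, this])

@[simp]
lemma bcPt_left {G : Over B} {X : Over S} (x : X ⟶ (Over.pullback f).obj G) :
    (bcPt f x).left = x.left ≫ pullback.fst _ _ := rfl

lemma bcPt_injective {G : Over B} {X : Over S} :
    Function.Injective (bcPt f : (X ⟶ (Over.pullback f).obj G) → _) := by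
  intro x y h
  ext
  apply pullback.hom_ext
  · exact congrArg Over.Hom.left h
  · have h1 := Over.w x
    have h2 := Over.w y
    dsimp at h1 h2
    rw [h1, h2]

lemma bcPt_surjective {G : Over B} {X : Over S} :
    Function.Surjective (bcPt f : (X ⟶ (Over.pullback f).obj G) → _) := by
  intro y
  have h := Over.w y
  dsimp at h
  refine ⟨Over.homMk (pullback.lift y.left X.hom h) (pullback.lift_snd _ _ _), ?_⟩
  ext
  exact pullback.lift_fst _ _ _

open scoped Obj in
lemma bcPt_mul {G : Over B} [MonObj G] {X : Over S} (x y : X ⟶ (Over.pullback f).obj G) :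
    bcPt f (x * y) = bcPt f x * bcPt f y := by
  ext
  rw [bcPt_left, Hom.mul_def, Hom.mul_def]
  simp only [Over.comp_left, Category.assoc, Functor.obj.μ_def]
  have h1 : ((Over.pullback f).map (μ : G ⊗ G ⟶ G)).left ≫ pullback.fst G.hom f =
      pullback.fst (G ⊗ G).hom f ≫ (μ : G ⊗ G ⟶ G).left := by
    simp only [Over.pullback_map_left]
    exact pullback.lift_fst _ _ _
  rw [h1]
  have h2 : (lift x y).left ≫ (Functor.LaxMonoidal.μ (Over.pullback f) G G).left ≫
      pullback.fst (G ⊗ G).hom f = (lift (bcPt f x) (bcPt f y)).left := by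
    apply pullback.hom_ext
    · simp only [Category.assoc]
      erw [Over.μ_pullback_left_fst_fst]
      simp only [Over.lift_left]
      rw [pullback.lift_fst_assoc, pullback.lift_fst]
      rfl
    · simp only [Category.assoc]
      erw [Over.μ_pullback_left_fst_snd]
      simp only [Over.lift_left]
      rw [pullback.lift_snd_assoc, pullback.lift_snd]
      rfl
  rw [← h2]
  simp only [Category.assoc]

end BaseChange

end Groth.Agent.Lib.Helper43

namespace Groth.Agent.Lib.Helper43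

section Affine

variable {R A : Type u} [CommRing R] [CommRing A]

/-- The value at the `X`-point `x` of `Spec A` of the function `a ∈ A`. -/
noncomputable def ptFn {X : Scheme.{u}} (x : X ⟶ Spec (CommRingCat.of A)) (a : A) : Γ(X, ⊤) :=
  x.appTop ((Scheme.ΓSpecIso (CommRingCat.of A)).inv a)

lemma ptFn_comp {X Y : Scheme.{u}} (g : Y ⟶ X) (x : X ⟶ Spec (CommRingCat.of A)) (a : A) :
    ptFn (g ≫ x) a = g.appTop (ptFn x a) := by
  rw [ptFn, Scheme.Hom.comp_appTop]
  rfl

lemma ptFn_specMap {B : Type u} [CommRing B] {X : Scheme.{u}} (x : X ⟶ Spec (CommRingCat.of B))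
    (φ : A →+* B) (a : A) :
    ptFn (x ≫ Spec.map (CommRingCat.ofHom φ)) a = ptFn x (φ a) := by
  simp only [ptFn, Scheme.Hom.comp_appTop, CommRingCat.comp_apply]
  congr 1
  have := Scheme.ΓSpecIso_inv_naturality (CommRingCat.ofHom φ)
  exact (congr($this a)).symm

/-- `ptFn x` as a ring homomorphism. -/
noncomputable def ptFnHom {X : Scheme.{u}} (x : X ⟶ Spec (CommRingCat.of A)) : A →+* Γ(X, ⊤) :=
  ((Scheme.ΓSpecIso (CommRingCat.of A)).inv ≫ x.appTop).hom

lemma ptFnHom_apply {X : Scheme.{u}} (x : X ⟶ Spec (CommRingCat.of A)) (a : A) :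
    ptFnHom x a = ptFn x a := rfl

end Affine

end Groth.Agent.Lib.Helper43

namespace Groth.Agent.Lib.Helper43

section AffineGrp

variable {R A : Type u} [CommRing R] [CommRing A] [Bialgebra R A]

noncomputable abbrev specOver (R A : Type u) [CommRing R] [CommRing A] [Algebra R A] : Over (Spec (CommRingCat.of R)) :=
  (Spec (CommRingCat.of A)).asOver (Spec (CommRingCat.of R))

variable {X : Over (Spec (CommRingCat.of R))} (x y : X ⟶ specOver R A)

lemma ptFn_lift_tmul (b c : A) :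
    ptFn ((lift x y).left ≫ (pullbackSpecIso R A A).hom) (b ⊗ₜ[R] c) =
      ptFn x.left b * ptFn y.left c := by
  have h : (b ⊗ₜ[R] c : A ⊗[R] A) =
      Algebra.TensorProduct.includeLeftRingHom b *
        (RingHomClass.toRingHom (Algebra.TensorProduct.includeRight : A →ₐ[R] A ⊗[R] A)) c := by
    simp
  have h1 : ptFn ((lift x y).left ≫ (pullbackSpecIso R A A).hom)
      ((Algebra.TensorProduct.includeLeftRingHom : A →+* A ⊗[R] A) b) = ptFn x.left b := by
    rw [← ptFn_specMap]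
    congr 1
    rw [Category.assoc]; erw [pullbackSpecIso_hom_fst]
    rw [Over.lift_left]; exact pullback.lift_fst .. 
  have h2 : ptFn ((lift x y).left ≫ (pullbackSpecIso R A A).hom)
      ((RingHomClass.toRingHom (Algebra.TensorProduct.includeRight : A →ₐ[R] A ⊗[R] A)) c) =
      ptFn y.left c := by
    rw [← ptFn_specMap]
    congr 1
    rw [Category.assoc]; erw [pullbackSpecIso_hom_snd]
    rw [Over.lift_left]; exact pullback.lift_snd .. 
  rw [h, ← ptFnHom_apply, map_mul, ptFnHom_apply, ptFnHom_apply, h1, h2]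

lemma mul_left_eq :
    (x * y).left = ((lift x y).left ≫ (pullbackSpecIso R A A).hom) ≫
      Spec.map (CommRingCat.ofHom (Bialgebra.comulAlgHom R A).toRingHom) := by
  rw [Hom.mul_def, Over.comp_left]
  erw [mul_spec_asOver_spec_left]
  simp only [Category.assoc]
  rfl

lemma ptFn_mul_of_primitive (a : A) (ha : Coalgebra.comul (R := R) a = a ⊗ₜ[R] 1 + 1 ⊗ₜ[R] a) :
    ptFn (x * y).left a = ptFn x.left a + ptFn y.left a := by
  rw [mul_left_eq, ptFn_specMap]
  change ptFn _ (Coalgebra.comul (R := R) a) = _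
  rw [ha, ← ptFnHom_apply, map_add, ptFnHom_apply, ptFnHom_apply, ptFn_lift_tmul, ptFn_lift_tmul]
  simp [← ptFnHom_apply]

lemma ptFn_mul_of_grouplike (a : A) (ha : Coalgebra.comul (R := R) a = a ⊗ₜ[R] a) :
    ptFn (x * y).left a = ptFn x.left a * ptFn y.left a := by
  rw [mul_left_eq, ptFn_specMap]
  change ptFn _ (Coalgebra.comul (R := R) a) = _
  rw [ha, ptFn_lift_tmul]

end AffineGrp

end Groth.Agent.Lib.Helper43

namespace Groth.Agent.Lib.Helper43

section SpecPts

variable {A : Type u} [CommRing A] {X : Scheme.{u}}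

/-- A morphism to `Spec A` is determined by the induced ring hom `A → Γ(X)`. -/
lemma eq_toSpecΓ_comp (x : X ⟶ Spec (CommRingCat.of A)) :
    x = X.toSpecΓ ≫ Spec.map (CommRingCat.ofHom (ptFnHom x)) := by
  have h : CommRingCat.ofHom (ptFnHom x) = (Scheme.ΓSpecIso (CommRingCat.of A)).inv ≫ x.appTop := rfl
  rw [h, Spec.map_comp, ← Scheme.toSpecΓ_naturality_assoc, toSpecΓ_SpecMap_ΓSpecIso_inv,
    Category.comp_id]

lemma ext_of_ptFnHom {x y : X ⟶ Spec (CommRingCat.of A)} (h : ptFnHom x = ptFnHom y) : x = y := by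
  rw [eq_toSpecΓ_comp x, eq_toSpecΓ_comp y, h]

/-- The point of `Spec A` attached to a ring hom `A → Γ(X)`. -/
noncomputable def ptOfHom (φ : A →+* Γ(X, ⊤)) : X ⟶ Spec (CommRingCat.of A) :=
  X.toSpecΓ ≫ Spec.map (CommRingCat.ofHom φ)

lemma ptFn_ptOfHom (φ : A →+* Γ(X, ⊤)) (a : A) : ptFn (ptOfHom φ) a = φ a := by
  rw [ptOfHom, ptFn_specMap, ptFn, Scheme.toSpecΓ_appTop]
  exact Iso.inv_hom_id_apply (C := CommRingCat) _ _

end SpecPts

section Ga

variable {S : Scheme.{u}} {X : Over S}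

/-- the structure map to `Spec ℤ` -/
noncomputable abbrev toZ (S : Scheme.{u}) : S ⟶ Spec (CommRingCat.of (ULift.{u} ℤ)) :=
  Limits.IsTerminal.from specULiftZIsTerminal S

lemma ringHom_ulift_int_ext {B : Type*} [Ring B] (f g : ULift.{u} ℤ →+* B) : f = g := by
  ext x
  have hx : x = ((x.down : ℤ) : ULift.{u} ℤ) := by ext; simp
  rw [hx, map_intCast, map_intCast]

lemma gaFn_eq (x : X ⟶ Red.Ga S) :
    Red.gaFn x = ptFn (bcPt (toZ S) x).left
      (SymmetricAlgebra.ι (ULift.{u} ℤ) (ULift.{u} ℤ) (ULift.up 1)) := rfl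

lemma gaFn_mul (x y : X ⟶ Red.Ga S) : Red.gaFn (x * y) = Red.gaFn x + Red.gaFn y := by
  rw [gaFn_eq, gaFn_eq, gaFn_eq, bcPt_mul]
  exact ptFn_mul_of_primitive _ _ _ (SymmetricAlgebra.comul_ι _ _ _)

/-- `gaFn` as a monoid hom to the additive group of global functions. -/
noncomputable def gaHom : (X ⟶ Red.Ga S) →* Multiplicative Γ(X.left, ⊤) :=
  MonoidHom.mk' (fun x => Multiplicative.ofAdd (Red.gaFn x)) (fun x y => by rw [gaFn_mul]; rfl)

lemma gaFn_one : Red.gaFn (1 : X ⟶ Red.Ga S) = 0 :=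
  congrArg Multiplicative.toAdd (gaHom (S := S) (X := X)).map_one

lemma gaFn_inv (x : X ⟶ Red.Ga S) : Red.gaFn x⁻¹ = - Red.gaFn x :=
  congrArg Multiplicative.toAdd ((gaHom (S := S) (X := X)).map_inv x)

lemma gaFn_div (x y : X ⟶ Red.Ga S) : Red.gaFn (x / y) = Red.gaFn x - Red.gaFn y :=
  congrArg Multiplicative.toAdd ((gaHom (S := S) (X := X)).map_div x y)

lemma gaFn_pow (x : X ⟶ Red.Ga S) (n : ℕ) : Red.gaFn (x ^ n) = n • Red.gaFn x :=
  congrArg Multiplicative.toAdd ((gaHom (S := S) (X := X)).map_pow x n)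

lemma symAlg_ringHom_ext {B : Type*} [CommRing B]
    {f g : SymmetricAlgebra (ULift.{u} ℤ) (ULift.{u} ℤ) →+* B}
    (h : f (SymmetricAlgebra.ι _ _ (ULift.up 1)) = g (SymmetricAlgebra.ι _ _ (ULift.up 1))) : f = g := by
  refine RingHom.ext fun a => ?_
  refine SymmetricAlgebra.induction _ _ (motive := fun a => f a = g a) ?_ ?_ ?_ ?_ a
  · intro r
    exact congr($(ringHom_ulift_int_ext (f.comp (algebraMap _ _)) (g.comp (algebraMap _ _))) r)
  · intro r
    have hr : r = (r.down : ℤ) • (ULift.up 1 : ULift.{u} ℤ) := by ext; simp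
    rw [hr, map_zsmul, map_zsmul, map_zsmul, h]
  · intro a b ha hb
    rw [map_mul, map_mul, ha, hb]
  · intro a b ha hb
    rw [map_add, map_add, ha, hb]

lemma gaFn_injective : Function.Injective (Red.gaFn : (X ⟶ Red.Ga S) → Γ(X.left, ⊤)) := by
  intro x y h
  apply bcPt_injective (toZ S)
  ext
  apply ext_of_ptFnHom
  apply symAlg_ringHom_ext
  exact h

lemma gaFn_surjective : Function.Surjective (Red.gaFn : (X ⟶ Red.Ga S) → Γ(X.left, ⊤)) := by
  intro b
  let _ : Algebra (ULift.{u} ℤ) Γ(X.left, ⊤) :=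
    ((Int.castRingHom _).comp (ULift.ringEquiv : ULift.{u} ℤ ≃+* ℤ).toRingHom).toAlgebra
  let φ : SymmetricAlgebra (ULift.{u} ℤ) (ULift.{u} ℤ) →ₐ[ULift.{u} ℤ] Γ(X.left, ⊤) :=
    SymmetricAlgebra.lift (LinearMap.comp (Algebra.lmul (ULift.{u} ℤ) Γ(X.left, ⊤) b)
      (Algebra.linearMap (ULift.{u} ℤ) Γ(X.left, ⊤)))
  have hφ : φ (SymmetricAlgebra.ι _ _ (ULift.up 1)) = b := by
    simp only [φ, SymmetricAlgebra.lift_ι_apply, LinearMap.comp_apply, Algebra.linearMap_apply]
    have : (ULift.up 1 : ULift.{u} ℤ) = 1 := rfl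
    rw [this, map_one]
    simp
  let y : (Over.map (toZ S)).obj X ⟶ Red.GaZ :=
    Over.homMk (ptOfHom φ.toRingHom) (specULiftZIsTerminal.hom_ext _ _)
  obtain ⟨x, hx⟩ := bcPt_surjective (toZ S) y
  refine ⟨x, ?_⟩
  rw [gaFn_eq, hx]
  exact (ptFn_ptOfHom _ _).trans hφ

lemma gaFn_comp {Y : Over S} (g : Y ⟶ X) (x : X ⟶ Red.Ga S) :
    Red.gaFn (g ≫ x) = g.left.appTop (Red.gaFn x) := by
  unfold Red.gaFn
  rw [Over.comp_left, Category.assoc, Scheme.Hom.comp_appTop]
  rfl

end Ga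

end Groth.Agent.Lib.Helper43

namespace Groth.Agent.Lib.Helper43

section Gm

variable {S : Scheme.{u}} {X : Over S}

/-- The coordinate `T` of `ℤ[T, T⁻¹]`. -/
noncomputable abbrev gmT : MonoidAlgebra (ULift.{u} ℤ) (Multiplicative ℤ) :=
  MonoidAlgebra.single (Multiplicative.ofAdd (1 : ℤ)) 1

lemma gmFn_eq (t : X ⟶ Red.Gm S) :
    Red.gmFn t = ptFn (bcPt (toZ S) t).left gmT := rfl

lemma comul_gmT : Coalgebra.comul (R := ULift.{u} ℤ) (gmT.{u}) = gmT ⊗ₜ[ULift.{u} ℤ] gmT := by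
  simp [gmT]

lemma gmFn_mul (s t : X ⟶ Red.Gm S) : Red.gmFn (s * t) = Red.gmFn s * Red.gmFn t := by
  rw [gmFn_eq, gmFn_eq, gmFn_eq, bcPt_mul]
  exact ptFn_mul_of_grouplike _ _ _ comul_gmT

lemma isUnit_gmT : IsUnit (gmT.{u}) := by
  refine ⟨⟨gmT, MonoidAlgebra.single (Multiplicative.ofAdd (-1 : ℤ)) 1, ?_, ?_⟩, rfl⟩
  · rw [gmT, MonoidAlgebra.single_mul_single, ← ofAdd_add]; simp; rfl
  · rw [gmT, MonoidAlgebra.single_mul_single, ← ofAdd_add]; simp; rfl

lemma isUnit_gmFn (t : X ⟶ Red.Gm S) : IsUnit (Red.gmFn t) := by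
  rw [gmFn_eq, ← ptFnHom_apply]
  exact isUnit_gmT.map _

/-- `gmFn` as a monoid hom to the units of the ring of global functions. -/
noncomputable def gmHom : (X ⟶ Red.Gm S) →* Γ(X.left, ⊤)ˣ :=
  MonoidHom.mk' (fun t => (isUnit_gmFn t).unit) (fun s t => by
    ext
    simp only [IsUnit.unit_spec, Units.val_mul]
    exact gmFn_mul s t)

@[simp] lemma gmHom_val (t : X ⟶ Red.Gm S) : ((gmHom t : Γ(X.left, ⊤)ˣ) : Γ(X.left, ⊤)) = Red.gmFn t := rfl

lemma gmFn_one : Red.gmFn (1 : X ⟶ Red.Gm S) = 1 :=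
  congrArg Units.val (gmHom (S := S) (X := X)).map_one

lemma gmFn_inv (t : X ⟶ Red.Gm S) : Red.gmFn t⁻¹ = ((gmHom t)⁻¹ : Γ(X.left, ⊤)ˣ) :=
  congrArg Units.val ((gmHom (S := S) (X := X)).map_inv t)

lemma gmFn_inv_mul (t : X ⟶ Red.Gm S) : Red.gmFn t⁻¹ * Red.gmFn t = 1 := by
  rw [← gmFn_mul, inv_mul_cancel, gmFn_one]

lemma gmFn_mul_inv (t : X ⟶ Red.Gm S) : Red.gmFn t * Red.gmFn t⁻¹ = 1 := by
  rw [← gmFn_mul, mul_inv_cancel, gmFn_one]

lemma gmFn_pow (t : X ⟶ Red.Gm S) (n : ℕ) : Red.gmFn (t ^ n) = Red.gmFn t ^ n :=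
  congrArg Units.val ((gmHom (S := S) (X := X)).map_pow t n)

lemma laurent_ringHom_ext {B : Type*} [CommRing B]
    {f g : MonoidAlgebra (ULift.{u} ℤ) (Multiplicative ℤ) →+* B} (h : f gmT = g gmT) : f = g := by
  apply MonoidAlgebra.ringHom_ext'
  · exact ringHom_ulift_int_ext _ _
  · apply MonoidHom.ext_mint
    exact h

lemma gmFn_injective : Function.Injective (Red.gmFn : (X ⟶ Red.Gm S) → Γ(X.left, ⊤)) := by
  intro x y h
  apply bcPt_injective (toZ S)
  ext
  apply ext_of_ptFnHom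
  apply laurent_ringHom_ext
  exact h

lemma gmFn_surjective (v : Γ(X.left, ⊤)ˣ) : ∃ t : X ⟶ Red.Gm S, Red.gmFn t = v := by
  let _ : Algebra (ULift.{u} ℤ) Γ(X.left, ⊤) :=
    ((Int.castRingHom _).comp (ULift.ringEquiv : ULift.{u} ℤ ≃+* ℤ).toRingHom).toAlgebra
  let φ : MonoidAlgebra (ULift.{u} ℤ) (Multiplicative ℤ) →ₐ[ULift.{u} ℤ] Γ(X.left, ⊤) :=
    MonoidAlgebra.lift _ _ _ ((Units.coeHom Γ(X.left, ⊤)).comp (zpowersHom Γ(X.left, ⊤)ˣ v))
  have hφ : φ gmT = v := by
    simp only [φ, gmT, MonoidAlgebra.lift_single, MonoidHom.comp_apply, zpowersHom_apply, toAdd_ofAdd, zpow_one,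
      Units.coeHom_apply]
    rw [Algebra.smul_def, map_one, _root_.one_mul]
  let y : (Over.map (toZ S)).obj X ⟶ Red.diag (ULift.{u} ℤ) ℤ :=
    Over.homMk (ptOfHom φ.toRingHom) (specULiftZIsTerminal.hom_ext _ _)
  obtain ⟨x, hx⟩ := bcPt_surjective (toZ S) y
  refine ⟨x, ?_⟩
  rw [gmFn_eq, hx]
  exact (ptFn_ptOfHom _ _).trans hφ

lemma gmFn_comp {Y : Over S} (g : Y ⟶ X) (t : X ⟶ Red.Gm S) :
    Red.gmFn (g ≫ t) = g.left.appTop (Red.gmFn t) := by
  unfold Red.gmFn
  rw [Over.comp_left, Category.assoc, Scheme.Hom.comp_appTop]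
  rfl

end Gm

end Groth.Agent.Lib.Helper43
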