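import Mathlib
import Groth.Prelude.Def_TwC

set_option autoImplicit false
universe v u

open CategoryTheory MonoidalCategory CartesianMonoidalCategory MonObj Limits AlgebraicGeometry
open TopologicalSpace

namespace Groth.Agent.Lib.Helper43

section ConstPts

variable {S : Scheme.{u}} {M : Type v} [Small.{u} M]

/-- morphisms out of the constant scheme are determined by their values on the points `pt m` -/
lemma const_hom_ext {Y : Over S} {f g : TwC.const S M ⟶ Y}
    (h : ∀ m, TwC.pt S M m ≫ f = TwC.pt S M m ≫ g) : f = g := by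
  ext
  apply Sigma.hom_ext
  intro m
  exact congrArg (fun t => t.left) (h m)

/-- the restriction of `W` to an open -/
noncomputable abbrev resOver (W : Over S) (U : W.left.Opens) : Over S := Over.mk (U.ι ≫ W.hom)

/-- the inclusion of the restriction -/
noncomputable abbrev resIncl (W : Over S) (U : W.left.Opens) : resOver W U ⟶ W := Over.homMk U.ι rfl

variable {W : Over S}

/-- the `m`-th piece of `W` under a point `z` of the constant scheme -/
noncomputable def piece (z : W ⟶ TwC.const S M) (m : M) : W.left.Opens :=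
  z.left ⁻¹ᵁ (Sigma.ι (fun _ : M => S) m).opensRange

lemma iSup_piece (z : W ⟶ TwC.const S M) : ⨆ m, piece z m = ⊤ := by
  rw [eq_top_iff]
  intro x _
  obtain ⟨y, hy⟩ := (sigmaOpenCover (fun _ : M => S)).covers (z.left x)
  rw [Opens.mem_iSup]
  exact ⟨_, ⟨y, hy⟩⟩

lemma disjoint_piece (z : W ⟶ TwC.const S M) {m m' : M} (h : m ≠ m') :
    Disjoint (piece z m) (piece z m') := by
  have := disjoint_opensRange_sigmaι (fun _ : M => S) m m' h
  rw [disjoint_iff] at this ⊢
  unfold piece
  rw [← Scheme.Hom.preimage_inf, this]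
  rfl

/-- on an open inside the `m`-th piece, `z` is the constant point `pt m` -/
lemma resIncl_comp_of_le_piece (z : W ⟶ TwC.const S M) (m : M) (U : W.left.Opens)
    (hU : U ≤ piece z m) :
    resIncl W U ≫ z = toUnit (resOver W U) ≫ TwC.pt S M m := by
  ext
  have hr : Set.range (U.ι ≫ z.left) ⊆ Set.range (Sigma.ι (fun _ : M => S) m) := by
    rintro _ ⟨x, rfl⟩
    exact hU x.2
  have h1 := IsOpenImmersion.lift_fac (Sigma.ι (fun _ : M => S) m) (U.ι ≫ z.left) hr
  have h2 : IsOpenImmersion.lift (Sigma.ι (fun _ : M => S) m) (U.ι ≫ z.left) hr = U.ι ≫ W.hom := by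
    have h3 := Over.w z
    calc IsOpenImmersion.lift (Sigma.ι (fun _ : M => S) m) (U.ι ≫ z.left) hr
        = IsOpenImmersion.lift (Sigma.ι (fun _ : M => S) m) (U.ι ≫ z.left) hr ≫
            Sigma.ι (fun _ : M => S) m ≫ Sigma.desc (fun _ : M => 𝟙 S) := by simp
      _ = (U.ι ≫ z.left) ≫ Sigma.desc (fun _ : M => 𝟙 S) := by rw [← Category.assoc, h1]
      _ = U.ι ≫ W.hom := by rw [Category.assoc]; congr 1
  change U.ι ≫ z.left = (toUnit (resOver W U)).left ≫ Sigma.ι (fun _ : M => S) m
  rw [← h1, h2]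
  congr 1

/-- a point of the constant scheme is determined by its pieces -/
lemma eq_of_piece_le {z₁ z₂ : W ⟶ TwC.const S M} (h : ∀ m, piece z₁ m ≤ piece z₂ m) : z₁ = z₂ := by
  ext
  refine Scheme.Cover.hom_ext (W.left.openCoverOfIsOpenCover (piece z₁) (iSup_piece z₁)) _ _ ?_
  intro m
  have h1 := congrArg (fun t => t.left) (resIncl_comp_of_le_piece z₁ m (piece z₁ m) le_rfl)
  have h2 := congrArg (fun t => t.left) (resIncl_comp_of_le_piece z₂ m (piece z₁ m) (h m))
  exact h1.trans h2.symm

open scoped Function in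
/-- existence of a point of the constant scheme with prescribed (clopen, disjoint, covering) pieces -/
lemma exists_const_pt (U : M → W.left.Opens) (hcov : ⨆ m, U m = ⊤)
    (hdisj : Pairwise (Disjoint on U)) :
    ∃ z : W ⟶ TwC.const S M, ∀ m, resIncl W (U m) ≫ z = toUnit (resOver W (U m)) ≫ TwC.pt S M m := by
  have hc : Nonempty (IsColimit (Cofan.mk W.left (fun m => (U m).ι))) := by
    apply nonempty_isColimit_cofanMk_of
    · simpa using hcov
    · intro m m' hmm
      simpa [Function.onFun] using hdisj hmm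
  obtain ⟨hc⟩ := hc
  let zl : W.left ⟶ (TwC.const S M).left :=
    Cofan.IsColimit.desc hc (fun m => ((U m).ι ≫ W.hom) ≫ Sigma.ι (fun _ : M => S) m)
  have hzl : ∀ m, (U m).ι ≫ zl = ((U m).ι ≫ W.hom) ≫ Sigma.ι (fun _ : M => S) m := fun m =>
    Cofan.IsColimit.fac hc _ m
  have hw : zl ≫ (TwC.const S M).hom = W.hom := by
    apply Cofan.IsColimit.hom_ext hc
    intro m
    change (U m).ι ≫ zl ≫ _ = (U m).ι ≫ W.hom
    rw [← Category.assoc, hzl]
    simp
  refine ⟨Over.homMk zl hw, fun m => ?_⟩
  ext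
  change (U m).ι ≫ zl = (toUnit (resOver W (U m))).left ≫ Sigma.ι (fun _ : M => S) m
  rw [hzl]
  congr 1

end ConstPts

end Groth.Agent.Lib.Helper43
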