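import Mathlib

set_option autoImplicit false

namespace Groth.Agent.Lib.Helper43

/-- Abstract rank-one (SL₂-type) relations between two "root groups" `P`, `M` (parametrised by a
commutative ring `R`), a torus `𝕋` acting on them through a character `α`, and a cocharacter
`av` with `α ∘ av = (·)²`, including the "big cell" commutation rule `F`. -/
structure RankOneRel (R : Type*) [CommRing R] (Γ : Type*) [Group Γ] (𝕋 : Type*) [Group 𝕋] where
  P : R → Γ
  M : R → Γ
  j : 𝕋 →* Γ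
  α : 𝕋 →* Rˣ
  av : Rˣ →* 𝕋
  P_add : ∀ a b, P (a + b) = P a * P b
  M_add : ∀ a b, M (a + b) = M a * M b
  α_av : ∀ u, α (av u) = u * u
  TP : ∀ t a, j t * P a * (j t)⁻¹ = P (α t * a)
  TM : ∀ t a, j t * M (α t * a) * (j t)⁻¹ = M a
  F : ∀ (a b a' b' : R) (u : Rˣ), (u : R) = 1 + a * b → a' * u = a → b' * u = b →
      P a * M b = M b' * j (av u) * P a'

namespace RankOneRel

variable {R : Type*} [CommRing R] {Γ : Type*} [Group Γ] {𝕋 : Type*} [Group 𝕋]
  (D : RankOneRel R Γ 𝕋)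

/-- the image of the cocharacter -/
def A (u : Rˣ) : Γ := D.j (D.av u)

lemma A_mul (u v : Rˣ) : D.A (u * v) = D.A u * D.A v := by simp [A]
lemma A_one : D.A 1 = 1 := by simp [A]
lemma A_inv (u : Rˣ) : D.A u⁻¹ = (D.A u)⁻¹ := by simp [A]

lemma P_zero : D.P 0 = 1 := by
  have := D.P_add 0 0
  rw [add_zero] at this
  exact (mul_eq_left.mp this.symm)

lemma M_zero : D.M 0 = 1 := by
  have := D.M_add 0 0
  rw [add_zero] at this
  exact (mul_eq_left.mp this.symm)

lemma P_neg (a : R) : D.P (-a) = (D.P a)⁻¹ := by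
  rw [eq_inv_iff_mul_eq_one, ← D.P_add, neg_add_cancel, D.P_zero]

lemma M_neg (a : R) : D.M (-a) = (D.M a)⁻¹ := by
  rw [eq_inv_iff_mul_eq_one, ← D.M_add, neg_add_cancel, D.M_zero]

lemma P_sub (a b : R) : D.P (a - b) = D.P a * (D.P b)⁻¹ := by
  rw [sub_eq_add_neg, D.P_add, D.P_neg]

lemma M_sub (a b : R) : D.M (a - b) = D.M a * (D.M b)⁻¹ := by
  rw [sub_eq_add_neg, D.M_add, D.M_neg]

lemma TP' (t : 𝕋) (a : R) : D.j t * D.P a = D.P (D.α t * a) * D.j t := by
  rw [← D.TP]; group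

lemma TM' (t : 𝕋) (a : R) : D.j t * D.M (D.α t * a) = D.M a * D.j t := by
  rw [← D.TM t a]; group

lemma AP (u : Rˣ) (a : R) : D.A u * D.P a = D.P (u * u * a) * D.A u := by
  rw [A, D.TP', D.α_av, Units.val_mul]

lemma AM (u : Rˣ) (a : R) : D.A u * D.M (u * u * a) = D.M a * D.A u := by
  have := D.TM' (D.av u) a
  rwa [D.α_av, Units.val_mul] at this

/-- The commutation rule in terms of `A`. -/
lemma F' (a b a' b' : R) (u : Rˣ) (hu : (u : R) = 1 + a * b) (ha : a' * u = a) (hb : b' * u = b) :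
    D.P a * D.M b = D.M b' * D.A u * D.P a' := D.F a b a' b' u hu ha hb

/-- The reversed commutation rule. -/
lemma Fbar (a b a' b' : R) (u : Rˣ) (hu : (u : R) = 1 + a * b) (ha : a' * u = a) (hb : b' * u = b) :
    D.M b * D.P a = D.P a' * (D.A u)⁻¹ * D.M b' := by
  have h := D.F' (-a) (-b) (-a') (-b') u (by rw [hu]; ring) (by rw [← ha]; ring) (by rw [← hb]; ring)
  rw [D.P_neg, D.M_neg, D.P_neg, D.M_neg] at h
  have := congrArg (fun g => g⁻¹) h
  simp only [mul_inv_rev, inv_inv] at this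
  rw [this, mul_assoc]

/-- The coroot through the root groups. -/
lemma coroot (u : Rˣ) (b₁ a₁ b₂ a₂ : R) (hb₁ : b₁ * u = 1 - u) (ha₁ : a₁ = 1) (hb₂ : b₂ = u - 1)
    (ha₂ : a₂ * u = -1) : D.A u = D.M b₁ * D.P a₁ * D.M b₂ * D.P a₂ := by
  have h := D.F' a₁ b₂ (-a₂) (-b₁) u (by rw [ha₁, hb₂]; ring) (by rw [ha₁, neg_mul, ha₂]; ring)
    (by rw [neg_mul, hb₁, hb₂]; ring)
  calc D.A u = D.M b₁ * (D.M (-b₁) * D.A u * D.P (-a₂)) * D.P a₂ := by
        rw [D.M_neg, D.P_neg]; group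
    _ = D.M b₁ * (D.P a₁ * D.M b₂) * D.P a₂ := by rw [h]
    _ = _ := by group

/-- The product of two elements of the big cell. -/
lemma bigCell_mul (x y x' y' y₂ x₂ : R) (t t' : 𝕋) (u : Rˣ)
    (hu : (u : R) = 1 + x * y')
    (hy₂ : (y₂ - y) * u * D.α t = y')
    (hx₂ : (x₂ - x') * u * D.α t' = x) :
    (D.M y * D.j t * D.P x) * (D.M y' * D.j t' * D.P x') =
      D.M y₂ * D.j (t * D.av u * t') * D.P x₂ := by
  have h := D.F x y' ((x₂ - x') * D.α t') ((y₂ - y) * D.α t) u hu (by rw [← hx₂]; ring)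
    (by rw [← hy₂]; ring)
  have h1 : D.j t * D.M ((y₂ - y) * D.α t) = D.M (y₂ - y) * D.j t := by
    rw [mul_comm]; exact D.TM' t _
  have h2 : D.P ((x₂ - x') * D.α t') * D.j t' = D.j t' * D.P (x₂ - x') := by
    rw [mul_comm]; exact (D.TP' t' _).symm
  calc (D.M y * D.j t * D.P x) * (D.M y' * D.j t' * D.P x')
      = D.M y * D.j t * (D.P x * D.M y') * D.j t' * D.P x' := by group
    _ = D.M y * (D.j t * D.M ((y₂ - y) * D.α t)) * D.j (D.av u) *
          (D.P ((x₂ - x') * D.α t') * D.j t') * D.P x' := by rw [h]; group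
    _ = D.M y * (D.M (y₂ - y) * D.j t) * D.j (D.av u) * (D.j t' * D.P (x₂ - x')) * D.P x' := by
        rw [h1, h2]
    _ = (D.M y * D.M (y₂ - y)) * (D.j t * D.j (D.av u) * D.j t') * (D.P (x₂ - x') * D.P x') := by
        group
    _ = _ := by
        rw [← D.M_add, ← D.P_add, add_sub_cancel, sub_add_cancel, map_mul, map_mul]

/-- The Weyl element `w(x) = P(x) M(x') P(x)` with `x' x = -1`. -/
def w (x x' : R) : Γ := D.P x * D.M x' * D.P x

/-- `w(z x) = A(z) w(x)`. -/
lemma w_smul (x x' y y' : R) (z : Rˣ) (hx : x' * x = -1) (hy : y' * y = -1) (hyx : y = z * x) :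
    D.w y y' = D.A z * D.w x x' := by
  -- `w(zx) w(x)⁻¹ = P(zx) M(y') P((z-1)x) M(-x') P(-x)`, apply `F` in the middle
  have hv : (z : R) * ((z⁻¹ : Rˣ) : R) = 1 := Units.mul_inv z
  set v : R := ((z⁻¹ : Rˣ) : R) with hvdef
  have hx'y' : y' * z = x' := by
    -- y' z x = -1 = x' x and x is a unit
    have : y' * z * x = x' * x := by rw [hx, ← hy, hyx]; ring
    have hxu : IsUnit x := ⟨⟨x, -x', by linear_combination (-1 : R) * hx, by linear_combination (-1 : R) * hx⟩, rfl⟩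
    exact hxu.mul_left_injective this
  have h := D.F' (y - x) (-x') ((y - x) * v) (-y') z
    (by rw [hyx]; linear_combination (z - 1) * hx)
    (by linear_combination (y - x) * hv) (by linear_combination -hx'y')
  have h3 : D.A z * D.P ((y - x) * v - x) = D.P (-y) * D.A z := by
    have := D.AP z ((y - x) * v - x)
    rw [this]
    congr 2
    rw [hyx]
    linear_combination (z * x * z - z * x) * hv
  have key : D.w y y' * (D.w x x')⁻¹ = D.A z := by
    calc D.w y y' * (D.w x x')⁻¹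
        = D.P y * D.M y' * (D.P (y - x) * D.M (-x')) * D.P (-x) := by
          rw [w, w, D.P_sub, D.M_neg, D.P_neg]; group
      _ = D.P y * D.M y' * (D.M (-y') * D.A z * D.P ((y - x) * v)) * D.P (-x) := by rw [h]
      _ = D.P y * (D.A z * D.P ((y - x) * v - x)) := by
          rw [D.M_neg, sub_eq_add_neg ((y - x) * v) x, D.P_add]; group
      _ = D.P y * (D.P (-y) * D.A z) := by rw [h3]
      _ = D.A z := by rw [D.P_neg]; group
  rw [← key]; group

/-- `w(z x) = w(x) A(z)⁻¹`. -/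
lemma w_smul' (x x' y y' : R) (z : Rˣ) (hx : x' * x = -1) (hy : y' * y = -1) (hyx : y = z * x) :
    D.w y y' = D.w x x' * (D.A z)⁻¹ := by
  have hv : (z : R) * ((z⁻¹ : Rˣ) : R) = 1 := Units.mul_inv z
  set v : R := ((z⁻¹ : Rˣ) : R) with hvdef
  have hx'y' : y' * z = x' := by
    have : y' * z * x = x' * x := by rw [hx, ← hy, hyx]; ring
    have hxu : IsUnit x := ⟨⟨x, -x', by linear_combination (-1 : R) * hx,
      by linear_combination (-1 : R) * hx⟩, rfl⟩
    exact hxu.mul_left_injective this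
  have h := D.F' (y - x) y' ((y - x) * z) x' z⁻¹
    (by rw [← hvdef]; linear_combination (-1 : R) * hy + v * hx + x * v * hx'y' - x * y' * hv)
    (by rw [← hvdef]; linear_combination (y - x) * hv)
    (by rw [← hvdef]; linear_combination y' * hv - v * hx'y')
  have h3 : D.A z⁻¹ * D.P ((y - x) * z + y) = D.P x * D.A z⁻¹ := by
    have := D.AP z⁻¹ ((y - x) * z + y)
    rw [this]
    congr 2
    rw [← hvdef, hyx]
    linear_combination (x * z * v + x) * hv
  have key : (D.w x x')⁻¹ * D.w y y' = (D.A z)⁻¹ := by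
    calc (D.w x x')⁻¹ * D.w y y'
        = D.P (-x) * D.M (-x') * (D.P (y - x) * D.M y') * D.P y := by
          rw [w, w, sub_eq_neg_add, D.P_add, D.M_neg, D.P_neg]; group
      _ = D.P (-x) * D.M (-x') * (D.M x' * D.A z⁻¹ * D.P ((y - x) * z)) * D.P y := by rw [h]
      _ = D.P (-x) * (D.A z⁻¹ * D.P ((y - x) * z + y)) := by
          rw [D.M_neg, D.P_add]; group
      _ = D.P (-x) * (D.P x * D.A z⁻¹) := by rw [h3]
      _ = (D.A z)⁻¹ := by rw [D.P_neg, D.A_inv]; group
  rw [← key]; group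

/-- `w(x)² = A(-1)`. -/
lemma w_sq (x x' : R) (hx : x' * x = -1) : D.w x x' * D.w x x' = D.A (-1) := by
  have h := D.F' (x + x) x' (-(x + x)) (-x') (-1)
    (by rw [Units.val_neg, Units.val_one]; linear_combination (-2 : R) * hx)
    (by rw [Units.val_neg, Units.val_one]; ring) (by rw [Units.val_neg, Units.val_one]; ring)
  have h3 : D.A (-1) * D.P (-x) = D.P (-x) * D.A (-1) := by
    have := D.AP (-1) (-x)
    rw [this]
    congr 2
    rw [Units.val_neg, Units.val_one]; ring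
  calc D.w x x' * D.w x x' = D.P x * D.M x' * (D.P (x + x) * D.M x') * D.P x := by
        rw [w, D.P_add]; group
    _ = D.P x * D.M x' * (D.M (-x') * D.A (-1) * D.P (-(x + x))) * D.P x := by rw [h]
    _ = D.P x * (D.A (-1) * D.P (-x)) := by
        rw [D.M_neg, D.P_neg, D.P_neg, D.P_add]; group
    _ = D.P x * (D.P (-x) * D.A (-1)) := by rw [h3]
    _ = D.A (-1) := by rw [D.P_neg]; group

/-- `w(x) w(y) = A(m)` with `m y = -x`. -/
lemma w_mul_w (x x' y y' : R) (m : Rˣ) (hx : x' * x = -1) (hy : y' * y = -1) (hm : m * y = -x) :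
    D.w x x' * D.w y y' = D.A m := by
  have h1 : D.w x x' = D.A (-m) * D.w y y' :=
    D.w_smul y y' x x' (-m) hy hx (by rw [Units.val_neg]; linear_combination hm)
  rw [h1, mul_assoc, D.w_sq y y' hy, ← D.A_mul]
  congr 1
  ext
  simp

/-- Conjugation of the torus by the Weyl element. -/
lemma w_conj (hcomm : ∀ s t : 𝕋, s * t = t * s) (x x' : R) (hx : x' * x = -1) (t : 𝕋) :
    D.w x x' * D.j t * (D.w x x')⁻¹ = (D.A (D.α t))⁻¹ * D.j t := by
  have hv : ((D.α t : Rˣ) : R) * (((D.α t)⁻¹ : Rˣ) : R) = 1 := Units.mul_inv _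
  set z : Rˣ := (D.α t)⁻¹ with hz
  have e1 : (D.j t)⁻¹ * D.P x * D.j t = D.P (z * x) := by
    have := D.TP t (z * x)
    rw [← mul_assoc, hv, one_mul] at this
    rw [← this]; group
  have e2 : (D.j t)⁻¹ * D.M x' * D.j t = D.M (D.α t * x') := by
    have := D.TM t x'
    rw [← this]; group
  have e3 : (D.j t)⁻¹ * D.w x x' * D.j t = D.w (z * x) (D.α t * x') := by
    rw [w, w, ← e1, ← e2]; group
  have e4 : D.w (z * x) (D.α t * x') = D.A z * D.w x x' :=
    D.w_smul x x' (z * x) (D.α t * x') z hx (by linear_combination (x' * x) * hv + hx) rfl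
  have e5 : D.w x x' * D.j t * (D.w x x')⁻¹ = D.j t * D.A z := by
    rw [← e3] at e4
    have : D.w x x' * D.j t = D.j t * D.A z * D.w x x' := by
      calc D.w x x' * D.j t = D.j t * ((D.j t)⁻¹ * D.w x x' * D.j t) := by group
        _ = D.j t * (D.A z * D.w x x') := by rw [e4]
        _ = _ := by group
    rw [this]; group
  rw [e5, A, ← map_mul, hcomm, map_mul, hz, map_inv, map_inv]
  rfl

end RankOneRel

end Groth.Agent.Lib.Helper43
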