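import Groth.Agent.Lib.Helper43.GaGm
import Groth.Agent.Lib.Helper43.RankOne

set_option autoImplicit false
universe u

open CategoryTheory MonoidalCategory CartesianMonoidalCategory MonObj GrpObj AlgebraicGeometry Limits

namespace Groth.Agent.Lib.Helper43

section Pts

variable {S : Scheme.{u}} {X : Over S}

/-- the point of `𝔾_a` with a given coordinate -/
noncomputable def gaPt (a : Γ(X.left, ⊤)) : X ⟶ Red.Ga S := (gaFn_surjective a).choose

@[simp] lemma gaFn_gaPt (a : Γ(X.left, ⊤)) : Red.gaFn (gaPt (S := S) a) = a :=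
  (gaFn_surjective a).choose_spec

@[simp] lemma gaPt_gaFn (x : X ⟶ Red.Ga S) : gaPt (Red.gaFn x) = x :=
  gaFn_injective (gaFn_gaPt _)

lemma gaPt_add (a b : Γ(X.left, ⊤)) : gaPt (S := S) (a + b) = gaPt a * gaPt b :=
  gaFn_injective (by rw [gaFn_mul, gaFn_gaPt, gaFn_gaPt, gaFn_gaPt])

/-- the point of `𝔾_m` with a given (invertible) coordinate -/
noncomputable def gmPt (u : Γ(X.left, ⊤)ˣ) : X ⟶ Red.Gm S := (gmFn_surjective u).choose

@[simp] lemma gmFn_gmPt (u : Γ(X.left, ⊤)ˣ) : Red.gmFn (gmPt (S := S) u) = u :=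
  (gmFn_surjective u).choose_spec

@[simp] lemma gmHom_gmPt (u : Γ(X.left, ⊤)ˣ) : gmHom (gmPt (S := S) u) = u :=
  Units.ext (gmFn_gmPt u)

@[simp] lemma gmPt_gmHom (z : X ⟶ Red.Gm S) : gmPt (gmHom z) = z :=
  gmFn_injective (gmFn_gmPt _)

lemma gmPt_mul (u v : Γ(X.left, ⊤)ˣ) : gmPt (S := S) (u * v) = gmPt u * gmPt v :=
  gmFn_injective (by rw [gmFn_mul, gmFn_gmPt, gmFn_gmPt, gmFn_gmPt, Units.val_mul])

lemma gmPt_one : gmPt (S := S) (X := X) 1 = 1 :=
  gmFn_injective (by rw [gmFn_gmPt, gmFn_one, Units.val_one])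

end Pts

section Bridge

variable (S : Scheme.{u}) (G T : Over S) [GrpObj G] [GrpObj T] (i : T ⟶ G) [IsMonHom i]
    (α : T ⟶ Red.Gm S) [IsMonHom α]
    (pp pm : Red.Ga S ⟶ G) [IsMonHom pp] [IsMonHom pm]
    (hpp : ∀ (X : Over S) (t : X ⟶ T) (x : X ⟶ Red.Ga S), ∃ x' : X ⟶ Red.Ga S,
      x' ≫ pp = (t ≫ i) * (x ≫ pp) * (t ≫ i)⁻¹ ∧ Red.gaFn x' = Red.gmFn (t ≫ α) * Red.gaFn x)
    (hpm : ∀ (X : Over S) (t : X ⟶ T) (y : X ⟶ Red.Ga S), ∃ y' : X ⟶ Red.Ga S,
      y' ≫ pm = (t ≫ i) * (y ≫ pm) * (t ≫ i)⁻¹ ∧ Red.gaFn y' * Red.gmFn (t ≫ α) = Red.gaFn y)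
    (av : Red.Gm S ⟶ T) [IsMonHom av] (h2 : av ≫ α = (𝟙 (Red.Gm S)) ^ 2)
    (hF : ∀ (X : Over S) (x y : X ⟶ Red.Ga S), IsUnit (1 + Red.gaFn x * Red.gaFn y) →
      ∃ (x' y' : X ⟶ Red.Ga S) (z : X ⟶ Red.Gm S), Red.gmFn z = 1 + Red.gaFn x * Red.gaFn y ∧
        Red.gaFn x' * Red.gmFn z = Red.gaFn x ∧ Red.gaFn y' * Red.gmFn z = Red.gaFn y ∧
        (x ≫ pp) * (y ≫ pm) = (y' ≫ pm) * (z ≫ av ≫ i) * (x' ≫ pp))
    (X : Over S)

include hpp hpm h2 hF in
/-- The abstract rank-one relations on `X`-valued points. -/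
noncomputable def rankOneRel : RankOneRel Γ(X.left, ⊤) (X ⟶ G) (X ⟶ T) where
  P a := gaPt a ≫ pp
  M a := gaPt a ≫ pm
  j := { toFun := fun t => t ≫ i, map_one' := MonObj.one_comp i, map_mul' := fun s t => MonObj.mul_comp s t i }
  α := gmHom.comp { toFun := fun t => t ≫ α, map_one' := MonObj.one_comp α,
                    map_mul' := fun s t => MonObj.mul_comp s t α }
  av := { toFun := fun u => gmPt u ≫ av
          map_one' := by rw [gmPt_one, MonObj.one_comp]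
          map_mul' := fun u v => by rw [gmPt_mul, MonObj.mul_comp] }
  P_add a b := by rw [gaPt_add, MonObj.mul_comp]
  M_add a b := by rw [gaPt_add, MonObj.mul_comp]
  α_av u := by
    ext
    simp only [MonoidHom.coe_comp, MonoidHom.coe_mk, OneHom.coe_mk, Function.comp_apply, gmHom_val,
      Units.val_mul]
    rw [Category.assoc, h2, MonObj.comp_pow, Category.comp_id, gmFn_pow, gmFn_gmPt, pow_two]
  TP t a := by
    obtain ⟨x', h1, h2'⟩ := hpp X t (gaPt a)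
    simp only [MonoidHom.coe_mk, OneHom.coe_mk, MonoidHom.coe_comp, Function.comp_apply, gmHom_val]
    rw [← h1]
    congr 1
    apply gaFn_injective
    rw [gaFn_gaPt, h2', gaFn_gaPt]
  TM t a := by
    simp only [MonoidHom.coe_mk, OneHom.coe_mk, MonoidHom.coe_comp, Function.comp_apply, gmHom_val]
    obtain ⟨y', h1, h2'⟩ := hpm X t (gaPt (Red.gmFn (t ≫ α) * a))
    rw [← h1]
    congr 1
    apply gaFn_injective
    rw [gaFn_gaPt] at h2'
    rw [gaFn_gaPt]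
    apply (isUnit_gmFn (t ≫ α)).mul_left_injective
    simp only
    rw [h2', mul_comm]
  F a b a' b' u hu ha hb := by
    simp only [MonoidHom.coe_mk, OneHom.coe_mk]
    obtain ⟨x', y', z, hz, hx', hy', h⟩ := hF X (gaPt a) (gaPt b) (by
      rw [gaFn_gaPt, gaFn_gaPt, ← hu]; exact u.isUnit)
    simp only [gaFn_gaPt] at hz hx' hy'
    have ez : z = gmPt u := gmFn_injective (by rw [hz, gmFn_gmPt, hu])
    have ex : x' = gaPt a' := by
      apply gaFn_injective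
      apply (isUnit_gmFn z).mul_left_injective
      simp only
      rw [hx', gaFn_gaPt, ez, gmFn_gmPt, ha]
    have ey : y' = gaPt b' := by
      apply gaFn_injective
      apply (isUnit_gmFn z).mul_left_injective
      simp only
      rw [hy', gaFn_gaPt, ez, gmFn_gmPt, hb]
    rw [h, ex, ey, ez, Category.assoc]

lemma rankOneRel_P (x : X ⟶ Red.Ga S) :
    (rankOneRel S G T i α pp pm hpp hpm av h2 hF X).P (Red.gaFn x) = x ≫ pp := by
  simp [rankOneRel]

lemma rankOneRel_M (x : X ⟶ Red.Ga S) :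
    (rankOneRel S G T i α pp pm hpp hpm av h2 hF X).M (Red.gaFn x) = x ≫ pm := by
  simp [rankOneRel]

lemma rankOneRel_j (t : X ⟶ T) :
    (rankOneRel S G T i α pp pm hpp hpm av h2 hF X).j t = t ≫ i := rfl

lemma rankOneRel_α (t : X ⟶ T) :
    (rankOneRel S G T i α pp pm hpp hpm av h2 hF X).α t = gmHom (t ≫ α) := rfl

lemma rankOneRel_av (z : X ⟶ Red.Gm S) :
    (rankOneRel S G T i α pp pm hpp hpm av h2 hF X).av (gmHom z) = z ≫ av := by
  simp [rankOneRel]

lemma rankOneRel_A (z : X ⟶ Red.Gm S) :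
    (rankOneRel S G T i α pp pm hpp hpm av h2 hF X).A (gmHom z) = z ≫ av ≫ i := by
  rw [RankOneRel.A, rankOneRel_av, rankOneRel_j, Category.assoc]

end Bridge

end Groth.Agent.Lib.Helper43
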