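import Groth.Agent.Lib.Helper43.GaGm

/-!
# Points of the diagonalisable group `D_S(M)` as characters

For `c : X ⟶ Red.DS S M` and `m : Multiplicative M`, `chr c m ∈ Γ(X.left, ⊤)` is the value of the
character `m` at the point `c`.  It is multiplicative in `c` and in `m`, natural in `X`, determines `c`,
and every monoid hom `Multiplicative M →* Γ(X.left, ⊤)` arises.
-/

set_option autoImplicit false
universe u

open CategoryTheory MonoidalCategory CartesianMonoidalCategory MonObj Limits AlgebraicGeometry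
open scoped TensorProduct

namespace Groth.Agent.Lib.Helper43

section DSChar

variable {S : Scheme.{u}} {X : Over S} {M : Type} [AddCommGroup M]

/-- value of the character `m` at the point `c` of `D_S(M)` -/
noncomputable def chr (c : X ⟶ Red.DS S M) (m : Multiplicative M) : Γ(X.left, ⊤) :=
  ptFn (bcPt (toZ S) c).left
    (MonoidAlgebra.single m 1 : MonoidAlgebra (ULift.{u} ℤ) (Multiplicative M))

lemma chr_eq (c : X ⟶ Red.DS S M) (m : Multiplicative M) :
    chr c m = ptFnHom (bcPt (toZ S) c).left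
      (MonoidAlgebra.single m 1 : MonoidAlgebra (ULift.{u} ℤ) (Multiplicative M)) := rfl

omit [AddCommGroup M] in
lemma comul_single_one (m : Multiplicative M) :
    Coalgebra.comul (R := ULift.{u} ℤ)
      (MonoidAlgebra.single m 1 : MonoidAlgebra (ULift.{u} ℤ) (Multiplicative M)) =
      (MonoidAlgebra.single m 1) ⊗ₜ[ULift.{u} ℤ] (MonoidAlgebra.single m 1) := by
  simp

lemma chr_mul_pt (c d : X ⟶ Red.DS S M) (m : Multiplicative M) :
    chr (c * d) m = chr c m * chr d m := by
  unfold chr
  rw [bcPt_mul]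
  exact ptFn_mul_of_grouplike _ _ _ (comul_single_one m)

lemma chr_comp {Y : Over S} (g : Y ⟶ X) (c : X ⟶ Red.DS S M) (m : Multiplicative M) :
    chr (g ≫ c) m = g.left.appTop (chr c m) := by
  unfold chr
  rw [← ptFn_comp]
  rfl

lemma chr_one_arg (c : X ⟶ Red.DS S M) : chr c 1 = 1 := by
  rw [chr_eq]
  exact map_one _

lemma chr_mul_arg (c : X ⟶ Red.DS S M) (m n : Multiplicative M) :
    chr c (m * n) = chr c m * chr c n := by
  rw [chr_eq, chr_eq, chr_eq, ← map_mul, MonoidAlgebra.single_mul_single, _root_.mul_one]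

/-- `chr c` as a monoid hom -/
noncomputable def chrHom (c : X ⟶ Red.DS S M) : Multiplicative M →* Γ(X.left, ⊤) where
  toFun := chr c
  map_one' := chr_one_arg c
  map_mul' := chr_mul_arg c

@[simp] lemma chrHom_apply (c : X ⟶ Red.DS S M) (m : Multiplicative M) : chrHom c m = chr c m := rfl

lemma chr_injective {c d : X ⟶ Red.DS S M} (h : ∀ m, chr c m = chr d m) : c = d := by
  apply bcPt_injective (toZ S)
  ext
  apply ext_of_ptFnHom
  apply MonoidAlgebra.ringHom_ext'
  · exact ringHom_ulift_int_ext _ _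
  · ext m
    exact h m

lemma chr_surjective (χ : Multiplicative M →* Γ(X.left, ⊤)) :
    ∃ c : X ⟶ Red.DS S M, ∀ m, chr c m = χ m := by
  let _ : Algebra (ULift.{u} ℤ) Γ(X.left, ⊤) :=
    ((Int.castRingHom _).comp (ULift.ringEquiv : ULift.{u} ℤ ≃+* ℤ).toRingHom).toAlgebra
  let φ : MonoidAlgebra (ULift.{u} ℤ) (Multiplicative M) →ₐ[ULift.{u} ℤ] Γ(X.left, ⊤) :=
    MonoidAlgebra.lift _ _ _ χ
  have hφ : ∀ m, φ (MonoidAlgebra.single m 1) = χ m := by
    intro m
    simp only [φ, MonoidAlgebra.lift_single]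
    rw [Algebra.smul_def, map_one, _root_.one_mul]
  let y : (Over.map (toZ S)).obj X ⟶ Red.diag (ULift.{u} ℤ) M :=
    Over.homMk (ptOfHom φ.toRingHom) (specULiftZIsTerminal.hom_ext _ _)
  obtain ⟨x, hx⟩ := bcPt_surjective (toZ S) y
  refine ⟨x, fun m => ?_⟩
  unfold chr
  rw [hx]
  exact (ptFn_ptOfHom _ _).trans (hφ m)

end DSChar

end Groth.Agent.Lib.Helper43
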