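import Mathlib
import Groth.Prelude.Def_NonAbH2
import Groth.Agent.Lib.Helper43.DSChar

set_option autoImplicit false
universe u

open CategoryTheory MonoidalCategory CartesianMonoidalCategory MonObj Limits AlgebraicGeometry
open scoped TensorProduct

namespace Groth.Agent.Lib.Helper43

section BcNat

variable {C : Type*} [Category C] [HasPullbacks C] {S B : C} (f : S ⟶ B)

lemma bcPt_comp_map {G H : Over B} {X : Over S} (x : X ⟶ (Over.pullback f).obj G) (g : G ⟶ H) :
    bcPt f (x ≫ (Over.pullback f).map g) = bcPt f x ≫ g := by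
  ext
  simp only [bcPt_left, Over.comp_left, Category.assoc, Over.pullback_map_left]
  rw [pullback.lift_fst]

end BcNat

section DSMap

variable {S : Scheme.{u}} {X : Over S} {M N : Type} [AddCommGroup M] [AddCommGroup N]

lemma chr_DSmap (φ : M →+ N) (c : X ⟶ Red.DS S N) (m : Multiplicative M) :
    chr (c ≫ Red.DSmap S φ) m = chr c (AddMonoidHom.toMultiplicative φ m) := by
  unfold chr Red.DSmap
  rw [bcPt_comp_map]
  rw [Over.comp_left]
  unfold Red.diagMap
  erw [ptFn_specMap]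
  congr 1
  simp


lemma chr_one_pt (m : Multiplicative M) : chr (1 : X ⟶ Red.DS S M) m = 1 := by
  have h1 : chr (1 : X ⟶ Red.DS S M) m * chr (1 : X ⟶ Red.DS S M) m = chr (1 : X ⟶ Red.DS S M) m := by
    rw [← chr_mul_pt]; congr 1; exact _root_.mul_one (1 : X ⟶ Red.DS S M)
  have h2 : chr (1 : X ⟶ Red.DS S M) m * chr (1 : X ⟶ Red.DS S M) m⁻¹ = 1 := by
    rw [← chr_mul_arg, mul_inv_cancel, chr_one_arg]
  calc chr (1 : X ⟶ Red.DS S M) m
      = chr (1 : X ⟶ Red.DS S M) m * (chr (1 : X ⟶ Red.DS S M) m * chr (1 : X ⟶ Red.DS S M) m⁻¹) := by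
        rw [h2, _root_.mul_one]
    _ = 1 := by rw [← _root_.mul_assoc, h1, h2]

instance isMonHom_DSmap (φ : M →+ N) : IsMonHom (Red.DSmap S φ) where
  one_hom := by
    have h : (η : 𝟙_ (Over S) ⟶ Red.DS S N) = 1 := by
      rw [Hom.one_def]
      simp
    have h' : (η : 𝟙_ (Over S) ⟶ Red.DS S M) = 1 := by
      rw [Hom.one_def]
      simp
    rw [h, h']
    apply chr_injective
    intro m
    rw [chr_DSmap, chr_one_pt, chr_one_pt]
  mul_hom := by
    have h : (μ : Red.DS S N ⊗ Red.DS S N ⟶ Red.DS S N) = fst _ _ * snd _ _ := by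
      rw [Hom.mul_def]
      simp
    have h' : (μ : Red.DS S M ⊗ Red.DS S M ⟶ Red.DS S M) = fst _ _ * snd _ _ := by
      rw [Hom.mul_def]
      simp
    rw [h, h']
    apply chr_injective
    intro m
    rw [chr_DSmap, chr_mul_pt, MonObj.comp_mul, chr_mul_pt]
    simp only [tensorHom_fst, tensorHom_snd]
    rw [chr_DSmap, chr_DSmap]

lemma mono_DSmap_of_surjective (φ : M →+ N) (hφ : Function.Surjective φ) : Mono (Red.DSmap S φ) := by
  constructor
  intro Z a b h
  apply chr_injective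
  intro k
  obtain ⟨m, hm⟩ := hφ (Multiplicative.toAdd k)
  have hk : k = AddMonoidHom.toMultiplicative φ (Multiplicative.ofAdd m) := by
    simp [hm]
  rw [hk, ← chr_DSmap, ← chr_DSmap, h]

lemma gmFn_eq_chr (c : X ⟶ Red.Gm S) : Red.gmFn c = chr c (Multiplicative.ofAdd (1 : ℤ)) := rfl

lemma gmFn_chi (m : M) (c : X ⟶ Red.DS S M) :
    Red.gmFn (c ≫ Red.chi S m) = chr c (Multiplicative.ofAdd m) := by
  rw [gmFn_eq_chr]
  unfold Red.chi
  rw [chr_DSmap]
  congr 1
  simp

lemma gmFn_chi_natCast (n : ℕ) (c : X ⟶ Red.Gm S) :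
    Red.gmFn (c ≫ Red.chi S (n : ℤ)) = Red.gmFn c ^ n := by
  rw [gmFn_chi, gmFn_eq_chr, ← chrHom_apply, ← chrHom_apply, ← map_pow]
  congr 1
  rw [← ofAdd_nsmul]
  simp

end DSMap

end Groth.Agent.Lib.Helper43
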