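import Groth.Prelude.Def_PBC
import Mathlib
import Groth.Agent.Lib.Helper43.EtPullLC
import Groth.Agent.Lib.Helper43.StrataLib

set_option autoImplicit false
universe u
open CategoryTheory Limits Opposite AlgebraicGeometry TopologicalSpace Topology

namespace Groth.Agent.Lib.Helper43.EtConstr

open StrataLib

/-- inverse images compose. -/
noncomputable def pullComp {X Y Z : Scheme.{u}} (f : X ⟶ Y) (g : Z ⟶ X) :
    EtCoh.pull (g ≫ f) ≅ EtCoh.pull f ⋙ EtCoh.pull g :=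
  ((conjugateIsoEquiv ((EtCoh.pullPushAdj f).comp (EtCoh.pullPushAdj g))
    (EtCoh.pullPushAdj (g ≫ f))).symm (EtCoh.pushComp f g))

theorem isFLC_of_iso {X : Scheme.{u}} {F G : EtCoh.Ab X} (e : F ≅ G)
    (h : EtCoh.IsFiniteLocallyConstant F) : EtCoh.IsFiniteLocallyConstant G := by
  obtain ⟨ι, U, hU, h⟩ := h
  refine ⟨ι, U, hU, fun i => ?_⟩
  obtain ⟨M, i1, i2, ⟨a⟩⟩ := h i
  exact ⟨M, i1, i2, ⟨(X.smallEtaleTopology.overPullback AddCommGrpCat.{u + 1} (U i)).mapIso e.symm ≪≫ a⟩⟩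

theorem isFLC_pull {X Y : Scheme.{u}} (f : X ⟶ Y) (G : EtCoh.Ab Y)
    (h : EtCoh.IsFiniteLocallyConstant G) :
    EtCoh.IsFiniteLocallyConstant ((EtCoh.pull f).obj G) := by
  obtain ⟨ι, U, hU, h⟩ := h
  refine ⟨ι, fun i => (EtCoh.bc f).obj (U i), EtPullLC.covers_bc f hU, fun i => ?_⟩
  obtain ⟨M, inst, hfin, ⟨e⟩⟩ := h i
  exact ⟨M, inst, hfin, EtPullLC.nonempty_pull_over_iso_const f AddCommGrpCat.{u + 1} (U i) G _ e⟩

/-- the predicate "F restricted along g is finite locally constant". -/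
def P {X : Scheme.{u}} (F : EtCoh.Ab X) : ∀ (T : Scheme.{u}), (T ⟶ X) → Prop :=
  fun _ g => ∀ [EtCoh.BCCont g], EtCoh.IsFiniteLocallyConstant ((EtCoh.pull g).obj F)

theorem adaptedStrata_iff {X : Scheme.{u}} (F : EtCoh.Ab X) (S : Set X) :
    EtPBC.AdaptedStrata F S ↔ Strata (P F) S := Iff.rfl

theorem P_comp {X : Scheme.{u}} (F : EtCoh.Ab X) {T T' : Scheme.{u}} (h : T' ⟶ T) (g : T ⟶ X)
    (hg : P F T g) : P F T' (h ≫ g) := by
  intro _
  exact isFLC_of_iso ((pullComp g h).app F).symm (isFLC_pull h _ hg)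

theorem P_comp' {X X' : Scheme.{u}} (j : X' ⟶ X) (F : EtCoh.Ab X) (T : Scheme.{u}) (g : T ⟶ X')
    (hg : P ((EtCoh.pull j).obj F) T g) : P F T (g ≫ j) := by
  intro _
  exact isFLC_of_iso ((pullComp j g).app F).symm hg

theorem P_congr {X : Scheme.{u}} (F : EtCoh.Ab X) {T : Scheme.{u}} {g g' : T ⟶ X} (h : g = g')
    (hg : P F T g) : P F T g' := by
  subst h
  exact hg

theorem P_pullback {X X' : Scheme.{u}} (f : X' ⟶ X) (F : EtCoh.Ab X) (T : Scheme.{u}) (g : T ⟶ X)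
    (hg : P F T g) : P ((EtCoh.pull f).obj F) _ (pullback.snd g f) := by
  intro _
  have h1 : P F _ (pullback.fst g f ≫ g) := P_comp F _ g hg
  have h2 : P F _ (pullback.snd g f ≫ f) := P_congr F pullback.condition h1
  exact isFLC_of_iso ((pullComp f (pullback.snd g f)).app F) h2


theorem exists_affine_nhd_le {X : Scheme.{u}} (U : X.Opens) (x : X) (hx : x ∈ U) :
    ∃ O : X.Opens, IsAffineOpen O ∧ x ∈ O ∧ O ≤ U := by
  obtain ⟨O, hO, hxO, hle⟩ := Opens.isBasis_iff_nbhd.1 X.isBasis_affineOpens hx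
  exact ⟨O, hO, hxO, hle⟩

theorem constructible_iff_strata_univ (X : Scheme.{u}) [CompactSpace X] [QuasiSeparatedSpace X]
    (F : EtCoh.Ab X) :
    EtPBC.IsConstructible F ↔ EtPBC.AdaptedStrata F (Set.univ : Set X) := by
  constructor
  · intro hF
    obtain ⟨m, O, hO, hcov⟩ := exists_finite_affine_cover (X := X) (W := Set.univ) isCompact_univ
      (fun O => IsAffineOpen O) (fun x _ => by
        obtain ⟨O, hO, hxO, -⟩ := exists_affine_nhd_le (⊤ : X.Opens) x trivial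
        exact ⟨O, hxO, hO⟩)
    refine Strata.glue (P_comp F) m O hcov (fun k => ?_) (fun k => ?_)
    · exact (IsCompact.isRetrocompact (hO k).isCompact (O k).isOpen).preimage_of_isOpenEmbedding
        isOpen_univ.isOpenEmbedding_subtypeVal
    · rw [Set.univ_inter]
      exact hF (O k) (hO k)
  · intro h W hW
    have := Strata.inter_opens (P_comp F) h W
    rwa [Set.univ_inter] at this

theorem constructible_of_open_cover {X : Scheme.{u}} (F : EtCoh.Ab X) {ι : Type u}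
    (U : ι → X.Opens) (hU : ⨆ i, U i = ⊤)
    (h : ∀ i, EtPBC.IsConstructible ((EtCoh.pull (U i).ι).obj F)) :
    EtPBC.IsConstructible F := by
  intro W hW
  obtain ⟨m, O, hO, hcov⟩ := exists_finite_affine_cover (X := X) (W := (W : Set X)) hW.isCompact
    (fun O => IsAffineOpen O ∧ O ≤ W ∧ ∃ i, O ≤ U i) (fun x hx => by
      have hx' : x ∈ ⨆ i, U i := by rw [hU]; trivial
      obtain ⟨i, hi⟩ := Opens.mem_iSup.1 hx'
      obtain ⟨O, hO, hxO, hle⟩ := exists_affine_nhd_le (W ⊓ U i) x ⟨hx, hi⟩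
      exact ⟨O, hxO, hO, hle.trans inf_le_left, i, hle.trans inf_le_right⟩)
  refine Strata.glue (P_comp F) m O hcov
    (fun k => isRetrocompact_preimage_of_le hW (hO k).1.isCompact (hO k).2.1) (fun k => ?_)
  obtain ⟨hOk, hOW, i, hOi⟩ := hO k
  have hpre : IsAffineOpen ((U i).ι ⁻¹ᵁ O k) :=
    hOk.preimage_of_isOpenImmersion (U i).ι (by rwa [Scheme.Opens.opensRange_ι])
  have e : (W : Set X) ∩ (O k : Set X) = (U i).ι '' (((U i).ι ⁻¹ᵁ O k : (U i).toScheme.Opens) :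
      Set (U i).toScheme) := by
    rw [Set.inter_eq_right.2 hOW]
    change _ = (U i).ι '' ((U i).ι ⁻¹' (O k : Set X))
    rw [Set.image_preimage_eq_inter_range, Scheme.Opens.range_ι]
    exact (Set.inter_eq_left.2 hOi).symm
  rw [e]
  exact Strata.map_openImmersion (U i).ι (P_comp' (U i).ι F) (h i _ hpre)

theorem pullback_constructible {X Y : Scheme.{u}} (f : X ⟶ Y) (F : EtCoh.Ab Y)
    (hF : EtPBC.IsConstructible F) : EtPBC.IsConstructible ((EtCoh.pull f).obj F) := by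
  intro W hW
  obtain ⟨m, O, hO, hcov⟩ := exists_finite_affine_cover (X := X) (W := (W : Set X)) hW.isCompact
    (fun O => IsAffineOpen O ∧ O ≤ W ∧ ∃ V : Y.Opens, IsAffineOpen V ∧ O ≤ f ⁻¹ᵁ V)
    (fun x hx => by
      obtain ⟨V, hV, hxV, -⟩ := exists_affine_nhd_le (⊤ : Y.Opens) (f x) trivial
      obtain ⟨O, hO, hxO, hle⟩ := exists_affine_nhd_le (W ⊓ f ⁻¹ᵁ V) x ⟨hx, hxV⟩
      exact ⟨O, hxO, hO, hle.trans inf_le_left, V, hV, hle.trans inf_le_right⟩)
  refine Strata.glue (P_comp _) m O hcov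
    (fun k => isRetrocompact_preimage_of_le hW (hO k).1.isCompact (hO k).2.1) (fun k => ?_)
  obtain ⟨hOk, hOW, V, hV, hOV⟩ := hO k
  rw [Set.inter_eq_right.2 hOW]
  exact Strata.pullback f (P_comp _) (P_pullback f F) V (O k) hV hOk hOV (hF V hV)

end Groth.Agent.Lib.Helper43.EtConstr
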