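import Mathlib
import Groth.Agent.Lib.Helper43.ConstSheaf
import Groth.Agent.Lib.Helper43.LCHom

/-!
# Extensions of constant sheaves of abelian groups split off a constant sheaf, given constant cocycle data
-/

set_option autoImplicit false
universe v v₁ u₁
open CategoryTheory CategoryTheory.Limits Opposite

namespace Groth.Agent.Lib.Helper43.ExtConst

open Groth.Agent.Lib.Helper43.ConstSheaf Groth.Agent.Lib.Helper43.LCHom

variable {C : Type u₁} [Category.{v₁} C] (J : GrothendieckTopology C)
  [HasSheafify J AddCommGrpCat.{v}]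

/-- sections over `T` -/
noncomputable abbrev Γ (T : C) : Sheaf J AddCommGrpCat.{v} ⥤ AddCommGrpCat.{v} :=
  sheafToPresheaf J AddCommGrpCat.{v} ⋙ (evaluation Cᵒᵖ AddCommGrpCat.{v}).obj (op T)

lemma sections_exact (S : ShortComplex (Sheaf J AddCommGrpCat.{v})) (hS : S.ShortExact) (T : C)
    (x : S.X₂.obj.obj (op T)) (hx : S.g.hom.app (op T) x = 0) :
    ∃ y : S.X₁.obj.obj (op T), S.f.hom.app (op T) y = x := by
  have := hS.mono_f
  have hex : (S.map (Γ J T)).Exact :=
    hS.exact.map_of_mono_of_preservesKernel (Γ J T) hS.mono_f inferInstance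
  exact (ShortComplex.ab_exact_iff _).1 hex x hx

lemma sections_injective (S : ShortComplex (Sheaf J AddCommGrpCat.{v})) (hS : S.ShortExact) (T : C) :
    Function.Injective (S.f.hom.app (op T)) := by
  have := hS.mono_f
  have : Mono ((Γ J T).map S.f) := inferInstance
  exact (AddCommGrpCat.mono_iff_injective _).1 this

theorem ext_const {T : C} (hT : IsTerminal T) (S : ShortComplex (Sheaf J AddCommGrpCat.{v}))
    (hS : S.ShortExact) {M' M'' : AddCommGrpCat.{v}} (α' : S.X₁ ≅ K J M') (α'' : S.X₃ ≅ K J M'')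
    (hinj' : Function.Injective (cst J M' T)) (hinj'' : Function.Injective (cst J M'' T))
    (s : M'' → S.X₂.obj.obj (op T))
    (hs : ∀ m, S.g.hom.app (op T) (s m) = α''.inv.hom.app (op T) (cst J M'' T m))
    (c : M'' → M'' → M')
    (hc : ∀ m n, s m + s n =
      S.f.hom.app (op T) (α'.inv.hom.app (op T) (cst J M' T (c m n))) + s (m + n)) :
    ∃ E : AddCommGrpCat.{v}, (Finite M' → Finite M'' → Finite E) ∧ Nonempty (S.X₂ ≅ K J E) := by
  let ι : M' →+ S.X₂.obj.obj (op T) :=
    ((S.f.hom.app (op T)).hom.comp (α'.inv.hom.app (op T)).hom).comp (cst J M' T).hom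
  let q : S.X₂.obj.obj (op T) →+ (K J M'').obj.obj (op T) :=
    (α''.hom.hom.app (op T)).hom.comp (S.g.hom.app (op T)).hom
  have hι : ∀ a, ι a = S.f.hom.app (op T) (α'.inv.hom.app (op T) (cst J M' T a)) := fun _ => rfl
  have hq : ∀ x, q x = α''.hom.hom.app (op T) (S.g.hom.app (op T) x) := fun _ => rfl
  have hqι : ∀ a, q (ι a) = 0 := by
    intro a
    rw [hι, hq]
    have h0 : S.g.hom.app (op T) (S.f.hom.app (op T) (α'.inv.hom.app (op T) (cst J M' T a))) = 0 := by
      have := congrArg (fun t => t.hom.app (op T) (α'.inv.hom.app (op T) (cst J M' T a))) S.zero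
      exact this
    rw [h0, map_zero]
  have hqs : ∀ m, q (s m) = cst J M'' T m := by
    intro m
    rw [hq, hs]
    exact congrArg (fun t => t.hom.app (op T) (cst J M'' T m)) α''.inv_hom_id
  have hc' : ∀ m n, s m + s n = ι (c m n) + s (m + n) := hc
  have hs0 : s 0 = ι (c 0 0) := by
    have := hc' 0 0
    rw [add_zero] at this
    exact add_right_cancel this
  let E : AddSubgroup (S.X₂.obj.obj (op T)) :=
    { carrier := {e | ∃ a m, e = ι a + s m}
      zero_mem' := ⟨-(c 0 0), 0, by rw [hs0, map_neg, neg_add_cancel]⟩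
      add_mem' := by
        rintro _ _ ⟨a, m, rfl⟩ ⟨b, n, rfl⟩
        refine ⟨a + b + c m n, m + n, ?_⟩
        rw [map_add, map_add, add_add_add_comm, hc' m n]
        abel
      neg_mem' := by
        rintro _ ⟨a, m, rfl⟩
        refine ⟨-a - c m (-m) - c 0 0, -m, ?_⟩
        have h1 := hc' m (-m)
        rw [add_neg_cancel, hs0] at h1
        have h2 : s (-m) = ι (c m (-m)) + ι (c 0 0) - s m := by
          rw [← h1]; abel
        rw [h2, map_sub, map_sub, map_neg]
        abel }
  have hEmem : ∀ e : E, ∃ a m, (e : S.X₂.obj.obj (op T)) = ι a + s m := fun e => e.2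
  have hπex : ∀ e : E, ∃ m, q e.1 = cst J M'' T m := by
    intro e
    obtain ⟨a, m, h⟩ := hEmem e
    exact ⟨m, by rw [h, map_add, hqι, zero_add, hqs]⟩
  choose π₀ hπ₀ using hπex
  let π : E →+ M'' := AddMonoidHom.mk' π₀ (by
    intro e e'
    apply hinj''
    rw [map_add, ← hπ₀, ← hπ₀, ← hπ₀]
    exact map_add q e.1 e'.1)
  have hπ : ∀ e : E, q e.1 = cst J M'' T (π e) := hπ₀
  have hιmem : ∀ a, ι a ∈ E := fun a => ⟨a - c 0 0, 0, by rw [hs0, map_sub]; abel⟩
  let ι' : M' →+ E := ι.codRestrict E hιmem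
  have hsmem : ∀ m, s m ∈ E := fun m => ⟨0, m, by rw [map_zero, zero_add]⟩
  have hπs : ∀ m, π ⟨s m, hsmem m⟩ = m := by
    intro m
    apply hinj''
    rw [← hπ, hqs]
  have hπι : ∀ a, π (ι' a) = 0 := by
    intro a
    apply hinj''
    rw [← hπ, map_zero]
    exact hqι a
  let SE : ShortComplex AddCommGrpCat.{v} :=
    ShortComplex.mk (AddCommGrpCat.ofHom ι') (AddCommGrpCat.ofHom π) (by
      ext a
      exact hπι a)
  have hSE : SE.ShortExact := by
    refine ShortComplex.ShortExact.mk' ?_ ?_ ?_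
    · rw [ShortComplex.ab_exact_iff]
      intro e he
      have he' : π e = 0 := he
      obtain ⟨a, m, h⟩ := hEmem e
      have hm : m = 0 := by
        apply hinj''
        have h1 := hπ e
        rw [he', h, map_add, hqι, zero_add, hqs] at h1
        rw [h1]
      refine ⟨a + c 0 0, ?_⟩
      apply Subtype.ext
      change ι (a + c 0 0) = e.1
      rw [h, hm, hs0, map_add]
    · rw [AddCommGrpCat.mono_iff_injective]
      intro a b hab
      have h1 : ι a = ι b := congrArg Subtype.val hab
      rw [hι, hι] at h1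
      have h2 := sections_injective J S hS T h1
      have hinv : Function.Injective (α'.inv.hom.app (op T)) := by
        intro x y hxy
        have := congrArg (α'.hom.hom.app (op T)) hxy
        have e1 : ∀ z, α'.hom.hom.app (op T) (α'.inv.hom.app (op T) z) = z := fun z =>
          congrArg (fun t => t.hom.app (op T) z) α'.inv_hom_id
        rwa [e1, e1] at this
      exact hinj' (hinv h2)
    · rw [AddCommGrpCat.epi_iff_surjective]
      intro m
      exact ⟨⟨s m, hsmem m⟩, hπs m⟩
  refine ⟨AddCommGrpCat.of E, ?_, ?_⟩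
  · intro _ _
    have hsurj : Function.Surjective (fun p : M' × M'' => (⟨ι p.1 + s p.2, p.1, p.2, rfl⟩ : E)) := by
      intro e
      obtain ⟨a, m, h⟩ := hEmem e
      exact ⟨(a, m), Subtype.ext h.symm⟩
    exact Finite.of_surjective _ hsurj
  · let ρ : K J (AddCommGrpCat.of E) ⟶ S.X₂ := K_desc J hT (AddCommGrpCat.ofHom E.subtype)
    have hρ : ∀ e : E, ρ.hom.app (op T) (cst J (AddCommGrpCat.of E) T e) = e.1 := fun e =>
      K_desc_cst J hT (AddCommGrpCat.ofHom E.subtype) e
    have : PreservesFiniteLimits (constantSheaf J AddCommGrpCat.{v}) :=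
      preservesFiniteLimits_constantSheaf J
    have : PreservesFiniteColimits (constantSheaf J AddCommGrpCat.{v}) :=
      preservesFiniteColimits_constantSheaf J
    have h₁ : (SE.map (constantSheaf J AddCommGrpCat.{v})).ShortExact :=
      hSE.map_of_exact (constantSheaf J AddCommGrpCat.{v})
    have comm₁₂ : α'.inv ≫ S.f = (constantSheaf J AddCommGrpCat.{v}).map (AddCommGrpCat.ofHom ι') ≫ ρ := by
      apply K_hom_ext J hT
      intro a
      have e3 := constantSheaf_map_cst J (AddCommGrpCat.ofHom ι') T a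
      change S.f.hom.app (op T) (α'.inv.hom.app (op T) (cst J M' T a)) =
        ρ.hom.app (op T) (((constantSheaf J AddCommGrpCat.{v}).map (AddCommGrpCat.ofHom ι')).hom.app
          (op T) (cst J M' T a))
      rw [e3]
      exact (hρ (ι' a)).symm
    have comm₂₃ : ρ ≫ S.g = (constantSheaf J AddCommGrpCat.{v}).map (AddCommGrpCat.ofHom π) ≫ α''.inv := by
      apply K_hom_ext J hT
      intro e
      have e3 := constantSheaf_map_cst J (AddCommGrpCat.ofHom π) T e
      change S.g.hom.app (op T) (ρ.hom.app (op T) (cst J (AddCommGrpCat.of E) T e)) =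
        α''.inv.hom.app (op T) (((constantSheaf J AddCommGrpCat.{v}).map (AddCommGrpCat.ofHom π)).hom.app
          (op T) (cst J (AddCommGrpCat.of E) T e))
      rw [e3, hρ]
      have h1 := hπ e
      rw [hq] at h1
      have h2 := congrArg (α''.inv.hom.app (op T)) h1
      have e1 : ∀ z, α''.inv.hom.app (op T) (α''.hom.hom.app (op T) z) = z := fun z =>
        congrArg (fun t => t.hom.app (op T) z) α''.hom_inv_id
      rw [e1] at h2
      exact h2
    let φ : SE.map (constantSheaf J AddCommGrpCat.{v}) ⟶ S :=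
      { τ₁ := α'.inv, τ₂ := ρ, τ₃ := α''.inv, comm₁₂ := comm₁₂, comm₂₃ := comm₂₃ }
    have : IsIso φ.τ₁ := inferInstanceAs (IsIso α'.inv)
    have : IsIso φ.τ₃ := inferInstanceAs (IsIso α''.inv)
    have hiso : IsIso ρ := ShortComplex.isIso₂_of_shortExact_of_isIso₁₃ φ h₁ hS
    exact ⟨(asIso ρ).symm⟩

end Groth.Agent.Lib.Helper43.ExtConst
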