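import Mathlib
import Groth.Prelude
import Groth.Agent.Lib.Helper43.EtLCHom
import Groth.Agent.Lib.Helper43.ExtConst

set_option autoImplicit false
universe u
open CategoryTheory CategoryTheory.Limits AlgebraicGeometry Opposite

namespace Groth.Agent.Lib.Helper43.EtFLCSerre

open Groth.Agent.Lib.Helper43 Groth.Agent.Lib.Helper43.ConstSheaf Groth.Agent.Lib.Helper43.LCHom
  Groth.Agent.Lib.Helper43.EtLCHom Groth.Agent.Lib.Helper43.ExtConst

/-- a finite abelian group in a higher universe has a model in `Type` -/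
lemma exists_small_model (E : AddCommGrpCat.{u + 1}) [Finite E] :
    ∃ (M₀ : Type) (_ : AddCommGroup M₀) (_ : Finite M₀),
      Nonempty (E ≅ AddCommGrpCat.of (ULift.{u + 1} M₀)) := by
  have : Small.{0} E := inferInstance
  refine ⟨Shrink.{0} E, inferInstance, Finite.of_equiv _ (equivShrink.{0} E), ⟨?_⟩⟩
  exact (AddEquiv.toAddCommGrpIso
    ((AddEquiv.ulift.{0, u + 1} (α := Shrink.{0} E)).trans (Shrink.addEquiv (α := E)))).symm

variable {X : Scheme.{u}}

instance (W : X.Etale) :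
    PreservesFiniteLimits (X.smallEtaleTopology.overPullback AddCommGrpCat.{u + 1} W) :=
  preservesFiniteLimits_sheafPushforwardContinuous _ _ _ _

instance (W : X.Etale) :
    (X.smallEtaleTopology.overPullback AddCommGrpCat.{u + 1} W).IsLeftAdjoint :=
  isLeftAdjoint_sheafPushforwardContinuous _ _ _ _

instance (W : X.Etale) : PreservesFiniteLimits
    (constantSheaf (X.smallEtaleTopology.over W) AddCommGrpCat.{u + 1}) :=
  preservesFiniteLimits_constantSheaf _

instance (W : X.Etale) : PreservesFiniteColimits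
    (constantSheaf (X.smallEtaleTopology.over W) AddCommGrpCat.{u + 1}) :=
  preservesFiniteColimits_constantSheaf _

/-- kernels and cokernels of maps of finite locally constant sheaves -/
theorem isFLC_kernel_cokernel (F G : EtCoh.Ab X) (φ : F ⟶ G)
    (hF : EtCoh.IsFiniteLocallyConstant F) (hG : EtCoh.IsFiniteLocallyConstant G) :
    EtCoh.IsFiniteLocallyConstant (kernel φ) ∧ EtCoh.IsFiniteLocallyConstant (cokernel φ) := by
  obtain ⟨ι₁, U₁, hcov₁, hU₁⟩ := hF
  obtain ⟨ι₂, U₂, hcov₂, hU₂⟩ := hG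
  have key : ∀ x : X, ∃ (W : X.Etale) (z : W.left), W.hom z = x ∧
      (∃ (M : Type) (_ : AddCommGroup M) (_ : Finite M),
        Nonempty (EtCoh.restr (kernel φ) W ≅
          (constantSheaf (X.smallEtaleTopology.over W) AddCommGrpCat.{u + 1}).obj
            (AddCommGrpCat.of (ULift.{u + 1} M)))) ∧
      (∃ (M : Type) (_ : AddCommGroup M) (_ : Finite M),
        Nonempty (EtCoh.restr (cokernel φ) W ≅
          (constantSheaf (X.smallEtaleTopology.over W) AddCommGrpCat.{u + 1}).obj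
            (AddCommGrpCat.of (ULift.{u + 1} M)))) := by
    intro x
    obtain ⟨i₁, y₁, hy₁⟩ := hcov₁ x
    obtain ⟨i₂, y₂, hy₂⟩ := hcov₂ x
    obtain ⟨M₀, iM, fM, ⟨α₁⟩⟩ := hU₁ i₁
    obtain ⟨N₀, iN, fN, ⟨β₂⟩⟩ := hU₂ i₂
    have : Finite (AddCommGrpCat.of (ULift.{u + 1} M₀)) :=
      inferInstanceAs (Finite (ULift.{u + 1} M₀))
    have : Finite (AddCommGrpCat.of (ULift.{u + 1} N₀)) :=
      inferInstanceAs (Finite (ULift.{u + 1} N₀))
    obtain ⟨W, z, hz, h, α, β, hc⟩ := local_form φ α₁ β₂ y₁ y₂ (hy₂.trans hy₁.symm)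
    let R := X.smallEtaleTopology.overPullback AddCommGrpCat.{u + 1} W
    let KW := constantSheaf (X.smallEtaleTopology.over W) AddCommGrpCat.{u + 1}
    refine ⟨W, z, hz.trans hy₁, ?_, ?_⟩
    · have hfin : Finite (kernel h : AddCommGrpCat.{u + 1}) := by
        have e := AddCommGrpCat.kernelIsoKer h
        have : Finite (AddCommGrpCat.of h.hom.ker) :=
          inferInstanceAs (Finite h.hom.ker)
        exact Finite.of_equiv _ (e.symm.addCommGroupIsoToAddEquiv.toEquiv)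
      obtain ⟨E₀, iE, fE, ⟨eE⟩⟩ := exists_small_model (kernel h)
      refine ⟨E₀, iE, fE, ⟨?_⟩⟩
      exact PreservesKernel.iso R φ ≪≫ kernel.mapIso (R.map φ) (KW.map h) α β hc ≪≫
        (PreservesKernel.iso KW h).symm ≪≫ KW.mapIso eE
    · have hfin : Finite (cokernel h : AddCommGrpCat.{u + 1}) := by
        have e := AddCommGrpCat.cokernelIsoQuotient h
        have : Finite (AddCommGrpCat.of (_ ⧸ h.hom.range)) :=
          inferInstanceAs (Finite (_ ⧸ h.hom.range))
        exact Finite.of_equiv _ (e.symm.addCommGroupIsoToAddEquiv.toEquiv)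
      obtain ⟨E₀, iE, fE, ⟨eE⟩⟩ := exists_small_model (cokernel h)
      refine ⟨E₀, iE, fE, ⟨?_⟩⟩
      exact PreservesCokernel.iso R φ ≪≫ cokernel.mapIso (R.map φ) (KW.map h) α β hc ≪≫
        (PreservesCokernel.iso KW h).symm ≪≫ KW.mapIso eE
  choose W z hz hker hcoker using key
  exact ⟨⟨X, W, fun x => ⟨x, z x, hz x⟩, hker⟩, ⟨X, W, fun x => ⟨x, z x, hz x⟩, hcoker⟩⟩

/-- Stage 1: lifting the constant sections of the quotient. -/
theorem exists_lifts (S : ShortComplex (EtCoh.Ab X)) (hS : S.ShortExact) (W : X.Etale) (z : W.left)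
    {M'' : AddCommGrpCat.{u + 1}} [Finite M'']
    (α'' : S.X₃.over W ≅ K.{u + 1} (X.smallEtaleTopology.over W) M'') :
    ∃ (V : X.Etale) (f : V ⟶ W) (v : V.left), f.left v = z ∧
      ∃ s : M'' → S.X₂.obj.obj (op V), ∀ m,
        S.g.hom.app (op V) (s m) =
          (transport X.smallEtaleTopology AddCommGrpCat.{u + 1} S.X₃ f M'' α'').inv.hom.app
            (op (Over.mk (𝟙 V))) (cst.{u + 1} (X.smallEtaleTopology.over V) M'' (Over.mk (𝟙 V)) m) := by
  have := hS.epi_g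
  have hsurj : Sheaf.IsLocallySurjective S.g := (Sheaf.isLocallySurjective_iff_epi' (φ := S.g)).2 hS.epi_g
  let t : M'' → S.X₃.obj.obj (op W) := fun m =>
    α''.inv.hom.app (op (Over.mk (𝟙 W))) (cst.{u + 1} (X.smallEtaleTopology.over W) M'' (Over.mk (𝟙 W)) m)
  have hmem : (⨅ m, Presheaf.imageSieve S.g.hom (t m)) ∈ X.smallEtaleTopology W :=
    iInf_mem _ _ (fun m => Presheaf.imageSieve_mem X.smallEtaleTopology S.g.hom (t m))
  obtain ⟨V, f, v, hf, hv⟩ := (EtOpenSub.mem_smallEtaleTopology_iff' W _).1 hmem z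
  refine ⟨V, f, v, hv, ?_⟩
  have hf' : ∀ m, Presheaf.imageSieve S.g.hom (t m) f := fun m =>
    (Sieve.sInf_apply _).1 hf _ ⟨m, rfl⟩
  choose s hs using hf'
  refine ⟨s, fun m => ?_⟩
  rw [← restrict_inv_cst X.smallEtaleTopology f α'' m]
  exact hs m

/-- An extension of sheaves trivialized over `W` with finite fibres is constant near any point. -/
theorem extension_local (S : ShortComplex (EtCoh.Ab X)) (hS : S.ShortExact) (W : X.Etale) (z : W.left)
    {M' M'' : AddCommGrpCat.{u + 1}} [Finite M'] [Finite M'']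
    (α' : S.X₁.over W ≅ K.{u + 1} (X.smallEtaleTopology.over W) M')
    (α'' : S.X₃.over W ≅ K.{u + 1} (X.smallEtaleTopology.over W) M'') :
    ∃ (W₂ : X.Etale) (z₂ : W₂.left), W₂.hom z₂ = W.hom z ∧
      ∃ (E : AddCommGrpCat.{u + 1}), Finite E ∧
        Nonempty (S.X₂.over W₂ ≅ K.{u + 1} (X.smallEtaleTopology.over W₂) E) := by
  obtain ⟨V, f, v, hv, s, hs⟩ := exists_lifts S hS W z α''
  let α'V := transport X.smallEtaleTopology AddCommGrpCat.{u + 1} S.X₁ f M' α'
  let α''V := transport X.smallEtaleTopology AddCommGrpCat.{u + 1} S.X₃ f M'' α''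
  let TV : Over V := Over.mk (𝟙 V)
  have hd : ∀ p : M'' × M'', ∃ y : S.X₁.obj.obj (op V),
      S.f.hom.app (op V) y = s p.1 + s p.2 - s (p.1 + p.2) := by
    intro p
    apply sections_exact X.smallEtaleTopology S hS V
    let A : M'' →+ S.X₃.obj.obj (op V) :=
      ((α''V.inv.hom.app (op TV)).hom).comp (cst.{u + 1} (X.smallEtaleTopology.over V) M'' TV).hom
    have hsA : ∀ m, S.g.hom.app (op V) (s m) = A m := hs
    rw [map_sub, map_add, hsA, hsA, hsA, map_add A, sub_self]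
  choose d' hd' using hd
  obtain ⟨W₂, g, z₂, hz₂, c, hc⟩ := exists_const V v M'
    (fun p : M'' × M'' => α'V.hom.hom.app (op TV) (d' p))
  let α'₂ := transport X.smallEtaleTopology AddCommGrpCat.{u + 1} S.X₁ g M' α'V
  let α''₂ := transport X.smallEtaleTopology AddCommGrpCat.{u + 1} S.X₃ g M'' α''V
  let T₂ : Over W₂ := Over.mk (𝟙 W₂)
  have hd₂ : ∀ p : M'' × M'', S.X₁.obj.map g.op (d' p) =
      α'₂.inv.hom.app (op T₂) (cst.{u + 1} (X.smallEtaleTopology.over W₂) M' T₂ (c p)) :=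
    fun p => restrict_eq_of_const X.smallEtaleTopology g α'V (d' p) (c p) (hc p)
  let s₂ : M'' → S.X₂.obj.obj (op W₂) := fun m => S.X₂.obj.map g.op (s m)
  have hs₂ : ∀ m, S.g.hom.app (op W₂) (s₂ m) =
      α''₂.inv.hom.app (op T₂) (cst.{u + 1} (X.smallEtaleTopology.over W₂) M'' T₂ m) := by
    intro m
    have nat := congrArg (fun t => t.hom (s m)) (S.g.hom.naturality g.op)
    have h1 : S.g.hom.app (op W₂) (S.X₂.obj.map g.op (s m)) =
        S.X₃.obj.map g.op (S.g.hom.app (op V) (s m)) := nat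
    change S.g.hom.app (op W₂) (S.X₂.obj.map g.op (s m)) = _
    rw [h1, hs m]
    exact restrict_inv_cst X.smallEtaleTopology g α''V m
  have hc₂ : ∀ m n, s₂ m + s₂ n =
      S.f.hom.app (op W₂) (α'₂.inv.hom.app (op T₂)
        (cst.{u + 1} (X.smallEtaleTopology.over W₂) M' T₂ (c (m, n)))) + s₂ (m + n) := by
    intro m n
    rw [← hd₂ (m, n)]
    have nat := congrArg (fun t => t.hom (d' (m, n))) (S.f.hom.naturality g.op)
    have h1 : S.f.hom.app (op W₂) (S.X₁.obj.map g.op (d' (m, n))) =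
        S.X₂.obj.map g.op (S.f.hom.app (op V) (d' (m, n))) := nat
    rw [h1, hd' (m, n)]
    change S.X₂.obj.map g.op (s m) + S.X₂.obj.map g.op (s n) =
      S.X₂.obj.map g.op (s m + s n - s (m + n)) + S.X₂.obj.map g.op (s (m + n))
    have h2 : s m + s n = (s m + s n - s (m + n)) + s (m + n) := (sub_add_cancel _ _).symm
    have h3 := congrArg (S.X₂.obj.map g.op) h2
    rw [map_add, map_add] at h3
    exact h3
  have hS₂ : (S.map (X.smallEtaleTopology.overPullback AddCommGrpCat.{u + 1} W₂)).ShortExact :=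
    hS.map_of_exact _
  have hne : Nonempty T₂.left.left := ⟨z₂⟩
  obtain ⟨E, hEfin, ⟨e⟩⟩ := ext_const (X.smallEtaleTopology.over W₂) Over.mkIdTerminal
    (S.map (X.smallEtaleTopology.overPullback AddCommGrpCat.{u + 1} W₂)) hS₂ α'₂ α''₂
    (cst_injective_over W₂ M' T₂ hne) (cst_injective_over W₂ M'' T₂ hne) s₂ hs₂
    (fun m n => c (m, n)) hc₂
  refine ⟨W₂, z₂, ?_, E, hEfin inferInstance inferInstance, ⟨e⟩⟩
  rw [← hom_comp_apply g z₂, hz₂, ← hom_comp_apply f v, hv]

/-- extensions of finite locally constant sheaves are finite locally constant -/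
theorem isFLC_extension (S : ShortComplex (EtCoh.Ab X)) (hS : S.ShortExact)
    (h₁ : EtCoh.IsFiniteLocallyConstant S.X₁) (h₃ : EtCoh.IsFiniteLocallyConstant S.X₃) :
    EtCoh.IsFiniteLocallyConstant S.X₂ := by
  obtain ⟨ι₁, U₁, hcov₁, hU₁⟩ := h₁
  obtain ⟨ι₃, U₃, hcov₃, hU₃⟩ := h₃
  have key : ∀ x : X, ∃ (W : X.Etale) (z : W.left), W.hom z = x ∧
      (∃ (M : Type) (_ : AddCommGroup M) (_ : Finite M),
        Nonempty (EtCoh.restr S.X₂ W ≅
          (constantSheaf (X.smallEtaleTopology.over W) AddCommGrpCat.{u + 1}).obj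
            (AddCommGrpCat.of (ULift.{u + 1} M)))) := by
    intro x
    obtain ⟨i₁, y₁, hy₁⟩ := hcov₁ x
    obtain ⟨i₃, y₃, hy₃⟩ := hcov₃ x
    obtain ⟨M₀, iM, fM, ⟨α₁⟩⟩ := hU₁ i₁
    obtain ⟨N₀, iN, fN, ⟨α₃⟩⟩ := hU₃ i₃
    have : Finite (AddCommGrpCat.of (ULift.{u + 1} M₀)) :=
      inferInstanceAs (Finite (ULift.{u + 1} M₀))
    have : Finite (AddCommGrpCat.of (ULift.{u + 1} N₀)) :=
      inferInstanceAs (Finite (ULift.{u + 1} N₀))
    obtain ⟨W, p₁, p₃, z, hz⟩ := EtOpenSub.exists_refinement (U₁ i₁) (U₃ i₃) y₁ y₃ (hy₃.trans hy₁.symm)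
    obtain ⟨W₂, z₂, hz₂, E, hE, ⟨e⟩⟩ := extension_local S hS W z
      (transport X.smallEtaleTopology AddCommGrpCat.{u + 1} S.X₁ p₁ _ α₁)
      (transport X.smallEtaleTopology AddCommGrpCat.{u + 1} S.X₃ p₃ _ α₃)
    obtain ⟨E₀, iE, fE, ⟨eE⟩⟩ := exists_small_model E
    refine ⟨W₂, z₂, ?_, E₀, iE, fE, ⟨e ≪≫
      (constantSheaf (X.smallEtaleTopology.over W₂) AddCommGrpCat.{u + 1}).mapIso eE⟩⟩
    rw [hz₂, ← hom_comp_apply p₁ z, hz]
    exact hy₁
  choose W z hz hW using key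
  exact ⟨X, W, fun x => ⟨x, z x, hz x⟩, hW⟩

end Groth.Agent.Lib.Helper43.EtFLCSerre
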