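import Mathlib
import Groth.Prelude
import Groth.Agent.Lib.Helper43.StrataInf
import Groth.Agent.Lib.Helper43.EtConstr
import Groth.Agent.Lib.Helper43.EtFLCSerre
import Groth.Agent.Lib.Helper6.EtPullExact

/-!
# Constructible abelian étale sheaves: kernels, cokernels, extensions
-/

set_option autoImplicit false
universe u
open CategoryTheory CategoryTheory.Limits AlgebraicGeometry Opposite

namespace Groth.Agent.Lib.Helper43.EtConstrSerre

open Groth.Agent.Lib.Helper43.StrataLib Groth.Agent.Lib.Helper43.EtConstr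
  Groth.Agent.Lib.Helper43.EtFLCSerre Groth.Agent.Lib.Helper6.EtPullExact

variable {X : Scheme.{u}}

theorem Strata.mono' {P Q : ∀ (T : Scheme.{u}), (T ⟶ X) → Prop}
    (hPQ : ∀ (T : Scheme.{u}) (g : T ⟶ X), P T g → Q T g) {S : Set X} (h : Strata P S) :
    Strata Q S := by
  obtain ⟨n, T, g, h1, h2, h3, h4, h5⟩ := h
  exact ⟨n, T, g, h1, h2, h3, h4, fun i => hPQ _ _ (h5 i)⟩

theorem P_kernel_cokernel {F G : EtCoh.Ab X} (φ : F ⟶ G) (T : Scheme.{u}) (g : T ⟶ X)
    (h : P F T g ∧ P G T g) : P (kernel φ) T g ∧ P (cokernel φ) T g := by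
  constructor
  · intro _
    have : PreservesFiniteLimits (EtCoh.pull g) := preservesFiniteLimits_pull g
    have hk := (isFLC_kernel_cokernel _ _ ((EtCoh.pull g).map φ) h.1 h.2).1
    exact isFLC_of_iso (PreservesKernel.iso (EtCoh.pull g) φ).symm hk
  · intro _
    have : (EtCoh.pull g).IsLeftAdjoint :=
      ((EtCoh.bc g).sheafAdjunctionContinuous AddCommGrpCat.{u + 1} X.smallEtaleTopology
        T.smallEtaleTopology).isLeftAdjoint
    have hc := (isFLC_kernel_cokernel _ _ ((EtCoh.pull g).map φ) h.1 h.2).2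
    exact isFLC_of_iso (PreservesCokernel.iso (EtCoh.pull g) φ).symm hc

theorem constructible_kernel_cokernel {F G : EtCoh.Ab X} (φ : F ⟶ G)
    (hF : EtPBC.IsConstructible F) (hG : EtPBC.IsConstructible G) :
    EtPBC.IsConstructible (kernel φ) ∧ EtPBC.IsConstructible (cokernel φ) := by
  constructor
  · intro W hW
    have h := Strata.inf (P_comp F) (P_comp G) (P_congr G) (hF W hW) (hG W hW)
    exact (adaptedStrata_iff _ _).2
      (Strata.mono' (Q := P (kernel φ)) (fun T g hT => (P_kernel_cokernel φ T g hT).1) h)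
  · intro W hW
    have h := Strata.inf (P_comp F) (P_comp G) (P_congr G) (hF W hW) (hG W hW)
    exact (adaptedStrata_iff _ _).2
      (Strata.mono' (Q := P (cokernel φ)) (fun T g hT => (P_kernel_cokernel φ T g hT).2) h)

theorem P_extension (S : ShortComplex (EtCoh.Ab X)) (hS : S.ShortExact) (T : Scheme.{u}) (g : T ⟶ X)
    (h : P S.X₁ T g ∧ P S.X₃ T g) : P S.X₂ T g := by
  intro _
  have : PreservesFiniteLimits (EtCoh.pull g) := preservesFiniteLimits_pull g
  have : (EtCoh.pull g).IsLeftAdjoint :=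
    ((EtCoh.bc g).sheafAdjunctionContinuous AddCommGrpCat.{u + 1} X.smallEtaleTopology
      T.smallEtaleTopology).isLeftAdjoint
  have : (EtCoh.pull g).Additive := Functor.additive_of_preserves_binary_products _
  have hS' : (S.map (EtCoh.pull g)).ShortExact := hS.map_of_exact (EtCoh.pull g)
  exact isFLC_extension (S.map (EtCoh.pull g)) hS' h.1 h.2

theorem constructible_extension (S : ShortComplex (EtCoh.Ab X)) (hS : S.ShortExact)
    (h1 : EtPBC.IsConstructible S.X₁) (h3 : EtPBC.IsConstructible S.X₃) :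
    EtPBC.IsConstructible S.X₂ := by
  intro W hW
  have h := Strata.inf (P_comp S.X₁) (P_comp S.X₃) (P_congr S.X₃) (h1 W hW) (h3 W hW)
  exact (adaptedStrata_iff _ _).2
    (Strata.mono' (Q := P S.X₂) (fun T g hT => P_extension S hS T g hT) h)

end Groth.Agent.Lib.Helper43.EtConstrSerre
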