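import Groth.Prelude.Def_EtShriek2
import Mathlib
import Groth.Agent.Lib.Helper43.EtOpenSub
import Groth.Agent.Lib.Helper43.ConstRestr
import Groth.Agent.Lib.Helper4.EtRestr

set_option autoImplicit false
universe u
open CategoryTheory CategoryTheory.Limits AlgebraicGeometry Opposite

namespace Groth.Agent.Lib.Helper43.EtOverEquiv

open Groth.Agent.Lib.Helper43.EtOpenSub

variable {X : Scheme.{u}} (U : X.Etale)

/-- the comparison functor from the small étale site of `U.left` to the slice of `X.Etale` over `U` -/
noncomputable def E : U.left.Etale ⥤ Over U where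
  obj V := Over.mk (MorphismProperty.Over.homMk V.hom rfl :
    (EtShriek.compEtale U.hom).obj V ⟶ U)
  map g := Over.homMk ((EtShriek.compEtale U.hom).map g) (by
    apply MorphismProperty.Over.Hom.ext
    exact MorphismProperty.Over.w g)

lemma E_forget : E U ⋙ Over.forget U = EtShriek.compEtale U.hom := rfl

instance : (E U).Faithful where
  map_injective {V W} g g' h := by
    apply MorphismProperty.Over.Hom.ext
    have := congrArg (fun k => k.left.left) h
    exact this

lemma E_hom_left {V W : U.left.Etale} (φ : (E U).obj V ⟶ (E U).obj W) :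
    φ.left.left ≫ W.hom = V.hom := by
  have := congrArg (fun k => k.left) (Over.w φ)
  exact this

instance : (E U).Full where
  map_surjective {V W} φ := by
    refine ⟨MorphismProperty.Over.homMk φ.left.left (E_hom_left U φ), ?_⟩
    apply Over.OverMorphism.ext
    apply MorphismProperty.Over.Hom.ext
    rfl

lemma etale_hom_left (Y : Over U) : Etale Y.hom.left :=
  EtCoh.etaleMP.of_postcomp (W' := EtCoh.etaleMP) Y.hom.left U.hom U.prop (by
    rw [MorphismProperty.Over.w Y.hom]; exact Y.left.prop)

/-- the preimage object of `Y : Over U` -/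
noncomputable def preobj (Y : Over U) : U.left.Etale :=
  MorphismProperty.Over.mk ⊤ Y.hom.left (etale_hom_left U Y)

noncomputable def preobjIso (Y : Over U) : (E U).obj (preobj U Y) ≅ Y :=
  Over.isoMk (MorphismProperty.Over.isoMk (Iso.refl _) (by
    have := MorphismProperty.Over.w Y.hom
    change 𝟙 _ ≫ Y.left.hom = Y.hom.left ≫ U.hom
    rw [Category.id_comp, this])) (by
    apply MorphismProperty.Over.Hom.ext
    change 𝟙 _ ≫ Y.hom.left = Y.hom.left
    exact Category.id_comp _)

instance : (E U).EssSurj where
  mem_essImage Y := ⟨preobj U Y, ⟨preobjIso U Y⟩⟩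

instance : (E U).IsEquivalence where

lemma functorPushforward_mem_iff (V : U.left.Etale) (S : Sieve V) :
    S.functorPushforward (E U) ∈ (X.smallEtaleTopology.over U) ((E U).obj V) ↔
      S ∈ U.left.smallEtaleTopology V := by
  rw [GrothendieckTopology.mem_over_iff, mem_smallEtaleTopology_iff', mem_smallEtaleTopology_iff']
  constructor
  · intro h x
    obtain ⟨W, f, y, hf, hy⟩ := h x
    rw [Sieve.overEquiv_iff] at hf
    obtain ⟨Z, g', k, hg', hk⟩ := hf
    refine ⟨Z, g', k.left.left y, hg', ?_⟩
    have e1 : f.left = k.left.left ≫ g'.left := congrArg (fun t => t.left.left) hk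
    rw [← hy, e1]
    rfl
  · intro h x
    obtain ⟨W', g, y, hg, hy⟩ := h x
    refine ⟨(EtShriek.compEtale U.hom).obj W', (EtShriek.compEtale U.hom).map g, y, ?_, hy⟩
    rw [Sieve.overEquiv_iff]
    refine ⟨W', g, Over.homMk (𝟙 _) ?_, hg, ?_⟩
    · apply MorphismProperty.Over.Hom.ext
      change 𝟙 _ ≫ W'.hom = g.left ≫ V.hom
      rw [Category.id_comp]
      exact (MorphismProperty.Over.w g).symm
    · apply Over.OverMorphism.ext
      apply MorphismProperty.Over.Hom.ext
      change g.left = 𝟙 _ ≫ g.left
      exact (Category.id_comp _).symm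

instance isDenseSubsite : (E U).IsDenseSubsite U.left.smallEtaleTopology
    (X.smallEtaleTopology.over U) where
  functorPushforward_mem_iff {V S} := functorPushforward_mem_iff U V S

/-- restriction of sheaves on the slice site `Over U` to the small étale site of `U.left` -/
noncomputable abbrev Estar : EtPBC.AbOver U ⥤ EtCoh.Ab U.left :=
  (E U).sheafPushforwardContinuous AddCommGrpCat.{u + 1} U.left.smallEtaleTopology
    (X.smallEtaleTopology.over U)

instance : (Estar U).Full := inferInstance
instance : (Estar U).Faithful := inferInstance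

/-- the structure morphism, with its codomain in simp normal form -/
abbrev jU : U.left ⟶ X := U.hom

instance : Etale (jU U) := U.prop

/-- `j^{-1} H` is the restriction of `H|_U` along `E`. -/
noncomputable def restrIso [EtShriek.JCont (jU U)] :
    X.smallEtaleTopology.overPullback AddCommGrpCat.{u + 1} U ⋙ Estar U ≅
      EtShriek.restrAlong (jU U) :=
  Iso.refl _

/-- restriction of the constant sheaf on the slice is the constant sheaf -/
noncomputable def constIso :
    constantSheaf (X.smallEtaleTopology.over U) AddCommGrpCat.{u + 1} ⋙ Estar U ≅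
      constantSheaf U.left.smallEtaleTopology AddCommGrpCat.{u + 1} :=
  ConstRestr.constRestrIso U.left.smallEtaleTopology (X.smallEtaleTopology.over U)
    AddCommGrpCat.{u + 1} (E U)

/-- `F|_U` is constant on the slice site iff `j^{-1} F` is constant on `U.left`. -/
theorem over_iso_const_iff [EtShriek.JCont (jU U)] (F : EtCoh.Ab X) (M : AddCommGrpCat.{u + 1}) :
    Nonempty (F.over U ≅ (constantSheaf (X.smallEtaleTopology.over U) AddCommGrpCat.{u + 1}).obj M) ↔
      Nonempty ((EtShriek.restrAlong (jU U)).obj F ≅
        (constantSheaf U.left.smallEtaleTopology AddCommGrpCat.{u + 1}).obj M) := by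
  constructor
  · rintro ⟨e⟩
    exact ⟨(Estar U).mapIso e ≪≫ (constIso U).app M⟩
  · rintro ⟨e⟩
    exact ⟨(Estar U).preimageIso (e ≪≫ ((constIso U).app M).symm)⟩

/-- `Estar ⋙ j_!` is left adjoint to restriction to the slice -/
noncomputable def adjEstar [EtShriek.JCont (jU U)] :
    Estar U ⋙ EtShriek.extZero (jU U) ⊣ X.smallEtaleTopology.overPullback AddCommGrpCat.{u + 1} U :=
  (EtShriek.extZeroAdj (jU U)).restrictFullyFaithful (iC := Estar U) (iD := 𝟭 _)
    (Functor.FullyFaithful.ofFullyFaithful _) (Functor.FullyFaithful.id _)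
    (Functor.rightUnitor _).symm (Functor.leftUnitor _ ≪≫ (restrIso U).symm)

/-- the two extension by zero functors agree -/
noncomputable def extZeroIso [EtShriek.JCont (jU U)] :
    EtPBC.extZero U ≅ Estar U ⋙ EtShriek.extZero (jU U) :=
  (EtPBC.extZeroAdj U).leftAdjointUniq (adjEstar U)

/-- `j_! M` in both flavours -/
noncomputable def extZeroConstIso [EtShriek.JCont (jU U)] (M : Type) [AddCommGroup M] :
    EtPBC.extZeroConst U M ≅ (EtShriek.extZero (jU U)).obj (EtCoh.const U.left M) :=
  (extZeroIso U).app _ ≪≫ (EtShriek.extZero (jU U)).mapIso ((constIso U).app _)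

end Groth.Agent.Lib.Helper43.EtOverEquiv
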