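import Groth.Prelude.Def_PBC
import Groth.Prelude.Def_EtShriek2
import Mathlib
import Groth.Agent.Lib.Helper43.EtOverEquiv
import Groth.Agent.Lib.Helper43.EtConstr
import Groth.Agent.Lib.Helper43.EtFLCSerre

/-!
# Finite locally constant sheaves: étale-local nature, pull-back form, finite direct sums
-/

set_option autoImplicit false
universe u
open CategoryTheory CategoryTheory.Limits AlgebraicGeometry Opposite

namespace Groth.Agent.Lib.Helper43.EtFLCLocal

namespace BiprodFin
variable {C : Type*} [Category C] [Preadditive C] [HasFiniteBiproducts C]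

lemma ι_zero_lift {n : ℕ} (A : Fin (n + 1) → C) :
    biproduct.ι A 0 ≫ biproduct.lift (fun j : Fin n => biproduct.π A j.succ) = 0 := by
  apply biproduct.hom_ext
  intro j
  simp [biproduct.ι_π_ne A (Fin.succ_ne_zero j).symm]

lemma ι_succ_lift {n : ℕ} (A : Fin (n + 1) → C) (j : Fin n) :
    biproduct.ι A j.succ ≫ biproduct.lift (fun j : Fin n => biproduct.π A j.succ) =
      biproduct.ι (fun j : Fin n => A j.succ) j := by
  apply biproduct.hom_ext
  intro j'
  simp only [Category.assoc, biproduct.lift_π]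
  by_cases h : j = j'
  · subst h
    simp
  · rw [biproduct.ι_π_ne _ h, biproduct.ι_π_ne A (fun h' => h (Fin.succ_injective _ h'))]

/-- the split short complex `A 0 ⟶ ⨁ A ⟶ ⨁ (A ∘ succ)` -/
noncomputable def sc {n : ℕ} (A : Fin (n + 1) → C) : ShortComplex C :=
  ShortComplex.mk (biproduct.ι A 0) (biproduct.lift (fun j : Fin n => biproduct.π A j.succ))
    (ι_zero_lift A)

noncomputable def splitting {n : ℕ} (A : Fin (n + 1) → C) : (sc A).Splitting where
  r := biproduct.π A 0
  s := biproduct.desc (fun j : Fin n => biproduct.ι A j.succ)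
  f_r := by simp [sc]
  s_g := by
    change biproduct.desc (fun j : Fin n => biproduct.ι A j.succ) ≫
      biproduct.lift (fun j : Fin n => biproduct.π A j.succ) = 𝟙 (⨁ fun j : Fin n => A j.succ)
    apply biproduct.hom_ext'
    intro j
    rw [biproduct.ι_desc_assoc, Category.comp_id]
    exact ι_succ_lift A j
  id := by
    change biproduct.π A 0 ≫ biproduct.ι A 0 +
      biproduct.lift (fun j : Fin n => biproduct.π A j.succ) ≫
        biproduct.desc (fun j : Fin n => biproduct.ι A j.succ) = 𝟙 (⨁ A)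
    apply biproduct.hom_ext'
    intro i
    rw [Preadditive.comp_add, Category.comp_id]
    induction i using Fin.cases with
    | zero =>
      rw [biproduct.ι_π_self_assoc, reassoc_of% (ι_zero_lift A), zero_comp, add_zero]
    | succ j =>
      rw [biproduct.ι_π_ne_assoc A (Fin.succ_ne_zero j), zero_comp, zero_add,
        reassoc_of% (ι_succ_lift A j), biproduct.ι_desc]

lemma shortExact [HasZeroObject C] [Balanced C] {n : ℕ} (A : Fin (n + 1) → C) : (sc A).ShortExact :=
  (splitting A).shortExact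

end BiprodFin

open Groth.Agent.Lib.Helper43 Groth.Agent.Lib.Helper43.EtOverEquiv
  Groth.Agent.Lib.Helper4

variable {T : Scheme.{u}}

/-- the value group of `EtCoh.const` -/
abbrev val (M : Type) [AddCommGroup M] : AddCommGrpCat.{u + 1} :=
  AddCommGrpCat.of (ULift.{u + 1} M)

/-- pull-back form of a local trivialization -/
def LocTriv (F : EtCoh.Ab T) (t : T) : Prop :=
  ∃ (V : Scheme.{u}) (j : V ⟶ T) (_ : Etale j) (v : V) (_ : j.base v = t)
    (M : Type) (_ : AddCommGroup M) (_ : Finite M),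
    Nonempty ((EtCoh.pull j).obj F ≅ EtCoh.const V M)

theorem isFLC_iff_locTriv (F : EtCoh.Ab T) :
    EtCoh.IsFiniteLocallyConstant F ↔ ∀ t : T, LocTriv F t := by
  constructor
  · rintro ⟨ι, U, hcov, hU⟩ t
    obtain ⟨i, y, hy⟩ := hcov t
    obtain ⟨M, i1, i2, ⟨e⟩⟩ := hU i
    have : EtShriek.JCont (jU (U i)) := EtRestr.jCont _
    obtain ⟨e'⟩ := (over_iso_const_iff (U i) F _).1 ⟨e⟩
    exact ⟨(U i).left, jU (U i), inferInstance, y, hy, M, i1, i2,
      ⟨(EtRestr.pullIsoRestr (jU (U i))).app F ≪≫ e'⟩⟩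
  · intro h
    choose V j hj v hv M i1 i2 e using h
    refine ⟨T, fun t => MorphismProperty.Over.mk ⊤ (j t) (hj t), fun t => ⟨t, v t, hv t⟩, fun t => ?_⟩
    refine ⟨M t, i1 t, i2 t, ?_⟩
    have : EtShriek.JCont (jU (MorphismProperty.Over.mk ⊤ (j t) (hj t) : T.Etale)) :=
      EtRestr.jCont _
    have := hj t
    refine (over_iso_const_iff (MorphismProperty.Over.mk ⊤ (j t) (hj t) : T.Etale) F _).2 ?_
    obtain ⟨e'⟩ := e t
    exact ⟨((EtRestr.pullIsoRestr (jU (MorphismProperty.Over.mk ⊤ (j t) (hj t) : T.Etale))).app F).symm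
      ≪≫ e'⟩

/-- being finite locally constant is étale local -/
theorem isFLC_of_local (F : EtCoh.Ab T)
    (h : ∀ t : T, ∃ (V : Scheme.{u}) (j : V ⟶ T) (_ : Etale j) (v : V) (_ : j.base v = t),
      EtCoh.IsFiniteLocallyConstant ((EtCoh.pull j).obj F)) :
    EtCoh.IsFiniteLocallyConstant F := by
  rw [isFLC_iff_locTriv]
  intro t
  obtain ⟨V, j, hj, v, hv, hF⟩ := h t
  rw [isFLC_iff_locTriv] at hF
  obtain ⟨W, k, hk, w, hw, M, i1, i2, ⟨e⟩⟩ := hF v
  refine ⟨W, k ≫ j, inferInstance, w, ?_, M, i1, i2, ⟨(EtConstr.pullComp j k).app F ≪≫ e⟩⟩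
  rw [Scheme.Hom.comp_base, TopCat.comp_app, hw, hv]

/-- a sheaf isomorphic to a constant sheaf with finite value is finite locally constant -/
theorem isFLC_of_iso_const (F : EtCoh.Ab T) (M : Type) [AddCommGroup M] [Finite M]
    (e : F ≅ EtCoh.const T M) : EtCoh.IsFiniteLocallyConstant F := by
  refine ⟨PUnit, fun _ => EtCoh.top T, fun t => ⟨PUnit.unit, t, rfl⟩, fun _ => ?_⟩
  refine ⟨M, inferInstance, inferInstance, ⟨?_⟩⟩
  exact (T.smallEtaleTopology.overPullback AddCommGrpCat.{u + 1} (EtCoh.top T)).mapIso e ≪≫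
    (ConstRestr.constOverIso T.smallEtaleTopology AddCommGrpCat.{u + 1} (EtCoh.top T)).app _

/-- a sheaf isomorphic to a constant sheaf with finite value (in the big universe) is flc -/
theorem isFLC_of_iso_const' (F : EtCoh.Ab T) (N : AddCommGrpCat.{u + 1}) [Finite N]
    (e : F ≅ (constantSheaf T.smallEtaleTopology AddCommGrpCat.{u + 1}).obj N) :
    EtCoh.IsFiniteLocallyConstant F := by
  obtain ⟨M, i1, i2, ⟨a⟩⟩ := EtFLCSerre.exists_small_model N
  exact isFLC_of_iso_const F M
    (e ≪≫ (constantSheaf T.smallEtaleTopology AddCommGrpCat.{u + 1}).mapIso a)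

theorem isFLC_of_isZero (F : EtCoh.Ab T) (h : IsZero F) : EtCoh.IsFiniteLocallyConstant F := by
  have hz : IsZero (AddCommGrpCat.of (ULift.{u + 1} PUnit.{1})) := by
    rw [IsZero.iff_id_eq_zero]
    ext x
  have : IsZero (EtCoh.const T PUnit.{1}) :=
    (constantSheaf T.smallEtaleTopology AddCommGrpCat.{u + 1}).map_isZero hz
  exact isFLC_of_iso_const F PUnit.{1} (h.iso this)

/-- a finite direct sum of finite locally constant sheaves is finite locally constant -/
theorem isFLC_biproduct : ∀ (n : ℕ) (A : Fin n → EtCoh.Ab T),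
    (∀ j, EtCoh.IsFiniteLocallyConstant (A j)) → EtCoh.IsFiniteLocallyConstant (⨁ A)
  | 0, A, _ => by
    apply isFLC_of_isZero
    rw [IsZero.iff_id_eq_zero]
    apply biproduct.hom_ext
    intro j
    exact j.elim0
  | n + 1, A, h =>
    EtFLCSerre.isFLC_extension (BiprodFin.sc A) (BiprodFin.shortExact A) (h 0)
      (isFLC_biproduct n (fun j => A j.succ) (fun j => h j.succ))

end Groth.Agent.Lib.Helper43.EtFLCLocal
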