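import Mathlib
import Groth.Agent.Lib.Helper43.StrataLib
import Groth.Agent.S7560
import Groth.Agent.S7543

set_option autoImplicit false
universe u
open CategoryTheory Limits Opposite AlgebraicGeometry TopologicalSpace Topology

namespace Groth.Agent.Lib.Helper43.ConstrCover

open StrataLib

/-- locally closed subsets carry subscheme structures. -/
theorem exists_immersion_range_eq {T : Scheme.{u}} (Z : Set T) (hZ : IsLocallyClosed Z) :
    ∃ (Z' : Scheme.{u}) (i : Z' ⟶ T), IsImmersion i ∧ Set.range i = Z := by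
  obtain ⟨U, Z₀, hU, hZ₀, rfl⟩ := hZ
  obtain ⟨C, c, hc, hcr⟩ := exists_closedImmersion_range_eq Z₀ hZ₀
  refine ⟨_, (c ⁻¹ᵁ ⟨U, hU⟩).ι ≫ c, inferInstance, ?_⟩
  rw [range_ι_comp, hcr, Set.inter_comm]
  rfl

section Top
variable {X : Type*} [TopologicalSpace X]

theorem isOpen_constructibleTopology_of_isConstructible [CompactSpace X] {s : Set X}
    (hs : IsConstructible s) :
    IsOpen[constructibleTopology X] s ∧ IsOpen[constructibleTopology X] sᶜ := by
  induction hs using IsConstructible.empty_union_induction with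
  | open_retrocompact U hUo hUr =>
    have hc : IsCompact U := hUr.isCompact
    exact ⟨hc.isOpen_constructibleTopology_of_isOpen hUo,
      IsCompact.isOpen_constructibleTopology_of_isClosed (by rwa [compl_compl])
        hUo.isClosed_compl⟩
  | union s hs t ht hs' ht' =>
    refine ⟨@IsOpen.union _ _ _ (constructibleTopology X) hs'.1 ht'.1, ?_⟩
    rw [Set.compl_union]
    exact (constructibleTopology X).isOpen_inter _ _ hs'.2 ht'.2
  | compl s hs hs' =>
    exact ⟨hs'.2, by rw [compl_compl]; exact hs'.1⟩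

theorem exists_finite_subcover_of_isConstructible [CompactSpace X] [QuasiSober X]
    [PrespectralSpace X] [QuasiSeparatedSpace X] {ι : Type*} (R : ι → Set X)
    (hR : ∀ i, IsConstructible (R i)) (hcov : ⋃ i, R i = Set.univ) :
    ∃ t : Finset ι, ∀ x : X, ∃ i ∈ t, x ∈ R i := by
  let Y := WithConstructibleTopology X
  have hopen : ∀ i, IsOpen ((WithTopology.ofTopology (t := constructibleTopology X)) ⁻¹' R i) :=
    fun i => (WithConstructibleTopology.isOpen_iff).2
      (isOpen_constructibleTopology_of_isConstructible (hR i)).1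
  obtain ⟨t, ht⟩ := (isCompact_univ (X := Y)).elim_finite_subcover _ hopen (by
    intro y _
    have : WithTopology.ofTopology y ∈ ⋃ i, R i := by rw [hcov]; trivial
    obtain ⟨i, hi⟩ := Set.mem_iUnion.1 this
    exact Set.mem_iUnion.2 ⟨i, hi⟩)
  refine ⟨t, fun x => ?_⟩
  have := ht (Set.mem_univ (WithTopology.toTopology _ x))
  obtain ⟨i, hi⟩ := Set.mem_iUnion.1 this
  obtain ⟨hit, hi'⟩ := Set.mem_iUnion.1 hi
  exact ⟨i, hit, hi'⟩

theorem isConstructible_image_of_isEmbedding {T : Type*} [TopologicalSpace T]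
    [PrespectralSpace X] {g : T → X} (hg : IsEmbedding g) (hE : IsConstructible (Set.range g))
    {A : Set T} (hA : IsConstructible A) : IsConstructible (g '' A) := by
  let φ := hg.toHomeomorph
  have h1 : IsConstructible (φ.symm ⁻¹' A) := hA.preimage_of_isOpenEmbedding φ.symm.isOpenEmbedding
  have h2 := Groth.Agent.S7543.result (Set.range g) hE _ h1
  convert h2 using 1
  ext x
  simp only [Set.mem_image, Set.mem_preimage]
  constructor
  · rintro ⟨a, ha, rfl⟩
    exact ⟨φ a, by simpa using ha, rfl⟩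
  · rintro ⟨y, hy, rfl⟩
    refine ⟨φ.symm y, hy, ?_⟩
    have : φ (φ.symm y) = y := φ.apply_symm_apply y
    exact congrArg Subtype.val this

end Top


theorem Strata.mono {X : Scheme.{u}} {P Q : ∀ (T : Scheme.{u}), (T ⟶ X) → Prop}
    (hPQ : ∀ (T : Scheme.{u}) (g : T ⟶ X), P T g → Q T g) {S : Set X} (h : Strata P S) :
    Strata Q S := by
  obtain ⟨n, T, g, h1, h2, h3, h4, h5⟩ := h
  exact ⟨n, T, g, h1, h2, h3, h4, fun i => hPQ _ _ (h5 i)⟩

theorem range_comp_of_range_eq {X T Z' : Scheme.{u}} (g : T ⟶ X) (i : Z' ⟶ T) (Z : Set X)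
    (hi : Set.range i = g ⁻¹' Z) (hZ : Z ⊆ Set.range g) : Set.range (i ≫ g) = Z := by
  rw [range_closed_comp g i Z hi]
  exact Set.inter_eq_right.2 hZ

/-- a finite-type-free version of "constructible on a constructible cover by subschemes". -/
theorem Strata.of_constructible_cover {X : Scheme.{u}} [CompactSpace X] [QuasiSeparatedSpace X]
    {P : ∀ (T : Scheme.{u}), (T ⟶ X) → Prop}
    (hP : ∀ {T T' : Scheme.{u}} (h : T' ⟶ T) (g : T ⟶ X), P T g → P T' (h ≫ g))
    {ι : Type*} (T : ι → Scheme.{u}) (g : ∀ i, T i ⟶ X) (hg : ∀ i, IsImmersion (g i))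
    (hc : ∀ i, IsConstructible (Set.range (g i)))
    (hcov : (⋃ i, Set.range (g i)) = Set.univ)
    (h : ∀ i, Strata (fun T' s => P T' (s ≫ g i)) (Set.univ : Set (T i))) :
    Strata P (Set.univ : Set X) := by
  classical
  obtain ⟨t, ht⟩ := exists_finite_subcover_of_isConstructible (fun i => Set.range (g i)) hc hcov
  choose n S s h1 h2 h3 h4 h5 using h
  -- the finite family of all strata
  let A := Σ (i : {i // i ∈ t}), Fin (n i.1)
  let hh : ∀ α : A, S α.1.1 α.2 ⟶ X := fun α => s α.1.1 α.2 ≫ g α.1.1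
  have hhimm : ∀ α : A, IsImmersion (hh α) := fun α => by
    haveI := h1 α.1.1 α.2
    haveI := hg α.1.1
    exact inferInstanceAs (IsImmersion (s α.1.1 α.2 ≫ g α.1.1))
  have hRc : ∀ α : A, IsConstructible (Set.range (hh α)) := fun α => by
    have hA : IsConstructible (Set.range (s α.1.1 α.2)) := by
      have := (h2 α.1.1 α.2).preimage_of_isOpenEmbedding
        (Homeomorph.Set.univ (T α.1.1)).symm.isOpenEmbedding
      exact this
    have := isConstructible_image_of_isEmbedding (g α.1.1).isEmbedding (hc α.1.1) hA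
    have e : Set.range (hh α) = (g α.1.1) '' Set.range (s α.1.1 α.2) := by
      simp only [hh]
      rw [Scheme.Hom.comp_base, TopCat.coe_comp, Set.range_comp]
    rw [e]
    exact this
  have hRcov : ∀ x : X, ∃ α : A, x ∈ Set.range (hh α) := fun x => by
    obtain ⟨i, hit, y, rfl⟩ := ht x
    have : y ∈ ⋃ j, Set.range (s i j) := by rw [h4 i]; trivial
    obtain ⟨j, z, rfl⟩ := Set.mem_iUnion.1 this
    exact ⟨⟨⟨i, hit⟩, j⟩, z, rfl⟩
  obtain ⟨N, ⟨e⟩⟩ := Finite.exists_equiv_fin A
  obtain ⟨I, _, _, St, hSt1, hSt2, hSt3, -, hSt5⟩ :=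
    Groth.Agent.S7560.result (fun k : Fin N => Set.range (hh (e.symm k)))
      (fun k => hRc _) (by
        ext x
        simp only [Set.mem_iUnion, Set.mem_univ, iff_true]
        obtain ⟨α, hα⟩ := hRcov x
        exact ⟨e α, by rwa [Equiv.symm_apply_apply]⟩)
  let I' := {i : I // (St i).Nonempty}
  have hα : ∀ i : I', ∃ α : A, St i.1 ⊆ Set.range (hh α) := fun i => by
    obtain ⟨x, hx⟩ := i.2
    obtain ⟨α, hα⟩ := hRcov x
    refine ⟨α, ?_⟩
    have := hSt5 i.1 (e α) ⟨x, hx, by rwa [Equiv.symm_apply_apply]⟩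
    rwa [Equiv.symm_apply_apply] at this
  choose α hα using hα
  have hz : ∀ i : I', ∃ (Z' : Scheme.{u}) (z : Z' ⟶ S (α i).1.1 (α i).2),
      IsImmersion z ∧ Set.range z = (hh (α i)) ⁻¹' (St i.1) := fun i =>
    exists_immersion_range_eq _ ((hSt1 i.1).1.preimage (hh (α i)).continuous)
  choose Z' z hz1 hz2 using hz
  have hr : ∀ i : I', Set.range (z i ≫ hh (α i)) = St i.1 := fun i =>
    range_comp_of_range_eq _ _ _ (hz2 i) (hα i)
  refine Strata.of_finite I' Z' (fun i => z i ≫ hh (α i)) ?_ ?_ ?_ ?_ (fun i => ?_)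
  · intro i
    haveI := hz1 i
    haveI := hhimm (α i)
    infer_instance
  · intro i
    rw [hr]
    exact (hSt1 i.1).2.preimage_of_isOpenEmbedding isOpen_univ.isOpenEmbedding_subtypeVal
  · intro a b hab
    simp only [hr]
    exact hSt3 a.1 b.1 (fun h => hab (Subtype.ext h))
  · simp only [hr]
    ext x
    simp only [Set.mem_iUnion, Set.mem_univ, iff_true]
    have : x ∈ ⋃ i, St i := by rw [hSt2]; trivial
    obtain ⟨i, hi⟩ := Set.mem_iUnion.1 this
    exact ⟨⟨i, ⟨x, hi⟩⟩, hi⟩
  · have := hP (z i) (hh (α i)) (h5 (α i).1.1 (α i).2)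
    exact this

end Groth.Agent.Lib.Helper43.ConstrCover
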