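import Mathlib

/-!
# Fibres of `L P` where `L` is left adjoint to a sheaf pushforward along a continuous functor

Let `F : C ⥤ D` be a continuous functor between sites, `L ⊣ F.sheafPushforwardContinuous` and `Φ`
a point of `D`.  Morphisms `(L P)_Φ ⟶ M` are the same as compatible families of morphisms
`P(X) ⟶ M` indexed by `X : C` and `x : Φ.fiber (F X)`.
-/

set_option autoImplicit false
universe w v' u' v₁ u₁ v₂ u₂
open CategoryTheory CategoryTheory.Limits Opposite

namespace Groth.Agent.Lib.Helper43.AdjFiber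

variable {C : Type u₁} [Category.{v₁} C] {D : Type u₂} [Category.{v₂} D]
  {J : GrothendieckTopology C} {K : GrothendieckTopology D}
  (F : C ⥤ D) [F.IsContinuous J K]
  {A : Type u'} [Category.{v'} A] [HasProducts.{w} A] [HasColimitsOfSize.{w, w} A]
  {L : Sheaf J A ⥤ Sheaf K A} (adj : L ⊣ F.sheafPushforwardContinuous A J K)
  (Φ : GrothendieckTopology.Point.{w} K) (P : Sheaf J A)

lemma homEquiv_app (G : Sheaf K A) (k : L.obj P ⟶ G) (X : C) :
    ((adj.homEquiv P G) k).hom.app (op X) =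
      (adj.unit.app P).hom.app (op X) ≫ k.hom.app (op (F.obj X)) := by
  rw [Adjunction.homEquiv_unit]
  rfl

/-- maps out of `(L P)_Φ` are determined on the images of `P(X)` -/
lemma fiber_hom_ext {M : A}
    {g g' : Φ.presheafFiber.obj (L.obj P).obj ⟶ M}
    (h : ∀ (X : C) (z : Φ.fiber.obj (F.obj X)),
      (adj.unit.app P).hom.app (op X) ≫ Φ.toPresheafFiber (F.obj X) z (L.obj P).obj ≫ g =
      (adj.unit.app P).hom.app (op X) ≫ Φ.toPresheafFiber (F.obj X) z (L.obj P).obj ≫ g') :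
    g = g' := by
  let e₁ := Φ.skyscraperSheafAdjunction.homEquiv (L.obj P) M
  let e₂ := adj.homEquiv P (Φ.skyscraperSheafFunctor.obj M)
  apply e₁.injective
  apply e₂.injective
  ext V : 3
  induction V using Opposite.rec with | op V => ?_
  rw [homEquiv_app, homEquiv_app]
  refine Pi.hom_ext _ _ (fun z => ?_)
  have h1 : ∀ g₀ : Φ.presheafFiber.obj (L.obj P).obj ⟶ M,
      (e₁ g₀).hom.app (op (F.obj V)) ≫ Pi.π (fun _ : Φ.fiber.obj (F.obj V) => M) z =
      Φ.toPresheafFiber (F.obj V) z (L.obj P).obj ≫ g₀ := by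
    intro g₀
    have := Φ.skyscraperSheafAdjunction_homEquiv_apply_hom (F := L.obj P) g₀
    rw [show (e₁ g₀).hom = _ from this]
    exact Φ.skyscraperPresheafHomEquiv_app_π g₀ _ z
  have key : ∀ g₀ : Φ.presheafFiber.obj (L.obj P).obj ⟶ M,
      ((adj.unit.app P).hom.app (op V) ≫ (e₁ g₀).hom.app (op (F.obj V))) ≫
        Pi.π (fun _ : Φ.fiber.obj (F.obj V) => M) z =
      (adj.unit.app P).hom.app (op V) ≫ Φ.toPresheafFiber (F.obj V) z (L.obj P).obj ≫ g₀ :=
    fun g₀ => (Category.assoc _ _ _).trans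
      (congrArg (fun t => (adj.unit.app P).hom.app (op V) ≫ t) (h1 g₀))
  exact (key g).trans ((h V z).trans (key g').symm)

section Desc

variable {M : A}
  (φ : ∀ (X : C) (_ : Φ.fiber.obj (F.obj X)), P.obj.obj (op X) ⟶ M)
  (hφ : ∀ ⦃X₁ X₂ : C⦄ (f : X₁ ⟶ X₂) (z : Φ.fiber.obj (F.obj X₁)),
    P.obj.map f.op ≫ φ X₁ z = φ X₂ (Φ.fiber.map (F.map f) z))

/-- the morphism of sheaves `P ⟶ F_* Sky_Φ M` attached to a compatible family -/
noncomputable def descSheafHom :
    P ⟶ (F.sheafPushforwardContinuous A J K).obj (Φ.skyscraperSheafFunctor.obj M) :=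
  ⟨{ app := fun V => Pi.lift (fun z => φ V.unop z)
     naturality := by
      intro V₂ V₁ f
      induction V₁ using Opposite.rec with | op V₁ => ?_
      induction V₂ using Opposite.rec with | op V₂ => ?_
      obtain ⟨f, rfl⟩ : ∃ f' : V₁ ⟶ V₂, f = f'.op := ⟨f.unop, rfl⟩
      refine Pi.hom_ext _ _ (fun z => ?_)
      have h2 : ((F.sheafPushforwardContinuous A J K).obj
            (Φ.skyscraperSheafFunctor.obj M)).obj.map f.op ≫
          Pi.π (fun _ : Φ.fiber.obj (F.obj V₁) => M) z =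
          Pi.π (fun _ : Φ.fiber.obj (F.obj V₂) => M) (Φ.fiber.map (F.map f) z) := by
        change (Φ.skyscraperPresheafFunctor.obj M).map (F.map f).op ≫ _ = _
        rw [Φ.skyscraperPresheafFunctor_obj_map]
        exact (Pi.map'_comp_π _ _ z).trans (Category.comp_id _)
      have h3 : (P.obj.map f.op ≫ Pi.lift fun z => φ V₁ z) ≫
          Pi.π (fun _ : Φ.fiber.obj (F.obj V₁) => M) z = P.obj.map f.op ≫ φ V₁ z :=
        (Category.assoc _ _ _).trans (congrArg (fun t => P.obj.map f.op ≫ t) (Pi.lift_π _ _))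
      have h4 : (Pi.lift fun z => φ V₂ z) ≫
          Pi.π (fun _ : Φ.fiber.obj (F.obj V₂) => M) (Φ.fiber.map (F.map f) z) =
          φ V₂ (Φ.fiber.map (F.map f) z) := Pi.lift_π _ _
      exact h3.trans ((hφ f z).trans (h4.symm.trans
        ((congrArg (fun t => (Pi.lift fun z => φ V₂ z) ≫ t) h2.symm).trans
          (Category.assoc _ _ _).symm))) }⟩

/-- the morphism `(L P)_Φ ⟶ M` attached to a compatible family -/
noncomputable def fiberDesc : Φ.presheafFiber.obj (L.obj P).obj ⟶ M :=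
  (Φ.skyscraperSheafAdjunction.homEquiv (L.obj P) M).symm
    ((adj.homEquiv P (Φ.skyscraperSheafFunctor.obj M)).symm (descSheafHom F Φ P φ hφ))

lemma unit_toFiber_desc (X : C) (z : Φ.fiber.obj (F.obj X)) :
    (adj.unit.app P).hom.app (op X) ≫ Φ.toPresheafFiber (F.obj X) z (L.obj P).obj ≫
      fiberDesc F adj Φ P φ hφ = φ X z := by
  let e₁ := Φ.skyscraperSheafAdjunction.homEquiv (L.obj P) M
  let e₂ := adj.homEquiv P (Φ.skyscraperSheafFunctor.obj M)
  let k := e₂.symm (descSheafHom F Φ P φ hφ)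
  have h1 : Φ.toPresheafFiber (F.obj X) z (L.obj P).obj ≫ fiberDesc F adj Φ P φ hφ =
      k.hom.app (op (F.obj X)) ≫ Pi.π (fun _ : Φ.fiber.obj (F.obj X) => M) z := by
    have := Φ.skyscraperSheafAdjunction_homEquiv_symm_apply (F := L.obj P) k
    change _ ≫ e₁.symm k = _
    rw [show e₁.symm k = _ from this]
    exact Φ.toPresheafFiber_skyscraperPresheafHomEquiv_symm k.hom _ z
  have h2 : (adj.unit.app P).hom.app (op X) ≫ k.hom.app (op (F.obj X)) =
      (descSheafHom F Φ P φ hφ).hom.app (op X) := by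
    rw [← homEquiv_app]
    change (e₂ (e₂.symm _)).hom.app _ = _
    rw [Equiv.apply_symm_apply]
  have h3 : (descSheafHom F Φ P φ hφ).hom.app (op X) ≫
      Pi.π (fun _ : Φ.fiber.obj (F.obj X) => M) z = φ X z :=
    Pi.lift_π _ _
  exact (congrArg (fun t => (adj.unit.app P).hom.app (op X) ≫ t) h1).trans
    ((Category.assoc _ _ _).symm.trans
      ((congrArg (fun t => t ≫ Pi.π (fun _ : Φ.fiber.obj (F.obj X) => M) z) h2).trans h3))

end Desc

end Groth.Agent.Lib.Helper43.AdjFiber
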