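import Mathlib
import Groth.Prelude.Def_EtBase
import Groth.Agent.S0100
import Groth.Agent.Lib.Helper43.AdjFiber

/-!
# The stalk of the inverse image `f^{-1} H`, concretely
-/

set_option autoImplicit false
universe u
open CategoryTheory CategoryTheory.Limits AlgebraicGeometry Opposite

namespace Groth.Agent.Lib.Helper43.PullStalk

open Groth.Agent.S0100 Groth.Agent.Lib.Helper43

section Helpers

variable {X Y : Scheme.{u}} (f : X ⟶ Y) [EtCoh.BCCont f] (H : EtCoh.Ab Y)
  {Ω : Type u} [Field Ω] [IsSepClosed Ω] (ξ : Spec (CommRingCat.of Ω) ⟶ X)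

/-- the unit `H ⟶ f_* f^{-1} H` -/
noncomputable abbrev η : H ⟶ (EtCoh.push f).obj ((EtCoh.pull f).obj H) :=
  (EtCoh.pullPushAdj f).unit.app H

/-- the canonical map `H_{f ξ} ⟶ (f^{-1} H)_ξ` -/
noncomputable def pullStalkMap :
    (Scheme.pointSmallEtale (ξ ≫ f)).presheafFiber.obj H.obj ⟶
      (Scheme.pointSmallEtale ξ).presheafFiber.obj ((EtCoh.pull f).obj H).obj :=
  (Scheme.pointSmallEtale (ξ ≫ f)).presheafFiberDesc
    (fun W z => (η f H).hom.app (op W) ≫
      (Scheme.pointSmallEtale ξ).toPresheafFiber ((EtCoh.bc f).obj W) (fiberEquiv f ξ W z)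
        ((EtCoh.pull f).obj H).obj)
    (by
      intro W₁ W₂ g z
      have h1 := fiberEquiv_naturality f ξ g z
      have h2 := (Scheme.pointSmallEtale ξ).toPresheafFiber_w ((EtCoh.bc f).map g)
        (fiberEquiv f ξ W₁ z) ((EtCoh.pull f).obj H).obj
      have h3 := (η f H).hom.naturality g.op
      have h4 : (Scheme.pointSmallEtale ξ).fiber.map ((EtCoh.bc f).map g) (fiberEquiv f ξ W₁ z) =
          fiberEquiv f ξ W₂ ((Scheme.pointSmallEtale (ξ ≫ f)).fiber.map g z) := h1.symm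
      rw [← h4, ← h2, ← Category.assoc, h3, Category.assoc]
      rfl)

lemma toFiber_pullStalkMap (W : Y.Etale) (z : (Scheme.pointSmallEtale (ξ ≫ f)).fiber.obj W) :
    (Scheme.pointSmallEtale (ξ ≫ f)).toPresheafFiber W z H.obj ≫ pullStalkMap f H ξ =
    (η f H).hom.app (op W) ≫
      (Scheme.pointSmallEtale ξ).toPresheafFiber ((EtCoh.bc f).obj W) (fiberEquiv f ξ W z)
        ((EtCoh.pull f).obj H).obj :=
  (Scheme.pointSmallEtale (ξ ≫ f)).toPresheafFiber_presheafFiberDesc _ _ W z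

/-- the inverse `(f^{-1} H)_ξ ⟶ H_{f ξ}` -/
noncomputable def pullStalkInv :
    (Scheme.pointSmallEtale ξ).presheafFiber.obj ((EtCoh.pull f).obj H).obj ⟶
      (Scheme.pointSmallEtale (ξ ≫ f)).presheafFiber.obj H.obj :=
  AdjFiber.fiberDesc (EtCoh.bc f) (EtCoh.pullPushAdj f) (Scheme.pointSmallEtale ξ) H
    (fun W y => (Scheme.pointSmallEtale (ξ ≫ f)).toPresheafFiber W ((fiberEquiv f ξ W).symm y) H.obj)
    (by
      intro W₁ W₂ g y
      have h2 := (Scheme.pointSmallEtale (ξ ≫ f)).toPresheafFiber_w g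
        ((fiberEquiv f ξ W₁).symm y) H.obj
      rw [h2]
      congr 1
      apply (fiberEquiv f ξ W₂).injective
      rw [Equiv.apply_symm_apply]
      have h1 := fiberEquiv_naturality f ξ g ((fiberEquiv f ξ W₁).symm y)
      rw [Equiv.apply_symm_apply] at h1
      exact h1)

lemma η_toFiber_pullStalkInv (W : Y.Etale) (y : (Scheme.pointSmallEtale ξ).fiber.obj ((EtCoh.bc f).obj W)) :
    (η f H).hom.app (op W) ≫
      (Scheme.pointSmallEtale ξ).toPresheafFiber ((EtCoh.bc f).obj W) y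
        ((EtCoh.pull f).obj H).obj ≫ pullStalkInv f H ξ =
    (Scheme.pointSmallEtale (ξ ≫ f)).toPresheafFiber W ((fiberEquiv f ξ W).symm y) H.obj :=
  AdjFiber.unit_toFiber_desc (EtCoh.bc f) (EtCoh.pullPushAdj f) (Scheme.pointSmallEtale ξ) H _ _ W y

lemma pullStalkMap_inv : pullStalkMap f H ξ ≫ pullStalkInv f H ξ = 𝟙 _ := by
  refine (Scheme.pointSmallEtale (ξ ≫ f)).presheafFiber_hom_ext (fun W z => ?_)
  rw [Category.comp_id, ← Category.assoc, toFiber_pullStalkMap, Category.assoc,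
    η_toFiber_pullStalkInv, Equiv.symm_apply_apply]

lemma pullStalkInv_map : pullStalkInv f H ξ ≫ pullStalkMap f H ξ = 𝟙 _ := by
  refine AdjFiber.fiber_hom_ext (EtCoh.bc f) (EtCoh.pullPushAdj f) (Scheme.pointSmallEtale ξ) H
    (fun W y => ?_)
  rw [Category.comp_id]
  have h1 := η_toFiber_pullStalkInv f H ξ W y
  have h2 := toFiber_pullStalkMap f H ξ W ((fiberEquiv f ξ W).symm y)
  rw [Equiv.apply_symm_apply] at h2
  calc _ = ((η f H).hom.app (op W) ≫
      (Scheme.pointSmallEtale ξ).toPresheafFiber ((EtCoh.bc f).obj W) y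
        ((EtCoh.pull f).obj H).obj ≫ pullStalkInv f H ξ) ≫ pullStalkMap f H ξ := by
        simp only [Category.assoc]
    _ = _ := by rw [h1, h2]

instance isIso_pullStalkMap : IsIso (pullStalkMap f H ξ) :=
  ⟨⟨pullStalkInv f H ξ, pullStalkMap_inv f H ξ, pullStalkInv_map f H ξ⟩⟩

end Helpers

end Groth.Agent.Lib.Helper43.PullStalk
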