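import Mathlib
import Groth.Prelude
import Groth.Agent.Lib.Helper15.PointFiberLemmas
import Groth.Agent.Lib.Helper43.PullStalk
import Groth.Agent.Lib.Helper43.EtConstr
import Groth.Agent.Lib.Helper43.ConstrCover

/-!
# The support of a constructible abelian étale sheaf is (locally) constructible
-/

set_option autoImplicit false
universe u
open CategoryTheory CategoryTheory.Limits AlgebraicGeometry Opposite Topology

namespace Groth.Agent.Lib.Helper43.EtSupp

open Groth.Agent.Lib.Helper15.PointFiberLemmas Groth.Agent.Lib.Helper43 Groth.Agent.Lib.Helper43.StrataLib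
  Groth.Agent.Lib.Helper43.EtConstr

/-- the stalk of a sheaf trivialized on an étale neighbourhood of the point -/
theorem stalk_iso_of_triv {T : Scheme.{u}} (G : EtCoh.Ab T) (U : T.Etale) (M : AddCommGrpCat.{u + 1})
    (e : G.over U ≅ (constantSheaf (T.smallEtaleTopology.over U) AddCommGrpCat.{u + 1}).obj M)
    {Ω : Type u} [Field Ω] [IsSepClosed Ω] (ξ : Spec (CommRingCat.of Ω) ⟶ T) (y : U.left)
    (hy : U.hom y = ξ default) :
    Nonempty ((EtCoh.stalk ξ).obj G ≅ M) := by
  have : Etale U.hom := U.prop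
  obtain ⟨l, hl, -⟩ := Scheme.exists_fac_of_etale_of_isSepClosed U.hom ξ y hy
  let x : (Scheme.pointSmallEtale ξ).fiber.obj U := Over.homMk l hl
  let Ψ := (Scheme.pointSmallEtale ξ).over x
  have e1 : Ψ.sheafFiber.obj (G.over U) ≅ (Scheme.pointSmallEtale ξ).sheafFiber.obj G :=
    overFiberIso (Scheme.pointSmallEtale ξ) x G
  have e2 := Ψ.sheafFiber.mapIso e
  have e3 := constFiberIso Ψ M
  exact ⟨e1.symm ≪≫ e2 ≪≫ e3⟩

lemma range_eq_singleton {T : Scheme.{u}} {Ω : Type u} [Field Ω]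
    (ξ : Spec (CommRingCat.of Ω) ⟶ T) : Set.range ξ = {ξ default} := by
  ext t
  constructor
  · rintro ⟨p, rfl⟩
    rw [Unique.eq_default p]
    rfl
  · rintro rfl
    exact ⟨default, rfl⟩

/-- every point carries a geometric point -/
lemma exists_geomPt {T : Scheme.{u}} (t : T) :
    ∃ (Ω : Type u) (_ : Field Ω) (_ : IsSepClosed Ω) (ξ : Spec (CommRingCat.of Ω) ⟶ T),
      ξ default = t := by
  let Ω := SeparableClosure (T.residueField t)
  let s : Spec (CommRingCat.of Ω) ⟶ T :=
    (Scheme.SpecToEquivOfField Ω T).2 ⟨t, CommRingCat.ofHom (algebraMap (T.residueField t) Ω)⟩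
  have hs : s default = t := by simp [s, Scheme.SpecToEquivOfField]
  exact ⟨Ω, inferInstance, inferInstance, s, hs⟩

lemma mem_supp_iff {T : Scheme.{u}} (G : EtCoh.Ab T) (t : T) :
    t ∈ EtPBC.supp G ↔ ∃ (Ω : Type u) (_ : Field Ω) (_ : IsSepClosed Ω)
      (ξ : Spec (CommRingCat.of Ω) ⟶ T), ξ default = t ∧ ¬ IsZero ((EtCoh.stalk ξ).obj G) := by
  constructor
  · rintro ⟨Ω, _, _, ξ, h1, h2⟩
    refine ⟨Ω, inferInstance, inferInstance, ξ, ?_, h2⟩
    rw [range_eq_singleton] at h1
    exact Set.singleton_eq_singleton_iff.1 h1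
  · rintro ⟨Ω, _, _, ξ, h1, h2⟩
    refine ⟨Ω, inferInstance, inferInstance, ξ, ?_, h2⟩
    rw [range_eq_singleton, h1]

/-- the support of a finite locally constant sheaf is open and closed -/
theorem isClopen_supp_of_isFLC {T : Scheme.{u}} (G : EtCoh.Ab T)
    (hG : EtCoh.IsFiniteLocallyConstant G) : IsClopen (EtPBC.supp G) := by
  obtain ⟨ι, U, hcov, hU⟩ := hG
  choose M iM fM hα using hU
  let N : ι → AddCommGrpCat.{u + 1} := fun i => AddCommGrpCat.of (ULift.{u + 1} (M i))
  let A : Set ι := {i | ¬ IsZero (N i)}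
  have key : ∀ (i : ι) (y : (U i).left) (Ω : Type u) [Field Ω] [IsSepClosed Ω]
      (ξ : Spec (CommRingCat.of Ω) ⟶ T), (U i).hom y = ξ default →
      (IsZero ((EtCoh.stalk ξ).obj G) ↔ IsZero (N i)) := by
    intro i y Ω _ _ ξ hy
    obtain ⟨α⟩ := hα i
    obtain ⟨e⟩ := stalk_iso_of_triv G (U i) (N i) α ξ y hy
    exact ⟨fun h => IsZero.of_iso h e.symm, fun h => IsZero.of_iso h e⟩
  have h1 : EtPBC.supp G = ⋃ i ∈ A, Set.range (U i).hom := by
    ext t
    rw [mem_supp_iff]
    constructor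
    · rintro ⟨Ω, _, _, ξ, hξ, hnz⟩
      obtain ⟨i, y, hy⟩ := hcov t
      refine Set.mem_biUnion (x := i) ?_ ⟨y, hy⟩
      intro hz
      exact hnz ((key i y Ω ξ (hy.trans hξ.symm)).2 hz)
    · intro ht
      obtain ⟨i, hi, y, hy⟩ := Set.mem_iUnion₂.1 ht
      obtain ⟨Ω, _, _, ξ, hξ⟩ := exists_geomPt t
      refine ⟨Ω, inferInstance, inferInstance, ξ, hξ, ?_⟩
      intro hz
      exact hi ((key i y Ω ξ (hy.trans hξ.symm)).1 hz)
  have h2 : (EtPBC.supp G)ᶜ = ⋃ i ∈ Aᶜ, Set.range (U i).hom := by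
    ext t
    constructor
    · intro ht
      obtain ⟨i, y, hy⟩ := hcov t
      refine Set.mem_biUnion (x := i) ?_ ⟨y, hy⟩
      intro hi
      apply ht
      rw [h1]
      exact Set.mem_biUnion hi ⟨y, hy⟩
    · intro ht hs
      obtain ⟨i, hi, y, hy⟩ := Set.mem_iUnion₂.1 ht
      obtain ⟨Ω, _, _, ξ, hξ, hnz⟩ := (mem_supp_iff G t).1 hs
      have hz : IsZero (N i) := not_not.1 hi
      exact hnz ((key i y Ω ξ (hy.trans hξ.symm)).2 hz)
  constructor
  · rw [← isOpen_compl_iff, h2]
    exact isOpen_biUnion (fun i _ => (U i).hom.isOpenMap.isOpen_range)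
  · rw [h1]
    exact isOpen_biUnion (fun i _ => (U i).hom.isOpenMap.isOpen_range)

/-- geometric points lift along preimmersions through points of the image (from helper15's
`EtModStalkFin`) -/
theorem exists_fac_of_isPreimmersion {T X : Scheme.{u}} (g : T ⟶ X) [IsPreimmersion g]
    {Ω : Type u} [Field Ω] (s : Spec (CommRingCat.of Ω) ⟶ X) (t : T) (ht : g t = s default) :
    ∃ l : Spec (CommRingCat.of Ω) ⟶ T, l ≫ g = s := by
  obtain ⟨⟨s₀, a⟩, rfl⟩ := (Scheme.SpecToEquivOfField Ω X).symm.surjective s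
  obtain rfl : g t = s₀ := by simp [ht, Scheme.SpecToEquivOfField]
  have hsurj : Function.Surjective (g.residueFieldMap t).hom := by
    intro y
    obtain ⟨b, rfl⟩ := T.residue_surjective t y
    obtain ⟨c, rfl⟩ := g.stalkMap_surjective t b
    refine ⟨X.residue (g t) c, ?_⟩
    have := congrArg (fun φ => φ.hom c) (Scheme.residue_residueFieldMap g t)
    exact this
  have hbij : Function.Bijective (g.residueFieldMap t).hom :=
    ⟨RingHom.injective _, hsurj⟩
  let eq : X.residueField (g t) ≃+* T.residueField t := RingEquiv.ofBijective _ hbij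
  let b : T.residueField t →+* Ω := a.hom.comp eq.symm.toRingHom
  have hb : g.residueFieldMap t ≫ CommRingCat.ofHom b = a := by
    ext z
    change a.hom (eq.symm (eq z)) = a.hom z
    rw [RingEquiv.symm_apply_apply]
  refine ⟨Spec.map (CommRingCat.ofHom b) ≫ T.fromSpecResidueField t, ?_⟩
  simp [Scheme.SpecToEquivOfField, ← hb]
  rfl

/-- the stalk of an inverse image -/
noncomputable def stalkPullIso {T X : Scheme.{u}} (g : T ⟶ X) (F : EtCoh.Ab X)
    {Ω : Type u} [Field Ω] [IsSepClosed Ω] (ξ : Spec (CommRingCat.of Ω) ⟶ T) :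
    (EtCoh.stalk (ξ ≫ g)).obj F ≅ (EtCoh.stalk ξ).obj ((EtCoh.pull g).obj F) :=
  { hom := PullStalk.pullStalkMap g F ξ
    inv := PullStalk.pullStalkInv g F ξ
    hom_inv_id := PullStalk.pullStalkMap_inv g F ξ
    inv_hom_id := PullStalk.pullStalkInv_map g F ξ }

/-- the support of the inverse image along a preimmersion is the preimage of the support -/
theorem supp_pull {T X : Scheme.{u}} (g : T ⟶ X) [IsPreimmersion g] (F : EtCoh.Ab X) :
    EtPBC.supp ((EtCoh.pull g).obj F) = g ⁻¹' EtPBC.supp F := by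
  ext t
  rw [Set.mem_preimage, mem_supp_iff, mem_supp_iff]
  constructor
  · rintro ⟨Ω, _, _, ξ, hξ, hnz⟩
    refine ⟨Ω, inferInstance, inferInstance, ξ ≫ g, ?_, fun hz => hnz ?_⟩
    · rw [← hξ]
      rfl
    · exact IsZero.of_iso hz (stalkPullIso g F ξ).symm
  · rintro ⟨Ω, _, _, ξ', hξ', hnz⟩
    obtain ⟨l, rfl⟩ := exists_fac_of_isPreimmersion g ξ' t hξ'.symm
    refine ⟨Ω, inferInstance, inferInstance, l, ?_, fun hz => hnz ?_⟩
    · have hinj : Function.Injective g := (Scheme.Hom.isEmbedding g).injective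
      apply hinj
      rw [← hξ']
      rfl
    · exact IsZero.of_iso hz (stalkPullIso g F l)

lemma IsClopen.isConstructible' {Y : Type*} [TopologicalSpace Y] {C : Set Y} (hC : IsClopen C) :
    IsConstructible C :=
  IsRetrocompact.isConstructible hC.2 (fun _ hU _ => hU.inter_left hC.1)

/-- On a subset carrying a stratification adapted to `F`, the support of `F` is constructible. -/
theorem isConstructible_supp_of_strata {X : Scheme.{u}} (F : EtCoh.Ab X) (S : Set X)
    [PrespectralSpace S] (h : Strata (P F) S) :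
    IsConstructible ((Subtype.val : S → X) ⁻¹' EtPBC.supp F) := by
  obtain ⟨n, T, g, h1, h2, h3, h4, h5⟩ := h
  have := h1
  have hmem : ∀ (i : Fin n) (t : T i), (g i) t ∈ S := fun i t =>
    h4 ▸ Set.mem_iUnion.2 ⟨i, ⟨t, rfl⟩⟩
  let gt : ∀ i, T i → S := fun i t => ⟨(g i) t, hmem i t⟩
  have hgt : ∀ i, IsEmbedding (gt i) := fun i =>
    (Scheme.Hom.isEmbedding (g i)).codRestrict S (hmem i)
  have hrange : ∀ i, Set.range (gt i) = (Subtype.val : S → X) ⁻¹' Set.range (g i) := by
    intro i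
    ext x
    constructor
    · rintro ⟨t, rfl⟩
      exact ⟨t, rfl⟩
    · rintro ⟨t, ht⟩
      exact ⟨t, Subtype.ext ht⟩
  let C : ∀ i, Set (T i) := fun i => EtPBC.supp ((EtCoh.pull (g i)).obj F)
  have hC : ∀ i, IsClopen (C i) := fun i => isClopen_supp_of_isFLC _ (h5 i)
  have hCeq : ∀ i, C i = (g i) ⁻¹' EtPBC.supp F := fun i => supp_pull (g i) F
  have hunion : (Subtype.val : S → X) ⁻¹' EtPBC.supp F = ⋃ i, (gt i) '' (C i) := by
    ext x
    constructor
    · intro hx
      have hxS : (x : X) ∈ ⋃ i, Set.range (g i) := h4 ▸ x.2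
      obtain ⟨i, t, ht⟩ := Set.mem_iUnion.1 hxS
      refine Set.mem_iUnion.2 ⟨i, t, ?_, Subtype.ext ht⟩
      rw [hCeq]
      change (g i) t ∈ EtPBC.supp F
      rw [ht]
      exact hx
    · intro hx
      obtain ⟨i, t, ht, rfl⟩ := Set.mem_iUnion.1 hx
      rw [hCeq] at ht
      exact ht
  rw [hunion]
  refine IsConstructible.iUnion (fun i => ?_)
  exact ConstrCover.isConstructible_image_of_isEmbedding (hgt i) (by rw [hrange]; exact h2 i)
    (IsClopen.isConstructible' (hC i))

end Groth.Agent.Lib.Helper43.EtSupp
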