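import Mathlib
import Groth.Prelude
import Groth.Agent.Lib.Helper43.EtSupp
import Groth.Agent.Lib.Helper43.EtConstrSerre
import Groth.Agent.Lib.Helper43.EtFLCLocal

/-!
# Stalks of constructible sheaves; finite direct sums of constructible sheaves
-/

set_option autoImplicit false
universe u
open CategoryTheory CategoryTheory.Limits AlgebraicGeometry Opposite Topology

namespace Groth.Agent.Lib.Helper43.EtConstrStalk

open Groth.Agent.Lib.Helper43 Groth.Agent.Lib.Helper43.EtSupp Groth.Agent.Lib.Helper43.EtConstr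
  Groth.Agent.Lib.Helper43.EtConstrSerre

variable {X : Scheme.{u}}

/-- all geometric stalks of a constructible sheaf at points over `x` are isomorphic to one finite
group -/
theorem exists_stalk_model (F : EtCoh.Ab X) (hF : EtPBC.IsConstructible F) (x : X) :
    ∃ (N : AddCommGrpCat.{u + 1}) (_ : Finite N), ∀ (Ω : Type u) [Field Ω] [IsSepClosed Ω]
      (ξ : Spec (CommRingCat.of Ω) ⟶ X), ξ default = x → Nonempty ((EtCoh.stalk ξ).obj F ≅ N) := by
  obtain ⟨W, hW, hxW, -⟩ := exists_affine_nhd_le (⊤ : X.Opens) x trivial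
  obtain ⟨n, T, g, h1, h2, h3, h4, h5⟩ := hF W hW
  have hx : x ∈ ⋃ i, Set.range (g i) := by rw [h4]; exact hxW
  obtain ⟨k, t, ht⟩ := Set.mem_iUnion.1 hx
  obtain ⟨ι, U, hcov, hU⟩ := h5 k
  obtain ⟨i, y, hy⟩ := hcov t
  obtain ⟨M, iM, fM, ⟨α⟩⟩ := hU i
  have := h1 k
  refine ⟨AddCommGrpCat.of (ULift.{u + 1} M), inferInstanceAs (Finite (ULift.{u + 1} M)), ?_⟩
  intro Ω _ _ ξ hξ
  obtain ⟨l, rfl⟩ := exists_fac_of_isPreimmersion (g k) ξ t (ht.trans hξ.symm)
  have hl : l default = t := by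
    have hinj : Function.Injective (g k) := (Scheme.Hom.isEmbedding (g k)).injective
    apply hinj
    rw [ht, ← hξ]
    rfl
  obtain ⟨e⟩ := stalk_iso_of_triv ((EtCoh.pull (g k)).obj F) (U i) _ α l y (hy.trans hl.symm)
  exact ⟨stalkPullIso (g k) F l ≪≫ e⟩

theorem finite_stalk (F : EtCoh.Ab X) (hF : EtPBC.IsConstructible F)
    {Ω : Type u} [Field Ω] [IsSepClosed Ω] (ξ : Spec (CommRingCat.of Ω) ⟶ X) :
    Finite ((EtCoh.stalk ξ).obj F) := by
  obtain ⟨N, hN, h⟩ := exists_stalk_model F hF (ξ default)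
  obtain ⟨e⟩ := h Ω ξ rfl
  exact Finite.of_equiv N e.symm.addCommGroupIsoToAddEquiv.toEquiv

/-- a constructible sheaf with one vanishing geometric stalk over `x` does not have `x` in its
support -/
theorem not_mem_supp_of_isZero_stalk (F : EtCoh.Ab X) (hF : EtPBC.IsConstructible F)
    {Ω : Type u} [Field Ω] [IsSepClosed Ω] (ξ : Spec (CommRingCat.of Ω) ⟶ X)
    (hz : IsZero ((EtCoh.stalk ξ).obj F)) : ξ default ∉ EtPBC.supp F := by
  obtain ⟨N, hN, h⟩ := exists_stalk_model F hF (ξ default)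
  obtain ⟨e⟩ := h Ω ξ rfl
  have hN0 : IsZero N := IsZero.of_iso hz e.symm
  rw [mem_supp_iff]
  rintro ⟨Ω', _, _, ξ', hξ', hnz⟩
  obtain ⟨e'⟩ := h Ω' ξ' hξ'
  exact hnz (IsZero.of_iso hN0 e')

/-- a finite direct sum of constructible sheaves is constructible -/
theorem constructible_biproduct_fin : ∀ (n : ℕ) (A : Fin n → EtCoh.Ab X),
    (∀ j, EtPBC.IsConstructible (A j)) → EtPBC.IsConstructible (⨁ A)
  | 0, A, _ => by
    have hz : IsZero (⨁ A) := by
      rw [IsZero.iff_id_eq_zero]
      apply biproduct.hom_ext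
      intro j
      exact j.elim0
    intro W hW
    refine ⟨1, fun _ => W.toScheme, fun _ => W.ι, fun _ => inferInstance, fun _ => ?_, ?_, ?_,
      fun _ _ => ?_⟩
    · rw [Scheme.Opens.range_ι]
      have : (Subtype.val : ↥(W : Set X) → X) ⁻¹' (W : Set X) = Set.univ := by
        ext z
        simp [z.2]
      rw [this]
      exact IsConstructible.univ
    · intro a b hab
      exact (hab (Subsingleton.elim a b)).elim
    · rw [Set.iUnion_const, Scheme.Opens.range_ι]
    · exact EtFLCLocal.isFLC_of_isZero _ (Functor.map_isZero _ hz)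
  | n + 1, A, h =>
    constructible_extension (EtFLCLocal.BiprodFin.sc A) (EtFLCLocal.BiprodFin.shortExact A) (h 0)
      (constructible_biproduct_fin n (fun j => A j.succ) (fun j => h j.succ))

theorem constructible_of_iso {F G : EtCoh.Ab X} (e : F ≅ G)
    (h : EtPBC.IsConstructible F) : EtPBC.IsConstructible G := by
  intro W hW
  obtain ⟨n, T, g, h1, h2, h3, h4, h5⟩ := h W hW
  exact ⟨n, T, g, h1, h2, h3, h4, fun i _ =>
    EtConstr.isFLC_of_iso ((EtCoh.pull (g i)).mapIso e) (h5 i)⟩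

/-- a finite direct sum of constructible sheaves is constructible -/
theorem constructible_biproduct {ι : Type*} [Finite ι] (A : ι → EtCoh.Ab X)
    (h : ∀ j, EtPBC.IsConstructible (A j)) : EtPBC.IsConstructible (⨁ A) := by
  obtain ⟨n, ⟨e⟩⟩ := Finite.exists_equiv_fin ι
  have h1 := constructible_biproduct_fin n (fun k => A (e.symm k)) (fun k => h _)
  exact constructible_of_iso
    (biproduct.whiskerEquiv e.symm (fun k => Iso.refl _) : (⨁ fun k => A (e.symm k)) ≅ ⨁ A) h1

end Groth.Agent.Lib.Helper43.EtConstrStalk
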