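import Mathlib
import Groth.Prelude.Def_EtBase
import Groth.Prelude.Def_EtShriek2

set_option autoImplicit false
universe u
open CategoryTheory CategoryTheory.Limits AlgebraicGeometry Opposite

namespace Groth.Agent.Lib.Helper43.ShriekStalk

section Helpers

variable {U X : Scheme.{u}} (j : U ⟶ X) [AlgebraicGeometry.Etale j]
  {Ω : Type u} [Field Ω] [IsSepClosed Ω] (ξ : Spec (CommRingCat.of Ω) ⟶ X)

/-- lifts of the geometric point `ξ` to `U` -/
abbrev Lifts : Type u := {u : Spec (CommRingCat.of Ω) ⟶ U // u ≫ j = ξ}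

variable {j ξ}

/-- the point of `U` attached to a lift -/
noncomputable abbrev Ψ (u : Lifts j ξ) : U.smallEtaleTopology.Point :=
  Scheme.pointSmallEtale u.1

variable (ξ) in
/-- the point of `X` -/
noncomputable abbrev Φ : X.smallEtaleTopology.Point := Scheme.pointSmallEtale ξ

/-- transfer a point of `V` over `u` to a point of `jV` over `ξ` -/
noncomputable def tr (u : Lifts j ξ) (V : U.Etale) (y : (Ψ u).fiber.obj V) :
    (Φ ξ).fiber.obj ((EtShriek.compEtale j).obj V) :=
  Over.homMk y.left (by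
    have := Over.w y
    dsimp at this ⊢
    rw [← Category.assoc, this, u.2])

/-- the lift determined by a point of `jV` over `ξ` -/
noncomputable def lu (V : U.Etale) (z : (Φ ξ).fiber.obj ((EtShriek.compEtale j).obj V)) :
    Lifts j ξ :=
  ⟨z.left ≫ V.hom, by
    have := Over.w z
    dsimp at this ⊢
    rw [Category.assoc, this]⟩

/-- the point of `V` determined by a point of `jV` over `ξ` -/
noncomputable def ly (V : U.Etale) (z : (Φ ξ).fiber.obj ((EtShriek.compEtale j).obj V)) :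
    (Ψ (lu V z)).fiber.obj V :=
  Over.homMk z.left rfl

lemma tr_ly (V : U.Etale) (z : (Φ ξ).fiber.obj ((EtShriek.compEtale j).obj V)) :
    tr (lu V z) V (ly V z) = z :=
  Over.OverMorphism.ext rfl

lemma tr_map (u : Lifts j ξ) {V₁ V₂ : U.Etale} (f : V₁ ⟶ V₂) (y : (Ψ u).fiber.obj V₁) :
    (Φ ξ).fiber.map ((EtShriek.compEtale j).map f) (tr u V₁ y) = tr u V₂ ((Ψ u).fiber.map f y) :=
  Over.OverMorphism.ext rfl

omit [AlgebraicGeometry.Etale j] in
lemma transport {P : U.Etaleᵒᵖ ⥤ AddCommGrpCat.{u + 1}} {u u' : Lifts j ξ} (h : u = u')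
    (V : U.Etale) (y : (Ψ u).fiber.obj V) (y' : (Ψ u').fiber.obj V) (hy : y.left = y'.left) :
    (Ψ u).toPresheafFiber V y P ≫
        Sigma.ι (fun u : Lifts j ξ => (Ψ u).presheafFiber.obj P) u =
      (Ψ u').toPresheafFiber V y' P ≫
        Sigma.ι (fun u : Lifts j ξ => (Ψ u).presheafFiber.obj P) u' := by
  subst h
  obtain rfl : y = y' := Over.OverMorphism.ext hy
  rfl

variable [EtShriek.JCont j] (F : EtCoh.Ab U)

variable (j) in
/-- the unit of `j_! ⊣ j^*` at `F` -/
noncomputable abbrev η : F ⟶ (EtShriek.restrAlong j).obj ((EtShriek.extZero j).obj F) :=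
  (EtShriek.extZeroAdj j).unit.app F

variable (j ξ) in
/-- the comparison map `⊕_u F_u ⟶ (j_! F)_ξ` -/
noncomputable def fwd : (∐ fun u : Lifts j ξ => (Ψ u).presheafFiber.obj F.obj) ⟶
    (Φ ξ).presheafFiber.obj ((EtShriek.extZero j).obj F).obj :=
  Sigma.desc fun u => (Ψ u).presheafFiberDesc
    (fun V y => (η j F).hom.app (op V) ≫
      (Φ ξ).toPresheafFiber ((EtShriek.compEtale j).obj V) (tr u V y)
        ((EtShriek.extZero j).obj F).obj)
    (by
      intro V₁ V₂ f y
      have h1 := (η j F).hom.naturality f.op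
      rw [← tr_map, ← (Φ ξ).toPresheafFiber_w ((EtShriek.compEtale j).map f)]
      rw [← Category.assoc, h1, Category.assoc]
      rfl)

variable (j) in
lemma homEquiv_app (G : EtCoh.Ab X) (k : (EtShriek.extZero j).obj F ⟶ G) (V : U.Etale) :
    (((EtShriek.extZeroAdj j).homEquiv F G) k).hom.app (op V) =
      (η j F).hom.app (op V) ≫ k.hom.app (op ((EtShriek.compEtale j).obj V)) := by
  rw [Adjunction.homEquiv_unit]
  rfl

variable (j ξ) in
/-- maps out of `(j_! F)_ξ` are determined on the images of `F(V)` -/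
lemma shriekFiber_hom_ext {M : AddCommGrpCat.{u + 1}}
    {g g' : (Φ ξ).presheafFiber.obj ((EtShriek.extZero j).obj F).obj ⟶ M}
    (h : ∀ (V : U.Etale) (z : (Φ ξ).fiber.obj ((EtShriek.compEtale j).obj V)),
      (η j F).hom.app (op V) ≫ (Φ ξ).toPresheafFiber ((EtShriek.compEtale j).obj V) z
        ((EtShriek.extZero j).obj F).obj ≫ g =
      (η j F).hom.app (op V) ≫ (Φ ξ).toPresheafFiber ((EtShriek.compEtale j).obj V) z
        ((EtShriek.extZero j).obj F).obj ≫ g') : g = g' := by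
  let e₁ := (Φ ξ).skyscraperSheafAdjunction.homEquiv ((EtShriek.extZero j).obj F) M
  let e₂ := (EtShriek.extZeroAdj j).homEquiv F ((Φ ξ).skyscraperSheafFunctor.obj M)
  apply e₁.injective
  apply e₂.injective
  ext V : 3
  induction V using Opposite.rec with | op V => ?_
  rw [homEquiv_app, homEquiv_app]
  refine Pi.hom_ext _ _ (fun z => ?_)
  have h1 : ∀ g₀ : (Φ ξ).presheafFiber.obj ((EtShriek.extZero j).obj F).obj ⟶ M,
      (e₁ g₀).hom.app (op ((EtShriek.compEtale j).obj V)) ≫
        Pi.π (fun _ : (Φ ξ).fiber.obj ((EtShriek.compEtale j).obj V) => M) z =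
      (Φ ξ).toPresheafFiber ((EtShriek.compEtale j).obj V) z
        ((EtShriek.extZero j).obj F).obj ≫ g₀ := by
    intro g₀
    have := (Φ ξ).skyscraperSheafAdjunction_homEquiv_apply_hom (F := (EtShriek.extZero j).obj F) g₀
    rw [show (e₁ g₀).hom = _ from this]
    exact (Φ ξ).skyscraperPresheafHomEquiv_app_π g₀ _ z
  have key : ∀ g₀ : (Φ ξ).presheafFiber.obj ((EtShriek.extZero j).obj F).obj ⟶ M,
      ((η j F).hom.app (op V) ≫ (e₁ g₀).hom.app (op ((EtShriek.compEtale j).obj V))) ≫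
        Pi.π (fun _ : (Φ ξ).fiber.obj ((EtShriek.compEtale j).obj V) => M) z =
      (η j F).hom.app (op V) ≫ (Φ ξ).toPresheafFiber ((EtShriek.compEtale j).obj V) z
        ((EtShriek.extZero j).obj F).obj ≫ g₀ := fun g₀ =>
    (Category.assoc _ _ _).trans (congrArg (fun t => (η j F).hom.app (op V) ≫ t) (h1 g₀))
  exact (key g).trans ((h V z).trans (key g').symm)

section Desc

variable {M : AddCommGrpCat.{u + 1}}
  (φ : ∀ (V : U.Etale) (_ : (Φ ξ).fiber.obj ((EtShriek.compEtale j).obj V)), F.obj.obj (op V) ⟶ M)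
  (hφ : ∀ ⦃V₁ V₂ : U.Etale⦄ (f : V₁ ⟶ V₂) (z : (Φ ξ).fiber.obj ((EtShriek.compEtale j).obj V₁)),
    F.obj.map f.op ≫ φ V₁ z = φ V₂ ((Φ ξ).fiber.map ((EtShriek.compEtale j).map f) z))

variable (j ξ) in
/-- the morphism of sheaves `F ⟶ j^* Sky_ξ M` attached to a compatible family -/
noncomputable def descSheafHom :
    F ⟶ (EtShriek.restrAlong j).obj ((Φ ξ).skyscraperSheafFunctor.obj M) :=
  ⟨{ app := fun V => Pi.lift (fun z => φ V.unop z)
     naturality := by
      intro V₂ V₁ f
      induction V₁ using Opposite.rec with | op V₁ => ?_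
      induction V₂ using Opposite.rec with | op V₂ => ?_
      obtain ⟨f, rfl⟩ : ∃ f' : V₁ ⟶ V₂, f = f'.op := ⟨f.unop, rfl⟩
      refine Pi.hom_ext _ _ (fun z => ?_)
      have h2 : ((EtShriek.restrAlong j).obj ((Φ ξ).skyscraperSheafFunctor.obj M)).obj.map f.op ≫
          Pi.π (fun _ : (Φ ξ).fiber.obj ((EtShriek.compEtale j).obj V₁) => M) z =
          Pi.π (fun _ : (Φ ξ).fiber.obj ((EtShriek.compEtale j).obj V₂) => M)
            ((Φ ξ).fiber.map ((EtShriek.compEtale j).map f) z) := by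
        change ((Φ ξ).skyscraperPresheafFunctor.obj M).map ((EtShriek.compEtale j).map f).op ≫ _ = _
        rw [(Φ ξ).skyscraperPresheafFunctor_obj_map]
        exact (Pi.map'_comp_π _ _ z).trans (Category.comp_id _)
      have h3 : (F.obj.map f.op ≫ Pi.lift fun z => φ V₁ z) ≫
          Pi.π (fun _ : (Φ ξ).fiber.obj ((EtShriek.compEtale j).obj V₁) => M) z =
          F.obj.map f.op ≫ φ V₁ z :=
        (Category.assoc _ _ _).trans (congrArg (fun t => F.obj.map f.op ≫ t) (Pi.lift_π _ _))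
      have h4 : (Pi.lift fun z => φ V₂ z) ≫
          Pi.π (fun _ : (Φ ξ).fiber.obj ((EtShriek.compEtale j).obj V₂) => M)
            ((Φ ξ).fiber.map ((EtShriek.compEtale j).map f) z) =
          φ V₂ ((Φ ξ).fiber.map ((EtShriek.compEtale j).map f) z) := Pi.lift_π _ _
      exact h3.trans ((hφ f z).trans (h4.symm.trans
        ((congrArg (fun t => (Pi.lift fun z => φ V₂ z) ≫ t) h2.symm).trans
          (Category.assoc _ _ _).symm))) }⟩

variable (j ξ) in
/-- the morphism `(j_! F)_ξ ⟶ M` attached to a compatible family -/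
noncomputable def shriekFiberDesc :
    (Φ ξ).presheafFiber.obj ((EtShriek.extZero j).obj F).obj ⟶ M :=
  ((Φ ξ).skyscraperSheafAdjunction.homEquiv ((EtShriek.extZero j).obj F) M).symm
    (((EtShriek.extZeroAdj j).homEquiv F ((Φ ξ).skyscraperSheafFunctor.obj M)).symm
      (descSheafHom j ξ F φ hφ))

lemma η_toFiber_desc (V : U.Etale) (z : (Φ ξ).fiber.obj ((EtShriek.compEtale j).obj V)) :
    (η j F).hom.app (op V) ≫ (Φ ξ).toPresheafFiber ((EtShriek.compEtale j).obj V) z
      ((EtShriek.extZero j).obj F).obj ≫ shriekFiberDesc j ξ F φ hφ = φ V z := by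
  let e₁ := (Φ ξ).skyscraperSheafAdjunction.homEquiv ((EtShriek.extZero j).obj F) M
  let e₂ := (EtShriek.extZeroAdj j).homEquiv F ((Φ ξ).skyscraperSheafFunctor.obj M)
  let k := e₂.symm (descSheafHom j ξ F φ hφ)
  have h1 : (Φ ξ).toPresheafFiber ((EtShriek.compEtale j).obj V) z
      ((EtShriek.extZero j).obj F).obj ≫ shriekFiberDesc j ξ F φ hφ =
      k.hom.app (op ((EtShriek.compEtale j).obj V)) ≫
        Pi.π (fun _ : (Φ ξ).fiber.obj ((EtShriek.compEtale j).obj V) => M) z := by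
    have := (Φ ξ).skyscraperSheafAdjunction_homEquiv_symm_apply (F := (EtShriek.extZero j).obj F) k
    change _ ≫ e₁.symm k = _
    rw [show e₁.symm k = _ from this]
    exact (Φ ξ).toPresheafFiber_skyscraperPresheafHomEquiv_symm k.hom _ z
  have h2 : (η j F).hom.app (op V) ≫ k.hom.app (op ((EtShriek.compEtale j).obj V)) =
      (descSheafHom j ξ F φ hφ).hom.app (op V) := by
    rw [← homEquiv_app]
    change (e₂ (e₂.symm _)).hom.app _ = _
    rw [Equiv.apply_symm_apply]
  have h3 : (descSheafHom j ξ F φ hφ).hom.app (op V) ≫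
      Pi.π (fun _ : (Φ ξ).fiber.obj ((EtShriek.compEtale j).obj V) => M) z = φ V z :=
    Pi.lift_π _ _
  exact (congrArg (fun t => (η j F).hom.app (op V) ≫ t) h1).trans
    ((Category.assoc _ _ _).symm.trans
      ((congrArg (fun t => t ≫ Pi.π (fun _ : (Φ ξ).fiber.obj ((EtShriek.compEtale j).obj V) => M) z)
        h2).trans h3))

end Desc

variable (j ξ) in
/-- the inverse comparison map `(j_! F)_ξ ⟶ ⊕_u F_u` -/
noncomputable def bwd : (Φ ξ).presheafFiber.obj ((EtShriek.extZero j).obj F).obj ⟶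
    (∐ fun u : Lifts j ξ => (Ψ u).presheafFiber.obj F.obj) :=
  shriekFiberDesc j ξ F
    (fun V z => (Ψ (lu V z)).toPresheafFiber V (ly V z) F.obj ≫
      Sigma.ι (fun u : Lifts j ξ => (Ψ u).presheafFiber.obj F.obj) (lu V z))
    (by
      intro V₁ V₂ f z
      rw [← Category.assoc, (Ψ (lu V₁ z)).toPresheafFiber_w f (ly V₁ z) F.obj]
      refine transport ?_ V₂ _ _ ?_
      · apply Subtype.ext
        have := MorphismProperty.Over.w f
        change z.left ≫ V₁.hom = (z.left ≫ f.left) ≫ V₂.hom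
        exact (congrArg (fun t => z.left ≫ t) this.symm).trans (Category.assoc _ _ _).symm
      · rfl)

lemma toFiber_ι_fwd (u : Lifts j ξ) (V : U.Etale) (y : (Ψ u).fiber.obj V) :
    (Ψ u).toPresheafFiber V y F.obj ≫
      Sigma.ι (fun u : Lifts j ξ => (Ψ u).presheafFiber.obj F.obj) u ≫ fwd j ξ F =
    (η j F).hom.app (op V) ≫ (Φ ξ).toPresheafFiber ((EtShriek.compEtale j).obj V) (tr u V y)
      ((EtShriek.extZero j).obj F).obj := by
  unfold fwd
  rw [Sigma.ι_desc]
  exact (Ψ u).toPresheafFiber_presheafFiberDesc _ _ V y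

lemma η_toFiber_bwd (V : U.Etale) (z : (Φ ξ).fiber.obj ((EtShriek.compEtale j).obj V)) :
    (η j F).hom.app (op V) ≫ (Φ ξ).toPresheafFiber ((EtShriek.compEtale j).obj V) z
      ((EtShriek.extZero j).obj F).obj ≫ bwd j ξ F =
    (Ψ (lu V z)).toPresheafFiber V (ly V z) F.obj ≫
      Sigma.ι (fun u : Lifts j ξ => (Ψ u).presheafFiber.obj F.obj) (lu V z) :=
  η_toFiber_desc F _ _ V z

lemma fwd_bwd : fwd j ξ F ≫ bwd j ξ F = 𝟙 _ := by
  refine Sigma.hom_ext _ _ (fun u => ?_)
  refine (Ψ u).presheafFiber_hom_ext (fun V y => ?_)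
  rw [Category.comp_id]
  have h1 := toFiber_ι_fwd F u V y
  have h2 := η_toFiber_bwd F V (tr u V y)
  calc _ = ((Ψ u).toPresheafFiber V y F.obj ≫
      Sigma.ι (fun u : Lifts j ξ => (Ψ u).presheafFiber.obj F.obj) u ≫ fwd j ξ F) ≫ bwd j ξ F := by
        simp only [Category.assoc]
    _ = _ := by
      rw [h1, Category.assoc, h2]
      refine transport ?_ V _ _ ?_
      · apply Subtype.ext
        exact Over.w y
      · rfl

lemma bwd_fwd : bwd j ξ F ≫ fwd j ξ F = 𝟙 _ := by
  refine shriekFiber_hom_ext j ξ F (fun V z => ?_)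
  rw [Category.comp_id]
  have h1 := η_toFiber_bwd F V z
  have h2 := toFiber_ι_fwd F (lu V z) V (ly V z)
  rw [tr_ly] at h2
  calc _ = ((η j F).hom.app (op V) ≫ (Φ ξ).toPresheafFiber ((EtShriek.compEtale j).obj V) z
      ((EtShriek.extZero j).obj F).obj ≫ bwd j ξ F) ≫ fwd j ξ F := by
        simp only [Category.assoc]
    _ = _ := by rw [h1, Category.assoc, h2]

variable (j ξ) in
/-- the stalk of `j_! F` at `ξ` is the direct sum of the stalks of `F` at the lifts of `ξ` -/
noncomputable def stalkShriekIso : (Φ ξ).presheafFiber.obj ((EtShriek.extZero j).obj F).obj ≅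
    ∐ fun u : Lifts j ξ => (Ψ u).presheafFiber.obj F.obj where
  hom := bwd j ξ F
  inv := fwd j ξ F
  hom_inv_id := bwd_fwd F
  inv_hom_id := fwd_bwd F

end Helpers

end Groth.Agent.Lib.Helper43.ShriekStalk
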