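import Mathlib
import Groth.Prelude.Def_EtBase
import Groth.Prelude.Def_EtShriek2
import Groth.Agent.Lib.Helper43.EtStalk
import Groth.Agent.Lib.Helper43.ShriekStalk

/-!
# Stalks of the restriction `j^* G` along an étale `j`, and the stalk of the counit `j_! j^* G ⟶ G`
-/

set_option autoImplicit false
universe u
open CategoryTheory CategoryTheory.Limits AlgebraicGeometry Opposite

namespace Groth.Agent.Lib.Helper43.ShriekStalk

open Groth.Agent.Lib.Helper43.EtStalk

section Helpers

variable {U X : Scheme.{u}} {j : U ⟶ X} [AlgebraicGeometry.Etale j]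
  {Ω : Type u} [Field Ω] [IsSepClosed Ω] {ξ : Spec (CommRingCat.of Ω) ⟶ X}
  [EtShriek.JCont j] (G : EtCoh.Ab X)

/-- the canonical map `(j^* G)_u ⟶ G_ξ` -/
noncomputable def restrStalkMap (u : Lifts j ξ) :
    (Ψ u).presheafFiber.obj ((EtShriek.restrAlong j).obj G).obj ⟶ (Φ ξ).presheafFiber.obj G.obj :=
  (Ψ u).presheafFiberDesc
    (fun V y => (Φ ξ).toPresheafFiber ((EtShriek.compEtale j).obj V) (tr u V y) G.obj)
    (by
      intro V₁ V₂ f y
      rw [← tr_map, ← (Φ ξ).toPresheafFiber_w ((EtShriek.compEtale j).map f)]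
      rfl)

lemma toFiber_restrStalkMap (u : Lifts j ξ) (V : U.Etale) (y : (Ψ u).fiber.obj V) :
    (Ψ u).toPresheafFiber V y ((EtShriek.restrAlong j).obj G).obj ≫ restrStalkMap G u =
      (Φ ξ).toPresheafFiber ((EtShriek.compEtale j).obj V) (tr u V y) G.obj :=
  (Ψ u).toPresheafFiber_presheafFiberDesc _ _ V y

lemma toFiber_restrStalkMap_apply (u : Lifts j ξ) (V : U.Etale) (y : (Ψ u).fiber.obj V)
    (s : G.obj.obj (op ((EtShriek.compEtale j).obj V))) :
    restrStalkMap G u ((Ψ u).toPresheafFiber V y ((EtShriek.restrAlong j).obj G).obj s) =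
      (Φ ξ).toPresheafFiber ((EtShriek.compEtale j).obj V) (tr u V y) G.obj s := by
  have := toFiber_restrStalkMap G u V y
  exact congrArg (fun t => t.hom s) this

lemma restrStalkMap_surjective (u : Lifts j ξ) : Function.Surjective (restrStalkMap G u) := by
  intro a
  obtain ⟨W, z, s, rfl⟩ := (Φ ξ).toPresheafFiber_jointly_surjective (P := G.obj) a
  let V : U.Etale := (EtCoh.bc j).obj W
  have hV : V.hom = pullback.snd W.hom j := rfl
  let pr : (EtShriek.compEtale j).obj V ⟶ W :=
    MorphismProperty.Over.homMk (pullback.fst W.hom j) (by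
      change pullback.fst W.hom j ≫ W.hom = pullback.snd W.hom j ≫ j
      exact pullback.condition)
  have hzw : z.left ≫ W.hom = u.1 ≫ j := by
    have := Over.w z
    dsimp at this
    rw [u.2]
    exact this
  let y : (Ψ u).fiber.obj V := Over.homMk (pullback.lift z.left u.1 hzw) (pullback.lift_snd _ _ _)
  have hz : (Φ ξ).fiber.map pr (tr u V y) = z := Over.OverMorphism.ext (pullback.lift_fst _ _ _)
  refine ⟨(Ψ u).toPresheafFiber V y ((EtShriek.restrAlong j).obj G).obj (G.obj.map pr.op s), ?_⟩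
  rw [toFiber_restrStalkMap_apply]
  rw [(Φ ξ).toPresheafFiber_w_apply pr, hz]

lemma restrStalkMap_injective (u : Lifts j ξ) : Function.Injective (restrStalkMap G u) := by
  intro b₁ b₂ hb
  obtain ⟨V, y, s₁, s₂, rfl, rfl⟩ := (Ψ u).toPresheafFiber_jointly_surjective₂
    (P := ((EtShriek.restrAlong j).obj G).obj) b₁ b₂
  rw [toFiber_restrStalkMap_apply, toFiber_restrStalkMap_apply] at hb
  obtain ⟨W', g, z', hz', hs⟩ := ((Φ ξ).toPresheafFiber_eq_iff' _ _ _ _).1 hb
  -- the étale `U`-scheme underlying `W'`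
  have e : g.left ≫ V.hom ≫ j = W'.hom := MorphismProperty.Over.w g
  have hW : EtCoh.etaleMP ((g.left ≫ V.hom) ≫ j) := by
    rw [Category.assoc, e]; exact W'.prop
  let V' : U.Etale := MorphismProperty.Over.mk ⊤ (g.left ≫ V.hom)
    (EtCoh.etaleMP.of_postcomp (W' := EtCoh.etaleMP) (g.left ≫ V.hom) j ‹_› hW)
  let f' : V' ⟶ V := MorphismProperty.Over.homMk g.left rfl
  let ι : (EtShriek.compEtale j).obj V' ≅ W' := MorphismProperty.Over.isoMk (Iso.refl _)
    ((Category.id_comp W'.hom).trans (e.symm.trans (Category.assoc _ _ _).symm))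
  have hι : (EtShriek.compEtale j).map f' = ι.hom ≫ g :=
    MorphismProperty.Over.Hom.ext (Category.id_comp _).symm
  have hzl : z'.left ≫ g.left = y.left := congrArg (fun t => Over.Hom.left t) hz'
  let y' : (Ψ u).fiber.obj V' := Over.homMk z'.left (by
    change z'.left ≫ g.left ≫ V.hom = u.1
    rw [← Category.assoc, hzl]
    exact Over.w y)
  have hy' : (Ψ u).fiber.map f' y' = y := Over.OverMorphism.ext hzl
  rw [← hy', ← (Ψ u).toPresheafFiber_w_apply f' y', ← (Ψ u).toPresheafFiber_w_apply f' y']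
  congr 1
  change G.obj.map ((EtShriek.compEtale j).map f').op s₁ = G.obj.map ((EtShriek.compEtale j).map f').op s₂
  rw [hι, op_comp, G.obj.map_comp]
  exact congrArg (G.obj.map ι.hom.op) hs

variable (j) in
/-- the counit `j_! j^* G ⟶ G` -/
noncomputable abbrev ε : (EtShriek.extZero j).obj ((EtShriek.restrAlong j).obj G) ⟶ G :=
  (EtShriek.extZeroAdj j).counit.app G

lemma η_ε_app (V : U.Etale) :
    (η j ((EtShriek.restrAlong j).obj G)).hom.app (op V) ≫
      (ε j G).hom.app (op ((EtShriek.compEtale j).obj V)) = 𝟙 _ := by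
  have h := (EtShriek.extZeroAdj j).right_triangle_components G
  have h2 := congrArg (fun t => t.hom.app (op V)) h
  exact h2

lemma ι_fwd_counit (u : Lifts j ξ) :
    Sigma.ι (fun u : Lifts j ξ => (Ψ u).presheafFiber.obj ((EtShriek.restrAlong j).obj G).obj) u ≫
      fwd j ξ ((EtShriek.restrAlong j).obj G) ≫ (Φ ξ).presheafFiber.map (ε j G).hom =
    restrStalkMap G u := by
  refine (Ψ u).presheafFiber_hom_ext (fun V y => ?_)
  rw [toFiber_restrStalkMap]
  have h1 := toFiber_ι_fwd ((EtShriek.restrAlong j).obj G) u V y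
  have h2 := (Φ ξ).toPresheafFiber_naturality (ε j G).hom ((EtShriek.compEtale j).obj V) (tr u V y)
  have h3 := η_ε_app (j := j) G V
  calc _ = ((Ψ u).toPresheafFiber V y ((EtShriek.restrAlong j).obj G).obj ≫
      Sigma.ι (fun u : Lifts j ξ =>
        (Ψ u).presheafFiber.obj ((EtShriek.restrAlong j).obj G).obj) u ≫
      fwd j ξ ((EtShriek.restrAlong j).obj G)) ≫ (Φ ξ).presheafFiber.map (ε j G).hom := by
        simp only [Category.assoc]
    _ = ((η j ((EtShriek.restrAlong j).obj G)).hom.app (op V) ≫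
          (Φ ξ).toPresheafFiber ((EtShriek.compEtale j).obj V) (tr u V y)
            ((EtShriek.extZero j).obj ((EtShriek.restrAlong j).obj G)).obj) ≫
          (Φ ξ).presheafFiber.map (ε j G).hom := by rw [h1]
    _ = (η j ((EtShriek.restrAlong j).obj G)).hom.app (op V) ≫
          ((ε j G).hom.app (op ((EtShriek.compEtale j).obj V)) ≫
            (Φ ξ).toPresheafFiber ((EtShriek.compEtale j).obj V) (tr u V y) G.obj) :=
        (Category.assoc _ _ _).trans
          (congrArg (fun t => (η j ((EtShriek.restrAlong j).obj G)).hom.app (op V) ≫ t) h2)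
    _ = ((η j ((EtShriek.restrAlong j).obj G)).hom.app (op V) ≫
          (ε j G).hom.app (op ((EtShriek.compEtale j).obj V))) ≫
            (Φ ξ).toPresheafFiber ((EtShriek.compEtale j).obj V) (tr u V y) G.obj :=
        (Category.assoc _ _ _).symm
    _ = _ := by
      rw [h3]
      exact Category.id_comp _

instance isIso_restrStalkMap (u : Lifts j ξ) : IsIso (restrStalkMap G u) :=
  (ConcreteCategory.isIso_iff_bijective _).2 ⟨restrStalkMap_injective G u, restrStalkMap_surjective G u⟩

/-- if `ξ` does not lift to `U`, the stalk of `j_! F` at `ξ` vanishes -/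
lemma isZero_shriekFiber_of_isEmpty (F : EtCoh.Ab U) (h : IsEmpty (Lifts j ξ)) :
    IsZero ((Φ ξ).presheafFiber.obj ((EtShriek.extZero j).obj F).obj) := by
  rw [IsZero.iff_id_eq_zero]
  exact shriekFiber_hom_ext j ξ F (fun V z => (h.false (lu V z)).elim)

/-- if `ξ` has exactly one lift to `U`, the counit `j_! j^* G ⟶ G` is an isomorphism on stalks at `ξ` -/
lemma isIso_stalk_counit_of_unique [Unique (Lifts j ξ)] :
    IsIso ((Φ ξ).presheafFiber.map (ε j G).hom) := by
  let ι₀ := Sigma.ι (fun u : Lifts j ξ =>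
    (Ψ u).presheafFiber.obj ((EtShriek.restrAlong j).obj G).obj) default
  have h1 : IsIso ι₀ := by
    have : ι₀ = (coproductUniqueIso (fun u : Lifts j ξ =>
      (Ψ u).presheafFiber.obj ((EtShriek.restrAlong j).obj G).obj)).inv := rfl
    rw [this]
    infer_instance
  have h2 : IsIso (fwd j ξ ((EtShriek.restrAlong j).obj G)) :=
    ⟨⟨bwd j ξ _, fwd_bwd _, bwd_fwd _⟩⟩
  have h3 : (ι₀ ≫ fwd j ξ ((EtShriek.restrAlong j).obj G)) ≫
      (Φ ξ).presheafFiber.map (ε j G).hom = restrStalkMap G default :=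
    (Category.assoc _ _ _).trans (ι_fwd_counit G default)
  have h4 : (Φ ξ).presheafFiber.map (ε j G).hom =
      inv (ι₀ ≫ fwd j ξ ((EtShriek.restrAlong j).obj G)) ≫ restrStalkMap G default := by
    rw [IsIso.eq_inv_comp]
    exact h3
  rw [h4]
  infer_instance

omit [EtShriek.JCont j] [IsSepClosed Ω] in
/-- for a monomorphism `j`, lifts are unique -/
lemma subsingleton_lifts [Mono j] : Subsingleton (Lifts j ξ) :=
  ⟨fun u u' => Subtype.ext ((cancel_mono j).1 (u.2.trans u'.2.symm))⟩

omit [EtShriek.JCont j] [AlgebraicGeometry.Etale j] [IsSepClosed Ω] in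
variable (j ξ) in
/-- for an open immersion `j`, either `ξ` lifts to `U` or `ξ` lies in the complement -/
lemma lifts_nonempty_or [IsOpenImmersion j] :
    Nonempty (Lifts j ξ) ∨ Set.range ξ.base ⊆ (Set.range j.base)ᶜ := by
  by_cases h : ξ.base default ∈ Set.range j.base
  · left
    have hr : Set.range ξ.base ⊆ Set.range j.base := by
      rintro _ ⟨p, rfl⟩
      rwa [Subsingleton.elim p default]
    exact ⟨⟨IsOpenImmersion.lift j ξ hr, IsOpenImmersion.lift_fac j ξ hr⟩⟩
  · right
    rintro _ ⟨p, rfl⟩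
    rwa [Subsingleton.elim p default]

/-- for an open immersion `j`, the counit `j_! j^* G ⟶ G` is an isomorphism as soon as the stalks
of `G` vanish outside `U` -/
lemma isIso_counit_of_stalks_zero [IsOpenImmersion j]
    (hzero : ∀ (Ω : Type u) [Field Ω] [IsSepClosed Ω] (ξ : Spec (CommRingCat.of Ω) ⟶ X),
      Set.range ξ.base ⊆ (Set.range j.base)ᶜ → IsZero ((EtCoh.stalk ξ).obj G)) :
    IsIso (ε j G) := by
  have key : ∀ (Ω : Type u) [Field Ω] [IsSepClosed Ω] (ξ : Spec (CommRingCat.of Ω) ⟶ X),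
      IsIso (((Scheme.pointSmallEtale ξ).sheafFiber (A := AddCommGrpCat.{u + 1})).map (ε j G)) := by
    intro Ω _ _ ξ
    rcases lifts_nonempty_or j ξ with ⟨⟨u⟩⟩ | hξ
    · have : Unique (Lifts j ξ) := @Unique.mk' _ ⟨u⟩ subsingleton_lifts
      exact isIso_stalk_counit_of_unique G
    · have h1 : IsZero ((EtCoh.stalk ξ).obj G) := hzero Ω ξ hξ
      have h2 : IsZero ((Φ ξ).presheafFiber.obj
          ((EtShriek.extZero j).obj ((EtShriek.restrAlong j).obj G)).obj) :=
        isZero_shriekFiber_of_isEmpty _ ⟨fun u => by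
          have := hξ ⟨default, rfl⟩
          apply this
          rw [← u.2]
          exact ⟨u.1.base default, rfl⟩⟩
      exact ⟨⟨0, h2.eq_of_src _ _, h1.eq_of_src _ _⟩⟩
  have hm : Mono (ε j G) := mono_of_stalks_ab _ (fun Ω _ _ ξ =>
    haveI := key Ω ξ
    (ConcreteCategory.bijective_of_isIso _).1)
  have he : Epi (ε j G) := epi_of_stalks_ab _ (fun Ω _ _ ξ =>
    haveI := key Ω ξ
    (ConcreteCategory.bijective_of_isIso _).2)
  exact isIso_of_mono_of_epi _

end Helpers

end Groth.Agent.Lib.Helper43.ShriekStalk
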