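import Groth.Prelude.Def_PBC
import Groth.Prelude.Def_EtShriek2
import Mathlib
import Groth.Agent.Lib.Helper43.EtFLCLocal
import Groth.Agent.Lib.Helper43.RestrStalk
import Groth.Agent.Lib.Helper24.FiniteEtaleSplit
import Groth.Agent.S0649
import Groth.Agent.S0651

/-!
# Extension by zero along split and finite étale morphisms preserves finite locally constant sheaves
-/

set_option autoImplicit false
universe u
open CategoryTheory CategoryTheory.Limits AlgebraicGeometry Opposite

namespace Groth.Agent.Lib.Helper43.ExtZeroSplit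

open Groth.Agent.Lib.Helper43 Groth.Agent.Lib.Helper43.EtStalk Groth.Agent.Lib.Helper43.ShriekStalk
  Groth.Agent.Lib.Helper4

section Comp

variable {A Z T : Scheme.{u}} (a : A ⟶ Z) (h : Z ⟶ T) [Etale a] [Etale h]

/-- composition of the `compEtale` functors -/
noncomputable def compEtaleComp :
    EtShriek.compEtale a ⋙ EtShriek.compEtale h ≅ EtShriek.compEtale (a ≫ h) :=
  (MorphismProperty.Over.mapComp (P := EtCoh.etaleMP.{u}) (Q := ⊤)
    (inferInstance : Etale a) (inferInstance : Etale h)).symm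

variable [EtShriek.JCont a] [EtShriek.JCont h] [EtShriek.JCont (a ≫ h)]

/-- restriction functors compose -/
noncomputable def restrAlongComp :
    EtShriek.restrAlong h ⋙ EtShriek.restrAlong a ≅ EtShriek.restrAlong (a ≫ h) :=
  Functor.sheafPushforwardContinuousComp' (F := EtShriek.compEtale a) (G := EtShriek.compEtale h)
    (FG := EtShriek.compEtale (a ≫ h)) (compEtaleComp a h) AddCommGrpCat.{u + 1}
    A.smallEtaleTopology Z.smallEtaleTopology T.smallEtaleTopology

/-- extension by zero functors compose -/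
noncomputable def extZeroComp :
    EtShriek.extZero a ⋙ EtShriek.extZero h ≅ EtShriek.extZero (a ≫ h) :=
  ((EtShriek.extZeroAdj a).comp (EtShriek.extZeroAdj h)).leftAdjointUniq
    ((EtShriek.extZeroAdj (a ≫ h)).ofNatIsoRight (restrAlongComp a h).symm)

end Comp

section Decomp

variable {Z : Scheme.{u}} {n : ℕ} {V : Fin n → Scheme.{u}} (a : ∀ j, V j ⟶ Z)
  [∀ j, IsOpenImmersion (a j)]

/-- the summands of the decomposition of `G` along a finite open cover -/
noncomputable abbrev summand (G : EtCoh.Ab Z) (j : Fin n) : EtCoh.Ab Z :=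
  (EtShriek.extZero (a j)).obj ((EtShriek.restrAlong (a j)).obj G)

/-- the canonical map `⨁_j (a_j)_! (a_j)^* G ⟶ G` -/
noncomputable def decompMap (G : EtCoh.Ab Z) : (⨁ summand a G) ⟶ G :=
  biproduct.desc (fun j => ε (a j) G)

variable (hdisj : Pairwise (fun i j => Disjoint (Set.range (a i)) (Set.range (a j))))
  (hcov : ∀ z : Z, ∃ j, z ∈ Set.range (a j))

include hdisj hcov in
lemma isIso_stalk_decompMap (G : EtCoh.Ab Z) {Ω : Type u} [Field Ω] [IsSepClosed Ω]
    (ξ : Spec (CommRingCat.of Ω) ⟶ Z) :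
    IsIso (((Scheme.pointSmallEtale ξ).sheafFiber (A := AddCommGrpCat.{u + 1})).map
      (decompMap a G)) := by
  set S := (Scheme.pointSmallEtale ξ).sheafFiber (A := AddCommGrpCat.{u + 1}) with hS
  obtain ⟨j₀, hj₀⟩ := hcov (ξ.base default)
  have hr : Set.range ξ.base ⊆ Set.range (a j₀).base := by
    rintro _ ⟨p, rfl⟩
    rwa [Subsingleton.elim p default]
  let u₀ : Lifts (a j₀) ξ := ⟨IsOpenImmersion.lift (a j₀) ξ hr, IsOpenImmersion.lift_fac (a j₀) ξ hr⟩
  have : Unique (Lifts (a j₀) ξ) := @Unique.mk' _ ⟨u₀⟩ subsingleton_lifts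
  have hiso : IsIso (S.map (ε (a j₀) G)) := isIso_stalk_counit_of_unique G
  have hzero : ∀ j, j ≠ j₀ → IsZero (S.obj (summand a G j)) := by
    intro j hj
    refine isZero_shriekFiber_of_isEmpty _ ⟨fun u => ?_⟩
    have h1 : ξ.base default ∈ Set.range (a j) := by
      rw [← u.2]
      exact ⟨u.1.base default, rfl⟩
    exact Set.disjoint_iff.1 (hdisj hj) ⟨h1, hj₀⟩
  have hπ : ∀ j, j ≠ j₀ → S.map (biproduct.π (summand a G) j) = 0 :=
    fun j hj => (hzero j hj).eq_of_tgt _ _
  have e1 : S.map (decompMap a G) = S.map (biproduct.π (summand a G) j₀) ≫ S.map (ε (a j₀) G) := by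
    rw [decompMap, biproduct.desc_eq, Functor.map_sum]
    rw [Finset.sum_eq_single j₀]
    · rw [Functor.map_comp]
    · intro j _ hj
      rw [Functor.map_comp, hπ j hj, zero_comp]
    · intro h
      exact (h (Finset.mem_univ _)).elim
  have e2 : 𝟙 (S.obj (⨁ summand a G)) =
      S.map (biproduct.π (summand a G) j₀) ≫ S.map (biproduct.ι (summand a G) j₀) := by
    rw [← S.map_id, ← biproduct.total, Functor.map_sum]
    rw [Finset.sum_eq_single j₀]
    · rw [Functor.map_comp]
    · intro j _ hj
      rw [Functor.map_comp, hπ j hj, zero_comp]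
    · intro h
      exact (h (Finset.mem_univ _)).elim
  refine ⟨⟨inv (S.map (ε (a j₀) G)) ≫ S.map (biproduct.ι (summand a G) j₀), ?_, ?_⟩⟩
  · rw [e1, Category.assoc, IsIso.hom_inv_id_assoc, ← e2]
  · rw [Category.assoc, ← S.map_comp, decompMap, biproduct.ι_desc, IsIso.inv_hom_id]

include hdisj hcov in
theorem isIso_decompMap (G : EtCoh.Ab Z) : IsIso (decompMap a G) := by
  have key := fun (Ω : Type u) [Field Ω] [IsSepClosed Ω] (ξ : Spec (CommRingCat.of Ω) ⟶ Z) =>
    isIso_stalk_decompMap a hdisj hcov G ξ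
  have hm : Mono (decompMap a G) := mono_of_stalks_ab _ (fun Ω _ _ ξ =>
    have := key Ω ξ
    (ConcreteCategory.bijective_of_isIso _).1)
  have he : Epi (decompMap a G) := epi_of_stalks_ab _ (fun Ω _ _ ξ =>
    have := key Ω ξ
    (ConcreteCategory.bijective_of_isIso _).2)
  exact isIso_of_mono_of_epi _

end Decomp

section FLC

open Groth.Agent.Lib.Helper43.EtFLCLocal Groth.Agent.Lib.Helper24

/-- extension by zero along an isomorphism preserves finite locally constant sheaves -/
theorem isFLC_extZero_of_isIso {V T : Scheme.{u}} (c : V ⟶ T) [IsIso c] (K : EtCoh.Ab V)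
    (hK : EtCoh.IsFiniteLocallyConstant K) :
    EtCoh.IsFiniteLocallyConstant ((EtShriek.extZero c).obj K) := by
  apply isFLC_of_local
  intro t
  refine ⟨V, c, inferInstance, (inv c).base t, ?_, ?_⟩
  · rw [← Scheme.Hom.comp_apply, IsIso.inv_hom_id]
    rfl
  · have hu : IsIso ((EtShriek.extZeroAdj c).unit.app K) := (Groth.Agent.S0651.result c K).2
    exact EtConstr.isFLC_of_iso ((asIso ((EtShriek.extZeroAdj c).unit.app K)) ≪≫
      ((EtRestr.pullIsoRestr c).app _).symm) hK

instance additive_extZero {Z T : Scheme.{u}} (h : Z ⟶ T) [Etale h] [EtShriek.JCont h] :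
    (EtShriek.extZero h).Additive := by
  have : PreservesFiniteLimits (EtShriek.extZero h) := Groth.Agent.S0648.result h
  exact Functor.additive_of_preserves_binary_products _

/-- extension by zero along a split étale morphism preserves finite locally constant sheaves -/
theorem isFLC_extZero_of_isSplitOver {Z T : Scheme.{u}} (h : Z ⟶ T) [Etale h] [EtShriek.JCont h]
    (hs : IsSplitOver h) (G : EtCoh.Ab Z) (hG : EtCoh.IsFiniteLocallyConstant G) :
    EtCoh.IsFiniteLocallyConstant ((EtShriek.extZero h).obj G) := by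
  obtain ⟨n, V, c, hc, e, he⟩ := hs
  let a : ∀ j, V j ⟶ Z := fun j => Sigma.ι V j ≫ e.hom
  have hdisj : Pairwise (fun i j => Disjoint (Set.range (a i)) (Set.range (a j))) := by
    intro i j hij
    rw [Set.disjoint_iff]
    rintro z ⟨⟨x, hx⟩, ⟨y, hy⟩⟩
    have h1 : (Sigma.ι V i) x = (Sigma.ι V j) y := by
      have h2 : e.hom ((Sigma.ι V i) x) = e.hom ((Sigma.ι V j) y) := hx.trans hy.symm
      exact (Scheme.Hom.isOpenEmbedding e.hom).injective h2
    have := (sigmaι_eq_iff V i j x y).1 h1
    exact hij (congrArg Sigma.fst this)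
  have hcov : ∀ z : Z, ∃ j, z ∈ Set.range (a j) := by
    intro z
    obtain ⟨j, x, hx⟩ := (sigmaOpenCover V).exists_eq (e.inv z)
    refine ⟨j, x, ?_⟩
    change (Sigma.ι V j) x = e.inv z at hx
    change e.hom ((Sigma.ι V j) x) = z
    rw [hx, ← Scheme.Hom.comp_apply, Iso.inv_hom_id]
    rfl
  have := isIso_decompMap a hdisj hcov G
  refine EtConstr.isFLC_of_iso ((EtShriek.extZero h).mapIso (asIso (decompMap a G))) ?_
  refine EtConstr.isFLC_of_iso ((EtShriek.extZero h).mapBiproduct (summand a G)).symm ?_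
  apply isFLC_biproduct
  intro j
  have hcj : a j ≫ h = c j := by
    rw [Category.assoc]
    exact he j
  have : IsIso (a j ≫ h) := by
    rw [hcj]
    exact hc j
  have h1 : EtCoh.IsFiniteLocallyConstant ((EtShriek.restrAlong (a j)).obj G) :=
    EtConstr.isFLC_of_iso ((EtRestr.pullIsoRestr (a j)).app G) (EtConstr.isFLC_pull (a j) G hG)
  exact EtConstr.isFLC_of_iso ((extZeroComp (a j) h).app _).symm
    (isFLC_extZero_of_isIso (a j ≫ h) _ h1)

/-- extension by zero along a finite étale morphism preserves finite locally constant sheaves -/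
theorem isFLC_extZero_of_finite_etale {Z T : Scheme.{u}} (h : Z ⟶ T) [Etale h] [IsFinite h]
    [EtShriek.JCont h] (G : EtCoh.Ab Z) (hG : EtCoh.IsFiniteLocallyConstant G) :
    EtCoh.IsFiniteLocallyConstant ((EtShriek.extZero h).obj G) := by
  apply isFLC_of_local
  intro t
  obtain ⟨U, g, hg, u, hu, hs⟩ := exists_etale_isSplitOver_of_finite_etale h t
  refine ⟨U, g, hg, u, hu, ?_⟩
  have : EtShriek.JCont (pullback.snd h g) := EtRestr.jCont _
  obtain ⟨θ⟩ := Groth.Agent.S0649.result h g (pullback.snd h g) (pullback.fst h g)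
    (IsPullback.of_hasPullback h g).flip
  refine EtConstr.isFLC_of_iso (θ.app G) ?_
  exact isFLC_extZero_of_isSplitOver _ hs _ (EtConstr.isFLC_pull _ G hG)

end FLC

end Groth.Agent.Lib.Helper43.ExtZeroSplit
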