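import Mathlib

/-!
# Gluing finiteness over a base from a finite open cover of the source

`Fin f O` : the open subscheme `O` of `Y` is finite over `T` (via `f : Y ⟶ T`).
If `Y` is covered by finitely many opens `O k` finite over `T` whose pairwise intersections are
finite unions of opens finite over `T`, then `f` is finite.
-/

set_option autoImplicit false
set_option linter.style.haveILetI false
universe u
open CategoryTheory CategoryTheory.Limits AlgebraicGeometry TopologicalSpace

namespace Groth.Agent.Lib.Helper43.FinGlue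

variable {Y T : Scheme.{u}} (f : Y ⟶ T)

/-- the open subscheme `O` is finite over `T` -/
def Fin (O : Y.Opens) : Prop := IsFinite (O.ι ≫ f)

variable {f}

lemma range_homOfLE {W O : Y.Opens} (h : W ≤ O) :
    Set.range (Y.homOfLE h) = O.ι ⁻¹' (W : Set Y) := by
  ext x
  constructor
  · rintro ⟨w, rfl⟩
    change ((Y.homOfLE h) w).1 ∈ W
    rw [Scheme.homOfLE_apply]
    exact w.2
  · intro hx
    refine ⟨⟨x.1, hx⟩, ?_⟩
    exact Subtype.ext (Scheme.homOfLE_apply h _)

/-- a finite piece inside a finite piece is relatively closed -/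
lemma Fin.isOpen_sdiff {O W : Y.Opens} (hO : Fin f O) (hW : Fin f W) (h : W ≤ O) :
    IsOpen ((O : Set Y) \ (W : Set Y)) := by
  haveI : IsFinite (O.ι ≫ f) := hO
  haveI : IsFinite (W.ι ≫ f) := hW
  haveI : UniversallyClosed (Y.homOfLE h ≫ O.ι ≫ f) := by
    rw [Scheme.homOfLE_ι_assoc]
    infer_instance
  haveI : UniversallyClosed (Y.homOfLE h) := UniversallyClosed.of_comp_of_isSeparated _ (O.ι ≫ f)
  have hcl : IsClosed (Set.range (Y.homOfLE h)) := by
    rw [← Set.image_univ]
    exact (Y.homOfLE h).isClosedMap _ isClosed_univ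
  rw [range_homOfLE] at hcl
  have hop : IsOpen (O.ι '' (O.ι ⁻¹' (W : Set Y))ᶜ) :=
    O.ι.isOpenEmbedding.isOpenMap _ hcl.isOpen_compl
  convert hop using 1
  ext y
  constructor
  · rintro ⟨hyO, hyW⟩
    exact ⟨⟨y, hyO⟩, hyW, rfl⟩
  · rintro ⟨z, hz, rfl⟩
    exact ⟨z.2, hz⟩

/-- a relatively closed open piece of a finite piece is finite -/
lemma Fin.of_isOpen_sdiff {O W : Y.Opens} (hO : Fin f O) (h : W ≤ O)
    (hop : IsOpen ((O : Set Y) \ (W : Set Y))) : Fin f W := by
  haveI : IsFinite (O.ι ≫ f) := hO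
  have hcl : IsClosed (Set.range (Y.homOfLE h)) := by
    rw [range_homOfLE]
    have : (O.ι ⁻¹' (W : Set Y))ᶜ = O.ι ⁻¹' ((O : Set Y) \ (W : Set Y)) := by
      ext z
      simp only [Set.mem_compl_iff, Set.mem_preimage, Set.mem_sdiff]
      exact ⟨fun hz => ⟨z.2, hz⟩, fun hz => hz.2⟩
    rw [← isOpen_compl_iff, this]
    exact hop.preimage O.ι.continuous
  haveI : IsClosedImmersion (Y.homOfLE h) := IsClosedImmersion.of_isPreimmersion _ hcl
  have : IsFinite (Y.homOfLE h ≫ O.ι ≫ f) := inferInstance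
  rw [Scheme.homOfLE_ι_assoc] at this
  exact this

/-- finite unions of finite pieces inside a finite piece -/
lemma Fin.iSup_of_le {ι : Type*} [Finite ι] {O : Y.Opens} (hO : Fin f O) (W : ι → Y.Opens)
    (hle : ∀ i, W i ≤ O) (hW : ∀ i, Fin f (W i)) : Fin f (⨆ i, W i) := by
  refine hO.of_isOpen_sdiff (iSup_le hle) ?_
  have : (O : Set Y) \ ((⨆ i, W i : Y.Opens) : Set Y) =
      (O : Set Y) ∩ ⋂ i, ((O : Set Y) \ (W i : Set Y)) := by
    ext y
    simp only [Opens.coe_iSup, Set.mem_sdiff, Set.mem_iUnion, not_exists, Set.mem_inter_iff,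
      Set.mem_iInter, SetLike.mem_coe]
    exact ⟨fun h => ⟨h.1, fun i => ⟨h.1, h.2 i⟩⟩, fun h => ⟨h.1, fun i => (h.2 i).2⟩⟩
  rw [this]
  exact O.isOpen.inter (isOpen_iInter_of_finite fun i => hO.isOpen_sdiff (hW i) (hle i))

/-- disjoint union of two finite pieces -/
lemma Fin.sup_of_disjoint {O W : Y.Opens} (hO : Fin f O) (hW : Fin f W) (hd : Disjoint O W) :
    Fin f (O ⊔ W) := by
  haveI : IsFinite (O.ι ≫ f) := hO
  haveI : IsFinite (W.ι ≫ f) := hW
  let a := Y.homOfLE (le_sup_left : O ≤ O ⊔ W)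
  let b := Y.homOfLE (le_sup_right : W ≤ O ⊔ W)
  have hra : SetLike.coe a.opensRange = (O ⊔ W).ι ⁻¹' (O : Set Y) := range_homOfLE _
  have hrb : SetLike.coe b.opensRange = (O ⊔ W).ι ⁻¹' (W : Set Y) := range_homOfLE _
  have hc : IsCompl a.opensRange b.opensRange := by
    rw [isCompl_iff, disjoint_iff, codisjoint_iff]
    constructor
    · apply Opens.ext
      rw [Opens.coe_inf, hra, hrb, ← Set.preimage_inter, ← Opens.coe_inf,
        disjoint_iff.1 hd]
      simp
    · apply Opens.ext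
      rw [Opens.coe_sup, hra, hrb, ← Set.preimage_union, ← Opens.coe_sup]
      ext z
      simp only [Set.mem_preimage, Opens.coe_top, Set.mem_univ, iff_true]
      exact z.2
  obtain ⟨hcol⟩ := nonempty_isColimit_binaryCofanMk_of_isCompl a b hc
  let e : (O : Scheme.{u}) ⨿ (W : Scheme.{u}) ≅ ((O ⊔ W : Y.Opens) : Scheme.{u}) :=
    (colimit.isColimit _).coconePointUniqueUpToIso hcol
  have he : e.hom ≫ (O ⊔ W).ι ≫ f = coprod.desc (O.ι ≫ f) (W.ι ≫ f) := by
    apply coprod.hom_ext
    · have : coprod.inl ≫ e.hom = a :=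
        (colimit.isColimit _).comp_coconePointUniqueUpToIso_hom hcol ⟨WalkingPair.left⟩
      rw [← Category.assoc, this, coprod.inl_desc]
      exact Scheme.homOfLE_ι_assoc _ _ _
    · have : coprod.inr ≫ e.hom = b :=
        (colimit.isColimit _).comp_coconePointUniqueUpToIso_hom hcol ⟨WalkingPair.right⟩
      rw [← Category.assoc, this, coprod.inr_desc]
      exact Scheme.homOfLE_ι_assoc _ _ _
  have h1 : IsFinite (e.hom ≫ (O ⊔ W).ι ≫ f) := by rw [he]; infer_instance
  have h2 : (O ⊔ W).ι ≫ f = e.inv ≫ e.hom ≫ (O ⊔ W).ι ≫ f := by rw [Iso.inv_hom_id_assoc]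
  change IsFinite ((O ⊔ W).ι ≫ f)
  rw [h2]
  infer_instance

/-- union of two finite pieces with finite intersection -/
lemma Fin.sup {O O' : Y.Opens} (hO : Fin f O) (hO' : Fin f O') (hI : Fin f (O ⊓ O')) :
    Fin f (O ⊔ O') := by
  have hop : IsOpen ((O' : Set Y) \ ((O ⊓ O' : Y.Opens) : Set Y)) :=
    hO'.isOpen_sdiff hI inf_le_right
  have hset : (O' : Set Y) \ ((O ⊓ O' : Y.Opens) : Set Y) = (O' : Set Y) \ (O : Set Y) := by
    ext y
    simp only [Opens.coe_inf, Set.mem_sdiff, Set.mem_inter_iff, SetLike.mem_coe, not_and]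
    exact ⟨fun h => ⟨h.1, fun hy => h.2 hy h.1⟩, fun h => ⟨h.1, fun hy _ => h.2 hy⟩⟩
  rw [hset] at hop
  let W : Y.Opens := ⟨(O' : Set Y) \ (O : Set Y), hop⟩
  have hWle : W ≤ O' := fun y hy => hy.1
  have hW : Fin f W := by
    refine hO'.of_isOpen_sdiff hWle ?_
    have : (O' : Set Y) \ (W : Set Y) = ((O ⊓ O' : Y.Opens) : Set Y) := by
      ext y
      simp only [W, Opens.coe_mk, Set.mem_sdiff, SetLike.mem_coe, not_and, not_not, Opens.coe_inf,
        Set.mem_inter_iff]
      exact ⟨fun h => ⟨h.2 h.1, h.1⟩, fun h => ⟨h.2, fun _ => h.1⟩⟩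
    rw [this]
    exact (O ⊓ O').isOpen
  have hd : Disjoint O W := by
    rw [disjoint_iff]
    apply Opens.ext
    ext y
    simp only [W, Opens.coe_inf, Opens.coe_mk, Set.mem_inter_iff, SetLike.mem_coe, Set.mem_sdiff,
      Opens.coe_bot, Set.mem_empty_iff_false, iff_false, not_and, not_not]
    exact fun hy _ => hy
  have hsup : O ⊔ O' = O ⊔ W := by
    apply Opens.ext
    ext y
    simp only [W, Opens.coe_sup, Opens.coe_mk, Set.mem_union, SetLike.mem_coe, Set.mem_sdiff]
    constructor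
    · rintro (h | h)
      · exact Or.inl h
      · by_cases hy : y ∈ O
        · exact Or.inl hy
        · exact Or.inr ⟨h, hy⟩
    · rintro (h | h)
      · exact Or.inl h
      · exact Or.inr h.1
  rw [hsup]
  exact hO.sup_of_disjoint hW hd

/-- the empty piece is finite -/
lemma Fin.bot : Fin f (⊥ : Y.Opens) := by
  haveI : IsEmpty ((⊥ : Y.Opens) : Scheme.{u}) := by
    change IsEmpty ((⊥ : Y.Opens) : Set Y)
    simp
  change IsFinite ((⊥ : Y.Opens).ι ≫ f)
  infer_instance

/-- **Gluing**: finitely many finite pieces whose pairwise intersections are finite unions of finite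
pieces have finite union. -/
theorem Fin.iSup {κ : Type*} [Finite κ] (O : κ → Y.Opens) (hO : ∀ k, Fin f (O k))
    (hI : ∀ k l, ∃ (μ : Type) (_ : Finite μ) (W : μ → Y.Opens),
      (∀ m, Fin f (W m)) ∧ (⨆ m, W m) = O k ⊓ O l) :
    Fin f (⨆ k, O k) := by
  classical
  haveI := Fintype.ofFinite κ
  suffices h : ∀ s : Finset κ, Fin f (⨆ k ∈ s, O k) by
    have := h Finset.univ
    simpa using this
  intro s
  induction s using Finset.induction_on with
  | empty => simpa using Fin.bot
  | insert l s hl ih =>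
    rw [Finset.iSup_insert]
    refine (hO l).sup ih ?_
    -- the intersection
    have hint : O l ⊓ (⨆ k ∈ s, O k) = ⨆ k : s, (O l ⊓ O k.1) := by
      rw [inf_iSup₂_eq]
      exact (iSup_subtype' (p := fun k => k ∈ s) (f := fun k _ => O l ⊓ O k)).trans rfl
    rw [hint]
    refine (hO l).iSup_of_le _ (fun k => inf_le_left) (fun k => ?_)
    obtain ⟨μ, hμ, W, hW, hsup⟩ := hI l k.1
    rw [← hsup]
    refine (hO l).iSup_of_le W (fun m => ?_) hW
    exact (le_iSup W m).trans (hsup ▸ inf_le_left)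

/-- if `⊤` is finite over `T` then `f` is finite -/
theorem Fin.isFinite_of_top (h : Fin f (⊤ : Y.Opens)) : IsFinite f := by
  haveI : IsFinite ((⊤ : Y.Opens).ι ≫ f) := h
  have : f = (Y.topIso).inv ≫ (⊤ : Y.Opens).ι ≫ f := by
    rw [← Category.assoc]
    have : (Y.topIso).inv ≫ (⊤ : Y.Opens).ι = 𝟙 Y := by
      rw [← cancel_epi (Y.topIso).hom, Iso.hom_inv_id_assoc]
      simp
    rw [this, Category.id_comp]
  rw [this]
  infer_instance

end Groth.Agent.Lib.Helper43.FinGlue
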