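import Mathlib

/-!
# Spreading out finiteness of a fibre

For a finite type `A`-algebra `B` and a prime `p` of `A` such that the fibre `κ(p) ⊗ B` is finite over
`κ(p)`, there are a finitely generated ideal `I ≤ p` and `g ∉ p` such that `C ⊗[A] B` is a finite
`C`-module for every `A`-algebra `C` in which `I` vanishes and `g` is invertible.
-/

set_option autoImplicit false
universe u
open TensorProduct Polynomial

namespace Groth.Agent.Lib.Helper43.SpreadFinite

variable {A B : Type u} [CommRing A] [CommRing B] [Algebra A B]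

attribute [local instance] Algebra.TensorProduct.rightAlgebra in
/-- if `1 ⊗ y = 0` in the fibre over `p` then some `r ∉ p` moves `y` into `pB`. -/
theorem exists_smul_mem_map_of_tmul_eq_zero (p : Ideal A) [p.IsPrime] (y : B)
    (hy : (1 : p.ResidueField) ⊗ₜ[A] y = 0) :
    ∃ r : A, r ∉ p ∧ r • y ∈ p.map (algebraMap A B) := by
  let Ap := Localization p.primeCompl
  let Bp := Localization (Algebra.algebraMapSubmonoid B p.primeCompl)
  let e := Ideal.Fiber.algEquivQuotient (p := p) (S := B)
  have h1 : e (algebraMap B (p.Fiber B) y) = 0 := by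
    have : algebraMap B (p.Fiber B) y = (1 : p.ResidueField) ⊗ₜ[A] y := rfl
    rw [this, hy, map_zero]
  rw [e.commutes] at h1
  have h2 : algebraMap B Bp y ∈
      (IsLocalRing.maximalIdeal Ap).map (algebraMap Ap Bp) := by
    have h3 : algebraMap B (Bp ⧸ (IsLocalRing.maximalIdeal Ap).map (algebraMap Ap Bp)) y =
        Ideal.Quotient.mk _ (algebraMap B Bp y) := rfl
    rw [h3] at h1
    exact Ideal.Quotient.eq_zero_iff_mem.1 h1
  have h4 : (IsLocalRing.maximalIdeal Ap).map (algebraMap Ap Bp) =
      (p.map (algebraMap A B)).map (algebraMap B Bp) := by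
    rw [← Localization.AtPrime.map_eq_maximalIdeal (I := p), Ideal.map_map, Ideal.map_map]
    congr 1
    rw [← IsScalarTower.algebraMap_eq, ← IsScalarTower.algebraMap_eq]
  rw [h4, IsLocalization.mem_map_algebraMap_iff (Algebra.algebraMapSubmonoid B p.primeCompl)] at h2
  obtain ⟨⟨j, m⟩, hjm⟩ := h2
  rw [← map_mul] at hjm
  obtain ⟨m', hm'⟩ := (IsLocalization.eq_iff_exists
    (Algebra.algebraMapSubmonoid B p.primeCompl) Bp).1 hjm
  obtain ⟨r₁, hr₁, hr₁'⟩ := m.2
  obtain ⟨r₂, hr₂, hr₂'⟩ := m'.2
  refine ⟨r₂ * r₁, fun h => ?_, ?_⟩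
  · exact (‹p.IsPrime›.mem_or_mem h).elim hr₂ hr₁
  · have : (r₂ * r₁) • y = (m' : B) * (y * (m : B)) := by
      rw [Algebra.smul_def, map_mul, hr₁', hr₂']
      ring
    rw [this, hm']
    exact Ideal.mul_mem_left _ _ j.2

/-- each element of `B` satisfies, modulo `pB`, a polynomial equation over `A` whose leading coefficient
is not in `p`. -/
theorem exists_polynomial_of_fiber_finite (p : Ideal A) [p.IsPrime]
    [Module.Finite p.ResidueField (p.Fiber B)] (b : B) :
    ∃ Q : A[X], Q.leadingCoeff ∉ p ∧ aeval b Q ∈ p.map (algebraMap A B) := by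
  let κ := p.ResidueField
  let Ap := Localization.AtPrime p
  let x : p.Fiber B := (1 : κ) ⊗ₜ[A] b
  have hint : IsIntegral κ x := Algebra.IsIntegral.isIntegral x
  obtain ⟨P, hPm, hPx⟩ := hint
  -- lift to the localization
  have hsurj : Function.Surjective (IsLocalRing.residue Ap) := IsLocalRing.residue_surjective
  obtain ⟨P', hP', -, hP'm⟩ := Polynomial.lifts_and_degree_eq_and_monic
    ((Polynomial.mem_lifts P).2 (Polynomial.map_surjective _ hsurj P)) hPm
  -- clear denominators
  set Q := IsLocalization.integerNormalization p.primeCompl P' with hQ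
  obtain ⟨s, hs⟩ : ∃ b : p.primeCompl, (IsLocalization.integerNormalization p.primeCompl P').map
      (algebraMap A Ap) = (b : A) • P' := by
    obtain ⟨b, hb₁, hb₂⟩ := IsLocalization.integerNormalization_spec p.primeCompl P'
    exact ⟨⟨b, hb₁⟩, hb₂⟩
  -- the leading coefficient
  have hdeg : Q.natDegree ≤ P'.natDegree := by
    apply Polynomial.natDegree_le_iff_coeff_eq_zero.2
    intro i hi
    by_contra h
    have : i ∈ P'.support :=
      IsLocalization.integerNormalization_support p.primeCompl P' (Polynomial.mem_support_iff.2 h)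
    exact absurd (Polynomial.le_natDegree_of_mem_supp _ this) (not_le.2 hi)
  have hcoeff : algebraMap A Ap (Q.coeff P'.natDegree) = algebraMap A Ap s := by
    have := congrArg (fun R => R.coeff P'.natDegree) hs
    simp only [Polynomial.coeff_map, Polynomial.coeff_smul] at this
    rw [this, hP'm.coeff_natDegree, Algebra.smul_def, mul_one]
  have hnot : Q.coeff P'.natDegree ∉ p := by
    intro h
    have h1 : algebraMap A Ap (Q.coeff P'.natDegree) ∈ IsLocalRing.maximalIdeal Ap :=
      (IsLocalization.AtPrime.to_map_mem_maximal_iff Ap p _).2 h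
    rw [hcoeff] at h1
    exact s.2 ((IsLocalization.AtPrime.to_map_mem_maximal_iff Ap p _).1 h1)
  have hlc : Q.leadingCoeff = Q.coeff P'.natDegree := by
    have hne : Q.coeff P'.natDegree ≠ 0 := fun h => hnot (h ▸ p.zero_mem)
    have : Q.natDegree = P'.natDegree :=
      le_antisymm hdeg (Polynomial.le_natDegree_of_ne_zero hne)
    rw [Polynomial.leadingCoeff, this]
  -- evaluate
  have hev : aeval x Q = 0 := by
    have h1 : Polynomial.eval₂ ((algebraMap κ (p.Fiber B)).comp (IsLocalRing.residue Ap)) x P' = 0 := by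
      rw [← Polynomial.eval₂_map, hP']
      exact hPx
    have h2 := IsLocalization.integerNormalization_eval₂_eq_zero p.primeCompl
      ((algebraMap κ (p.Fiber B)).comp (IsLocalRing.residue Ap)) P' h1
    have hcomp : algebraMap A (p.Fiber B) =
        ((algebraMap κ (p.Fiber B)).comp (IsLocalRing.residue Ap)).comp (algebraMap A Ap) := by
      ext a
      rw [IsScalarTower.algebraMap_apply A κ (p.Fiber B)]
      rfl
    rw [Polynomial.aeval_def, hcomp]
    exact h2
  have hx : x = (Algebra.TensorProduct.includeRight : B →ₐ[A] p.Fiber B) b := rfl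
  rw [hx, Polynomial.aeval_algHom_apply] at hev
  obtain ⟨r, hr, hrm⟩ := exists_smul_mem_map_of_tmul_eq_zero p (aeval b Q) hev
  refine ⟨Polynomial.C r * Q, ?_, ?_⟩
  · have hne : r * Q.leadingCoeff ≠ 0 := fun h => by
      have : r * Q.leadingCoeff ∈ p := h ▸ p.zero_mem
      rcases ‹p.IsPrime›.mem_or_mem this with h' | h'
      · exact hr h'
      · exact hnot (hlc ▸ h')
    rw [Polynomial.leadingCoeff_mul' (by rwa [Polynomial.leadingCoeff_C]),
      Polynomial.leadingCoeff_C]
    intro h
    rcases ‹p.IsPrime›.mem_or_mem h with h' | h'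
    · exact hr h'
    · exact hnot (hlc ▸ h')
  · rw [map_mul, Polynomial.aeval_C, ← Algebra.smul_def]
    exact hrm

/-- integrality of `1 ⊗ b` after base change to `C`. -/
theorem isIntegral_tmul_of_polynomial {I : Ideal A} (b : B) (Q : A[X])
    (hQ : aeval b Q ∈ I.map (algebraMap A B))
    (C : Type u) [CommRing C] [Algebra A C] (hI : ∀ a ∈ I, algebraMap A C a = 0)
    (hu : IsUnit (algebraMap A C Q.leadingCoeff)) :
    IsIntegral C ((1 : C) ⊗ₜ[A] b : C ⊗[A] B) := by
  rcases subsingleton_or_nontrivial C with hC | hC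
  · have : Subsingleton (C ⊗[A] B) := by
      refine ⟨fun a b => ?_⟩
      rw [← one_smul C a, ← one_smul C b, Subsingleton.elim (1 : C) 0, zero_smul, zero_smul]
    exact ⟨Polynomial.X, Polynomial.monic_X, Subsingleton.elim _ _⟩
  let ι : B →ₐ[A] C ⊗[A] B := Algebra.TensorProduct.includeRight
  have hker : I.map (algebraMap A B) ≤ RingHom.ker ι.toRingHom := by
    rw [Ideal.map_le_iff_le_comap]
    intro a ha
    change ι (algebraMap A B a) = 0
    rw [ι.commutes, IsScalarTower.algebraMap_apply A C (C ⊗[A] B), hI a ha, map_zero]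
  have h0 : aeval (ι b) (Q.map (algebraMap A C)) = 0 := by
    rw [Polynomial.aeval_map_algebraMap, Polynomial.aeval_algHom_apply]
    exact hker hQ
  have hne : algebraMap A C Q.leadingCoeff ≠ 0 := hu.ne_zero
  have hlc : (Q.map (algebraMap A C)).leadingCoeff = algebraMap A C Q.leadingCoeff :=
    Polynomial.leadingCoeff_map_of_leadingCoeff_ne_zero _ hne
  have h1 : IsIntegral C ((Q.map (algebraMap A C)).leadingCoeff • ι b) :=
    isIntegral_leadingCoeff_smul _ _ h0
  rw [hlc] at h1
  obtain ⟨v, hv⟩ := hu
  have h2 : ι b = (↑v⁻¹ : C) • (algebraMap A C Q.leadingCoeff • ι b) := by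
    rw [smul_smul, ← hv, Units.inv_mul, one_smul]
  change IsIntegral C (ι b)
  rw [h2]
  exact IsIntegral.smul _ h1

/-- **Spreading out finiteness of a fibre.** -/
theorem exists_finite_baseChange (p : Ideal A) [p.IsPrime] [Algebra.FiniteType A B]
    [Module.Finite p.ResidueField (p.Fiber B)] :
    ∃ (I : Ideal A) (g : A), I.FG ∧ I ≤ p ∧ g ∉ p ∧
      ∀ (C : Type u) [CommRing C] [Algebra A C], (∀ a ∈ I, algebraMap A C a = 0) →
        IsUnit (algebraMap A C g) → Module.Finite C (C ⊗[A] B) := by
  classical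
  obtain ⟨t, ht⟩ := (Algebra.FiniteType.out : (⊤ : Subalgebra A B).FG)
  choose Q hQlc hQmem using fun b : B => exists_polynomial_of_fiber_finite p b
  have hfin : ∀ b : B, ∃ T : Finset A, (T : Set A) ⊆ p ∧
      aeval b (Q b) ∈ (Ideal.span (T : Set A)).map (algebraMap A B) := by
    intro b
    obtain ⟨T₀, hT₀, hx⟩ := Submodule.mem_span_finite_of_mem_span (hQmem b)
    obtain ⟨T, hT, rfl⟩ := Finset.subset_set_image_iff.1 hT₀
    refine ⟨T, hT, ?_⟩
    rw [Ideal.map_span]
    rwa [Finset.coe_image] at hx
  choose T hTp hTmem using hfin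
  refine ⟨Ideal.span ((t.biUnion T : Finset A) : Set A), ∏ b ∈ t, (Q b).leadingCoeff,
    ⟨t.biUnion T, rfl⟩, ?_, ?_, ?_⟩
  · rw [Ideal.span_le]
    intro a ha
    obtain ⟨b, -, hab⟩ := Finset.mem_biUnion.1 (Finset.mem_coe.1 ha)
    exact hTp b (Finset.mem_coe.2 hab)
  · intro h
    obtain ⟨b, -, hb⟩ := Ideal.IsPrime.prod_mem_iff.1 h
    exact hQlc b hb
  · intro C _ _ hI hu
    let ι : B →ₐ[A] C ⊗[A] B := Algebra.TensorProduct.includeRight
    -- integrality of the generators
    have hgen : ∀ b ∈ t, IsIntegral C (ι b) := by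
      intro b hb
      refine isIntegral_tmul_of_polynomial (I := Ideal.span ((t.biUnion T : Finset A) : Set A))
        b (Q b) ?_ C hI ?_
      · refine Ideal.map_mono (Ideal.span_mono ?_) (hTmem b)
        intro a ha
        exact Finset.mem_coe.2 (Finset.mem_biUnion.2 ⟨b, hb, Finset.mem_coe.1 ha⟩)
      · refine isUnit_of_dvd_unit (map_dvd (algebraMap A C) (Finset.dvd_prod_of_mem (fun b => (Q b).leadingCoeff) hb)) hu
    -- all of `B`
    have hall : ∀ b : B, IsIntegral C (ι b) := by
      let S : Subalgebra A B := ((integralClosure C (C ⊗[A] B)).restrictScalars A).comap ι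
      have hS : Algebra.adjoin A (t : Set B) ≤ S := Algebra.adjoin_le fun b hb => hgen b hb
      intro b
      have : b ∈ Algebra.adjoin A (t : Set B) := by rw [ht]; trivial
      exact hS this
    have hint : Algebra.IsIntegral C (C ⊗[A] B) := by
      refine ⟨fun z => ?_⟩
      induction z using TensorProduct.induction_on with
      | zero => exact isIntegral_zero
      | tmul c b =>
        have : c ⊗ₜ[A] b = c • ι b := by
          change c ⊗ₜ[A] b = c • ((1 : C) ⊗ₜ[A] b)
          rw [TensorProduct.smul_tmul', smul_eq_mul, mul_one]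
        rw [this]
        exact IsIntegral.smul _ (hall b)
      | add x y hx hy => exact hx.add hy
    exact Algebra.IsIntegral.finite

end Groth.Agent.Lib.Helper43.SpreadFinite
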