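import Mathlib
import Groth.Agent.Lib.Helper43.SpreadFinite
import Groth.Agent.Lib.Helper43.FinGlue
import Groth.Agent.Lib.Helper43.ConstrCover

/-!
# Stratifications over which a quasi-finite morphism becomes finite
-/

set_option autoImplicit false
set_option linter.style.haveILetI false
universe u
open CategoryTheory CategoryTheory.Limits AlgebraicGeometry TopologicalSpace TensorProduct

namespace Groth.Agent.Lib.Helper43.FinStrat

open Groth.Agent.Lib.Helper43.FinGlue Groth.Agent.Lib.Helper43.SpreadFinite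

variable {U X : Scheme.{u}} (j : U ⟶ X)

/-- two pullback squares on the same cospan: finiteness of one projection transfers -/
lemma isFinite_of_isPullback {P P' A B S : Scheme.{u}} {a : A ⟶ S} {b : B ⟶ S}
    {p : P ⟶ A} {q : P ⟶ B} {p' : P' ⟶ A} {q' : P' ⟶ B}
    (h : IsPullback p q a b) (h' : IsPullback p' q' a b) [IsFinite q] : IsFinite q' := by
  have : q' = (h'.isoIsPullback _ _ h).hom ≫ q := (IsPullback.isoIsPullback_hom_snd _ _ h' h).symm
  rw [this]
  infer_instance

/-- the piece of the base change lying over an affine open `W` of `U` mapping into the affine open `V`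
of `X` is finite over `Spec C`, when `C ⊗ Γ(W)` is finite over `C`. -/
theorem fin_preimage {V : X.Opens} (hV : IsAffineOpen V) {W : U.Opens} (hW : IsAffineOpen W)
    (e : W ≤ j ⁻¹ᵁ V) {C : CommRingCat.{u}} (ψ : Γ(X, V) ⟶ C)
    (hfin : letI := (j.appLE V W e).hom.toAlgebra
      letI := ψ.hom.toAlgebra
      Module.Finite C (C ⊗[Γ(X, V)] Γ(U, W))) :
    Fin (pullback.snd j (Spec.map ψ ≫ hV.fromSpec))
      (pullback.fst j (Spec.map ψ ≫ hV.fromSpec) ⁻¹ᵁ W) := by
  letI := (j.appLE V W e).hom.toAlgebra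
  letI := ψ.hom.toAlgebra
  set g := Spec.map ψ ≫ hV.fromSpec with hg
  -- the affine model
  have hφ : j.appLE V W e = CommRingCat.ofHom (algebraMap Γ(X, V) Γ(U, W)) := rfl
  have hψ : ψ = CommRingCat.ofHom (algebraMap Γ(X, V) C) := rfl
  have H1 : IsFinite (pullback.fst (Spec.map ψ) (Spec.map (j.appLE V W e))) := by
    rw [hφ, hψ, ← pullbackSpecIso_hom_fst']
    have : IsFinite (Spec.map (CommRingCat.ofHom
        (algebraMap C (C ⊗[Γ(X, V)] Γ(U, W))))) := by
      rw [IsFinite.SpecMap_iff]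
      exact RingHom.finite_algebraMap.2 hfin
    infer_instance
  have H2 : IsPullback (pullback.snd (Spec.map ψ) (Spec.map (j.appLE V W e)))
      (pullback.fst (Spec.map ψ) (Spec.map (j.appLE V W e))) (hW.fromSpec ≫ j) g := by
    have h0 := (IsPullback.of_hasPullback (Spec.map ψ) (Spec.map (j.appLE V W e))).flip
    have := IsPullback.of_isLimit (PullbackCone.isLimitOfCompMono _ _ hV.fromSpec _ h0.isLimit)
    rw [hg, ← hV.SpecMap_appLE_fromSpec j hW e]
    exact this
  -- the piece of the pullback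
  have H3 : IsPullback (pullback.fst j g ∣_ W) ((pullback.fst j g ⁻¹ᵁ W).ι ≫ pullback.snd j g)
      (W.ι ≫ j) g :=
    (isPullback_morphismRestrict (pullback.fst j g) W).paste_vert (IsPullback.of_hasPullback j g)
  have H4 : IsPullback (pullback.snd (Spec.map ψ) (Spec.map (j.appLE V W e)) ≫ hW.isoSpec.inv)
      (pullback.fst (Spec.map ψ) (Spec.map (j.appLE V W e))) (W.ι ≫ j) g := by
    have e1 : hW.fromSpec ≫ j = hW.isoSpec.inv ≫ W.ι ≫ j := by
      rw [IsAffineOpen.fromSpec, Category.assoc]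
    rw [e1] at H2
    exact IsPullback.of_iso H2 (Iso.refl _) hW.isoSpec.symm (Iso.refl _) (Iso.refl _)
      (by simp) (by simp) (by simp) (by simp)
  haveI := H1
  exact isFinite_of_isPullback H4 H3

/-- spreading out for one affine open `W` of `U` over the affine open `V` of `X`. -/
theorem exists_ideal_single [LocallyOfFiniteType j] [LocallyQuasiFinite j] {V : X.Opens}
    (hV : IsAffineOpen V) (p : Ideal Γ(X, V)) [p.IsPrime] {W : U.Opens} (hW : IsAffineOpen W)
    (e : W ≤ j ⁻¹ᵁ V) :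
    ∃ (I : Ideal Γ(X, V)) (g : Γ(X, V)), I.FG ∧ I ≤ p ∧ g ∉ p ∧
      ∀ (C : CommRingCat.{u}) (ψ : Γ(X, V) ⟶ C), (∀ a ∈ I, ψ.hom a = 0) → IsUnit (ψ.hom g) →
        Fin (pullback.snd j (Spec.map ψ ≫ hV.fromSpec))
          (pullback.fst j (Spec.map ψ ≫ hV.fromSpec) ⁻¹ᵁ W) := by
  letI := (j.appLE V W e).hom.toAlgebra
  have h1 : Algebra.FiniteType Γ(X, V) Γ(U, W) := j.finiteType_appLE hV hW e
  have h2 : Algebra.QuasiFinite Γ(X, V) Γ(U, W) := LocallyQuasiFinite.quasiFinite_appLE hV hW e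
  obtain ⟨I, g, hI, hIp, hg, H⟩ := exists_finite_baseChange (A := Γ(X, V)) (B := Γ(U, W)) p
  refine ⟨I, g, hI, hIp, hg, fun C ψ hψ hu => ?_⟩
  refine fin_preimage j hV hW e ψ ?_
  letI := ψ.hom.toAlgebra
  exact H C hψ hu

/-- spreading out for a finite family of affine opens of `U`. -/
theorem exists_ideal_family [LocallyOfFiniteType j] [LocallyQuasiFinite j] {V : X.Opens}
    (hV : IsAffineOpen V) (p : Ideal Γ(X, V)) [p.IsPrime] {ι : Type*} [Finite ι]
    (W : ι → U.Opens) (hW : ∀ i, IsAffineOpen (W i)) (e : ∀ i, W i ≤ j ⁻¹ᵁ V) :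
    ∃ (I : Ideal Γ(X, V)) (g : Γ(X, V)), I.FG ∧ I ≤ p ∧ g ∉ p ∧
      ∀ (C : CommRingCat.{u}) (ψ : Γ(X, V) ⟶ C), (∀ a ∈ I, ψ.hom a = 0) → IsUnit (ψ.hom g) →
        ∀ i, Fin (pullback.snd j (Spec.map ψ ≫ hV.fromSpec))
          (pullback.fst j (Spec.map ψ ≫ hV.fromSpec) ⁻¹ᵁ W i) := by
  classical
  haveI := Fintype.ofFinite ι
  choose I g hI hIp hg H using fun i => exists_ideal_single j hV p (hW i) (e i)
  refine ⟨⨆ i, I i, ∏ i, g i, Submodule.fg_iSup _ hI, iSup_le hIp, ?_, ?_⟩
  · intro h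
    obtain ⟨i, -, hi⟩ := Ideal.IsPrime.prod_mem_iff.1 h
    exact hg i hi
  · intro C ψ hψ hu i
    refine H i C ψ (fun a ha => hψ a (le_iSup I i ha)) ?_
    exact isUnit_of_dvd_unit (map_dvd ψ.hom (Finset.dvd_prod_of_mem g (Finset.mem_univ i))) hu

/-- the locally closed piece `V(I) ∩ D(g)` of an affine open: scheme, immersion, range. -/
theorem exists_piece [CompactSpace X] [QuasiSeparatedSpace X] {V : X.Opens} (hV : IsAffineOpen V)
    (x : X) (hx : x ∈ V) (I : Ideal Γ(X, V)) (g : Γ(X, V)) (hI : I.FG)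
    (hIp : I ≤ (hV.primeIdealOf ⟨x, hx⟩).asIdeal) (hg : g ∉ (hV.primeIdealOf ⟨x, hx⟩).asIdeal) :
    ∃ (C : CommRingCat.{u}) (ψ : Γ(X, V) ⟶ C), (∀ a ∈ I, ψ.hom a = 0) ∧ IsUnit (ψ.hom g) ∧
      IsImmersion (Spec.map ψ ≫ hV.fromSpec) ∧
      Topology.IsConstructible (Set.range (Spec.map ψ ≫ hV.fromSpec)) ∧
      x ∈ Set.range (Spec.map ψ ≫ hV.fromSpec) := by
  let A := Γ(X, V)
  let gbar : A ⧸ I := Ideal.Quotient.mk I g
  let C₀ := Localization.Away gbar
  let ψ₁ : A ⟶ CommRingCat.of (A ⧸ I) := CommRingCat.ofHom (Ideal.Quotient.mk I)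
  let ψ₂ : CommRingCat.of (A ⧸ I) ⟶ CommRingCat.of C₀ :=
    CommRingCat.ofHom (algebraMap (A ⧸ I) C₀)
  let ψ : A ⟶ CommRingCat.of C₀ := ψ₁ ≫ ψ₂
  have hmap : Spec.map ψ = Spec.map ψ₂ ≫ Spec.map ψ₁ := Spec.map_comp _ _
  haveI : IsOpenImmersion (Spec.map ψ₂) :=
    inferInstanceAs (IsOpenImmersion (Spec.map (CommRingCat.ofHom
      (algebraMap (A ⧸ I) (Localization.Away gbar)))))
  haveI : IsClosedImmersion (Spec.map ψ₁) := IsClosedImmersion.spec_of_quotient_mk I
  have himm : IsImmersion (Spec.map ψ ≫ hV.fromSpec) := by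
    rw [hmap]
    infer_instance
  refine ⟨CommRingCat.of C₀, ψ, ?_, ?_, himm, ?_, ?_⟩
  · intro a ha
    change algebraMap (A ⧸ I) C₀ (Ideal.Quotient.mk I a) = 0
    rw [Ideal.Quotient.eq_zero_iff_mem.2 ha, map_zero]
  · change IsUnit (algebraMap (A ⧸ I) C₀ gbar)
    exact IsLocalization.Away.algebraMap_isUnit gbar
  · -- Chevalley
    have hfp : LocallyOfFinitePresentation (Spec.map ψ ≫ hV.fromSpec) := by
      haveI : LocallyOfFinitePresentation (Spec.map ψ) := by
        rw [HasRingHomProperty.Spec_iff (P := @LocallyOfFinitePresentation)]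
        change (ψ₂.hom.comp ψ₁.hom).FinitePresentation
        refine RingHom.FinitePresentation.comp ?_ ?_
        · change (algebraMap (A ⧸ I) C₀).FinitePresentation
          rw [RingHom.finitePresentation_algebraMap]
          exact IsLocalization.Away.finitePresentation gbar
        · refine RingHom.FinitePresentation.of_surjective _ Ideal.Quotient.mk_surjective ?_
          change (RingHom.ker (Ideal.Quotient.mk I)).FG
          rw [Ideal.mk_ker]
          exact hI
      infer_instance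
    have := (Spec.map ψ ≫ hV.fromSpec).isConstructible_image Topology.IsConstructible.univ
    rwa [Set.image_univ] at this
  · -- the point
    let p := (hV.primeIdealOf ⟨x, hx⟩).asIdeal
    have hker : RingHom.ker (Ideal.Quotient.mk I) ≤ p := by rw [Ideal.mk_ker]; exact hIp
    let pbar : PrimeSpectrum (A ⧸ I) :=
      ⟨p.map (Ideal.Quotient.mk I), Ideal.map_isPrime_of_surjective Ideal.Quotient.mk_surjective hker⟩
    have hcomap : (pbar.asIdeal).comap (Ideal.Quotient.mk I) = p :=
      Ideal.comap_map_of_surjective' _ Ideal.Quotient.mk_surjective _ |>.trans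
        (sup_eq_left.2 hker)
    have hmem : pbar ∈ Set.range (PrimeSpectrum.comap (algebraMap (A ⧸ I) C₀)) := by
      rw [PrimeSpectrum.localization_away_comap_range C₀ gbar]
      change gbar ∉ pbar.asIdeal
      intro h
      apply hg
      have : g ∈ (pbar.asIdeal).comap (Ideal.Quotient.mk I) := h
      rwa [hcomap] at this
    obtain ⟨q, hq⟩ := hmem
    refine ⟨q, ?_⟩
    rw [Scheme.Hom.comp_apply]
    have h1 : Spec.map ψ q = hV.primeIdealOf ⟨x, hx⟩ := by
      apply PrimeSpectrum.ext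
      change (q.asIdeal.comap (algebraMap (A ⧸ I) C₀)).comap (Ideal.Quotient.mk I) = p
      have : q.asIdeal.comap (algebraMap (A ⧸ I) C₀) = pbar.asIdeal :=
        congrArg PrimeSpectrum.asIdeal hq
      rw [this, hcomap]
    rw [h1, hV.fromSpec_primeIdealOf]

/-- finite affine covers of compact opens, as opens -/
lemma exists_affine_cover_eq (O : U.Opens) (hO : IsCompact (O : Set U)) :
    ∃ (m : ℕ) (W : Fin m → U.Opens), (∀ k, IsAffineOpen (W k)) ∧ (∀ k, W k ≤ O) ∧
      (⨆ k, W k) = O := by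
  obtain ⟨m, W, hW, hcov⟩ := StrataLib.exists_finite_affine_cover hO
    (fun W => IsAffineOpen W ∧ W ≤ O) (fun u hu => by
      obtain ⟨_, ⟨W, hW, rfl⟩, huW, hWO⟩ :=
        U.isBasis_affineOpens.exists_subset_of_mem_open hu O.isOpen
      exact ⟨W, huW, hW, hWO⟩)
  refine ⟨m, W, fun k => (hW k).1, fun k => (hW k).2, le_antisymm (iSup_le fun k => (hW k).2) ?_⟩
  intro u hu
  obtain ⟨k, hk⟩ := Set.mem_iUnion.1 (hcov hu)
  exact Opens.mem_iSup.2 ⟨k, hk⟩

/-- **Local statement**: every point of `X` lies in a constructible locally closed subscheme over which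
`j` becomes finite. -/
theorem exists_local [LocallyOfFiniteType j] [LocallyQuasiFinite j] [QuasiCompact j]
    [QuasiSeparatedSpace U] [CompactSpace X] [QuasiSeparatedSpace X] (x : X) :
    ∃ (T : Scheme.{u}) (g : T ⟶ X), IsImmersion g ∧ Topology.IsConstructible (Set.range g) ∧
      x ∈ Set.range g ∧ IsFinite (pullback.snd j g) := by
  obtain ⟨_, ⟨V, hV, rfl⟩, hxV, -⟩ :=
    X.isBasis_affineOpens.exists_subset_of_mem_open (Set.mem_univ x) isOpen_univ
  have hc : IsCompact ((j ⁻¹ᵁ V : U.Opens) : Set U) :=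
    QuasiCompact.isCompact_preimage (f := j) _ V.isOpen hV.isCompact
  obtain ⟨m, W, hWa, hWle, hWsup⟩ := exists_affine_cover_eq (j ⁻¹ᵁ V) hc
  have hc2 : ∀ k l, IsCompact ((W k ⊓ W l : U.Opens) : Set U) := fun k l =>
    QuasiSeparatedSpace.inter_isCompact _ _ (W k).isOpen (hWa k).isCompact (W l).isOpen
      (hWa l).isCompact
  choose m' W' hW'a hW'le hW'sup using fun k l => exists_affine_cover_eq (W k ⊓ W l) (hc2 k l)
  -- the finite family of all affine opens involved
  let ι := Fin m ⊕ (Σ kl : Fin m × Fin m, Fin (m' kl.1 kl.2))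
  let Wall : ι → U.Opens := Sum.elim W (fun a => W' a.1.1 a.1.2 a.2)
  have hall_a : ∀ i, IsAffineOpen (Wall i) := by
    rintro (k | ⟨⟨k, l⟩, a⟩)
    · exact hWa k
    · exact hW'a k l a
  have hall_le : ∀ i, Wall i ≤ j ⁻¹ᵁ V := by
    rintro (k | ⟨⟨k, l⟩, a⟩)
    · exact hWle k
    · exact (hW'le k l a).trans (inf_le_left.trans (hWle k))
  obtain ⟨I, g, hI, hIp, hg, H⟩ := exists_ideal_family j hV
    (hV.primeIdealOf ⟨x, hxV⟩).asIdeal Wall hall_a hall_le
  obtain ⟨C, ψ, hψI, hψg, himm, hcons, hxr⟩ := exists_piece hV x hxV I g hI hIp hg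
  refine ⟨Spec C, Spec.map ψ ≫ hV.fromSpec, himm, hcons, hxr, ?_⟩
  have HF := H C ψ hψI hψg
  set gT := Spec.map ψ ≫ hV.fromSpec with hgT
  set fst := pullback.fst j gT with hfst
  apply Fin.isFinite_of_top
  have htop : (⨆ k, fst ⁻¹ᵁ W k) = ⊤ := by
    rw [← Scheme.Hom.preimage_iSup, hWsup, eq_top_iff]
    intro y _
    change j (fst y) ∈ V
    have hcond : j (fst y) = gT (pullback.snd j gT y) := by
      rw [← Scheme.Hom.comp_apply, ← Scheme.Hom.comp_apply, hfst, pullback.condition]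
    rw [hcond]
    have : gT (pullback.snd j gT y) ∈ Set.range hV.fromSpec :=
      ⟨Spec.map ψ (pullback.snd j gT y), (Scheme.Hom.comp_apply _ _ _).symm⟩
    rwa [hV.range_fromSpec] at this
  rw [← htop]
  refine Fin.iSup (fun k => fst ⁻¹ᵁ W k) (fun k => HF (Sum.inl k)) (fun k l => ?_)
  refine ⟨Fin (m' k l), inferInstance, fun a => fst ⁻¹ᵁ W' k l a,
    fun a => HF (Sum.inr ⟨⟨k, l⟩, a⟩), ?_⟩
  rw [← Scheme.Hom.preimage_iSup, hW'sup k l, Scheme.Hom.preimage_inf]

/-- étale morphisms are locally quasi-finite -/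
theorem locallyQuasiFinite_of_etale [Etale j] : LocallyQuasiFinite j := by
  refine ⟨fun {V} hV {W} hW e => ?_⟩
  have h : (j.appLE V W e).hom.Etale :=
    HasRingHomProperty.appLE (P := @Etale) j inferInstance ⟨V, hV⟩ ⟨W, hW⟩ e
  letI := (j.appLE V W e).hom.toAlgebra
  have h' : Algebra.Etale Γ(X, V) Γ(U, W) := h
  change Algebra.QuasiFinite Γ(X, V) Γ(U, W)
  infer_instance

/-- the property of a stratum: `j` becomes finite over it -/
def PFin : ∀ (T : Scheme.{u}), (T ⟶ X) → Prop := fun _ g => IsFinite (pullback.snd j g)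

lemma pFin_comp {T T' : Scheme.{u}} (h : T' ⟶ T) (g : T ⟶ X) (hg : PFin j T g) :
    PFin j T' (h ≫ g) := by
  haveI : IsFinite (pullback.snd j g) := hg
  have h1 : IsPullback (pullback.fst (pullback.snd j g) h ≫ pullback.fst j g)
      (pullback.snd (pullback.snd j g) h) j (h ≫ g) :=
    (IsPullback.of_hasPullback (pullback.snd j g) h).paste_horiz (IsPullback.of_hasPullback j g)
  exact isFinite_of_isPullback h1 (IsPullback.of_hasPullback j (h ≫ g))

open StrataLib ConstrCover in
/-- **Stratification**: for `j` quasi-finite, of finite type, between qcqs schemes, there is a finite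
partition of `X` into constructible locally closed subschemes over which `j` is finite. -/
theorem strata_finite [LocallyOfFiniteType j] [LocallyQuasiFinite j] [CompactSpace U]
    [QuasiSeparatedSpace U] [CompactSpace X] [QuasiSeparatedSpace X] :
    Strata (PFin j) (Set.univ : Set X) := by
  choose T g h1 h2 h3 h4 using fun x : X => exists_local j x
  refine Strata.of_constructible_cover (P := PFin j) (fun h g hg => pFin_comp j h g hg)
    T g h1 h2 ?_ (fun x => ?_)
  · rw [Set.eq_univ_iff_forall]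
    exact fun x => Set.mem_iUnion.2 ⟨x, h3 x⟩
  · refine Strata.of_finite Unit (fun _ => T x) (fun _ => 𝟙 (T x)) (fun _ => inferInstance)
      (fun _ => ?_) (fun a b hab => (hab (Subsingleton.elim a b)).elim) ?_ (fun _ => ?_)
    · have : Set.range (𝟙 (T x) : T x ⟶ T x) = Set.univ := by
        rw [Set.range_eq_univ]
        exact fun y => ⟨y, rfl⟩
      rw [this, Set.preimage_univ]
      exact Topology.IsConstructible.univ
    · rw [Set.eq_univ_iff_forall]
      exact fun y => Set.mem_iUnion.2 ⟨(), y, rfl⟩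
    · rw [Category.id_comp]
      exact h4 x

end Groth.Agent.Lib.Helper43.FinStrat
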