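import Mathlib
import Groth.Prelude
import Groth.Agent.Lib.Helper43.LCHom
import Groth.Agent.Lib.Helper43.EtConstrStalk
import Groth.Agent.Lib.Helper43.EtStalk
import Groth.Agent.S0182
import Groth.Agent.S0133

/-!
# Generating abelian étale sheaves killed by `n` by the sheaves `j_! ℤ/n`
-/

set_option autoImplicit false
universe u
open CategoryTheory CategoryTheory.Limits AlgebraicGeometry Opposite Topology

namespace Groth.Agent.Lib.Helper43.JShriekGen

open Groth.Agent.Lib.Helper43 Groth.Agent.Lib.Helper43.ConstSheaf Groth.Agent.Lib.Helper43.LCHom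

variable {X : Scheme.{u}} (n : ℕ)

/-- the value group of the constant sheaf `ℤ/n` -/
abbrev Nn : AddCommGrpCat.{u + 1} := AddCommGrpCat.of (ULift.{u + 1} (ZMod n))

section Sigma

variable {n} {F : EtCoh.Ab X} (hF : EtCoh.KilledBy n F) (U : X.Etale) (s : F.obj.obj (op U))

/-- the homomorphism `ℤ/n → F(U)`, `1 ↦ s` -/
noncomputable def zHom : ZMod n →+ F.obj.obj (op U) :=
  ZMod.lift n ⟨zmultiplesHom (F.obj.obj (op U)) s, by simpa using hF U s⟩

lemma zHom_one : zHom hF U s 1 = s := by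
  have h := ZMod.lift_coe n ⟨zmultiplesHom (F.obj.obj (op U)) s, by simpa using hF U s⟩ 1
  simpa [zHom] using h

/-- the homomorphism `ℤ/n → F(U)`, `1 ↦ s`, on the lifted group -/
noncomputable def tHom : Nn.{u} n ⟶ (F.over U).obj.obj (op (Over.mk (𝟙 U))) :=
  AddCommGrpCat.ofHom ((zHom hF U s).comp AddEquiv.ulift.toAddMonoidHom)

lemma tHom_one : tHom hF U s ⟨1⟩ = s := zHom_one hF U s

/-- the map `j_! ℤ/n → F` attached to a section `s ∈ F(U)` -/
noncomputable def σ : EtPBC.extZeroConst U (ZMod n) ⟶ F :=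
  ((EtPBC.extZeroAdj U).homEquiv (EtPBC.constOver U (ZMod n)) F).symm
    (K_desc (X.smallEtaleTopology.over U) Over.mkIdTerminal (M := Nn.{u} n) (G := F.over U)
      (tHom hF U s))

/-- the tautological section of `j_! ℤ/n` over `U` -/
noncomputable def taut : (EtPBC.extZeroConst U (ZMod n)).obj.obj (op U) :=
  ((EtPBC.extZeroAdj U).unit.app (EtPBC.constOver U (ZMod n))).hom.app (op (Over.mk (𝟙 U)))
    (cst (X.smallEtaleTopology.over U) (Nn.{u} n) (Over.mk (𝟙 U)) ⟨1⟩)

lemma σ_taut : (σ hF U s).hom.app (op U) (taut (n := n) U) = s := by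
  have h1 : (EtPBC.extZeroAdj U).unit.app (EtPBC.constOver U (ZMod n)) ≫
      (X.smallEtaleTopology.overPullback AddCommGrpCat.{u + 1} U).map (σ hF U s) =
      K_desc (X.smallEtaleTopology.over U) Over.mkIdTerminal (tHom hF U s) := by
    have h0 := ((EtPBC.extZeroAdj U).homEquiv (EtPBC.constOver U (ZMod n)) F).apply_symm_apply
      (K_desc (X.smallEtaleTopology.over U) Over.mkIdTerminal (M := Nn.{u} n) (G := F.over U)
        (tHom hF U s))
    rw [Adjunction.homEquiv_unit] at h0
    exact h0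
  have h2 := congrArg (fun k => k.hom.app (op (Over.mk (𝟙 U)))
    (cst (X.smallEtaleTopology.over U) (Nn.{u} n) (Over.mk (𝟙 U)) ⟨1⟩)) h1
  have h3 := K_desc_cst (X.smallEtaleTopology.over U) Over.mkIdTerminal (tHom hF U s) ⟨1⟩
  exact (h2.trans h3).trans (tHom_one hF U s)

end Sigma

section Gen

open Groth.Agent.Lib.Helper43.EtSupp Groth.Agent.Lib.Helper43.EtConstrStalk
  Groth.Agent.Lib.Helper43.EtConstrSerre Groth.Agent.Lib.Helper43.EtStalk

attribute [local instance] Classical.propDecidable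

/-- sections of `F` over affine étale `X`-schemes -/
structure Sec (F : EtCoh.Ab X) where
  U : X.Etale
  aff : IsAffine U.left
  s : F.obj.obj (op U)

variable {n} {F : EtCoh.Ab X} (hF : EtCoh.KilledBy n F)

/-- the source of the generating map -/
noncomputable abbrev genSrc (T : Finset (Sec F)) : EtCoh.Ab X :=
  ⨁ fun i : T => EtPBC.extZeroConst i.1.U (ZMod n)

/-- the map `⨁_{(U,s) ∈ T} j_{U!} ℤ/n ⟶ F` -/
noncomputable def gen (T : Finset (Sec F)) : genSrc (n := n) T ⟶ F :=
  biproduct.desc (fun i : T => σ hF i.1.U i.1.s)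

lemma ι_gen (T : Finset (Sec F)) (i : T) :
    biproduct.ι (fun i : T => EtPBC.extZeroConst i.1.U (ZMod n)) i ≫ gen hF T =
      σ hF i.1.U i.1.s := by
  rw [gen, biproduct.ι_desc]

lemma exists_fac_gen {T T' : Finset (Sec F)} (h : T ⊆ T') :
    ∃ ρ : genSrc (n := n) T ⟶ genSrc (n := n) T', ρ ≫ gen hF T' = gen hF T := by
  refine ⟨biproduct.desc (fun i : T =>
    biproduct.ι (fun i : T' => EtPBC.extZeroConst i.1.U (ZMod n)) ⟨i.1, h i.2⟩), ?_⟩
  apply biproduct.hom_ext'
  intro i
  rw [biproduct.ι_desc_assoc, ι_gen, ι_gen]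

lemma isZero_stalk_cokernel_mono {T T' : Finset (Sec F)} (h : T ⊆ T')
    {Ω : Type u} [Field Ω] [IsSepClosed Ω] (ξ : Spec (CommRingCat.of Ω) ⟶ X)
    (hz : IsZero ((EtCoh.stalk ξ).obj (cokernel (gen hF T)))) :
    IsZero ((EtCoh.stalk ξ).obj (cokernel (gen hF T'))) := by
  obtain ⟨ρ, hρ⟩ := exists_fac_gen hF h
  let d : cokernel (gen hF T) ⟶ cokernel (gen hF T') :=
    cokernel.desc (gen hF T) (cokernel.π (gen hF T')) (by
      rw [← hρ, Category.assoc, cokernel.condition, comp_zero])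
  have hd : cokernel.π (gen hF T) ≫ d = cokernel.π (gen hF T') := cokernel.π_desc _ _ _
  have : Epi d := epi_of_epi_fac hd
  have hs := (epi_iff_stalks_ab d).1 inferInstance Ω ξ
  have h1 : Subsingleton ((EtCoh.stalk ξ).obj (cokernel (gen hF T))) :=
    AddCommGrpCat.subsingleton_of_isZero hz
  have h2 : Subsingleton ((EtCoh.stalk ξ).obj (cokernel (gen hF T'))) := by
    refine ⟨fun a b => ?_⟩
    obtain ⟨a', rfl⟩ := hs a
    obtain ⟨b', rfl⟩ := hs b
    rw [Subsingleton.elim a' b']
  exact AddCommGrpCat.isZero_of_subsingleton _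

lemma supp_cokernel_anti {T T' : Finset (Sec F)} (h : T ⊆ T') :
    EtPBC.supp (cokernel (gen hF T')) ⊆ EtPBC.supp (cokernel (gen hF T)) := by
  intro x hx
  rw [mem_supp_iff] at hx ⊢
  obtain ⟨Ω, _, _, ξ, hξ, hnz⟩ := hx
  exact ⟨Ω, inferInstance, inferInstance, ξ, hξ,
    fun hz => hnz (isZero_stalk_cokernel_mono hF h ξ hz)⟩

/-- affine refinement of an étale neighbourhood of a geometric point -/
lemma exists_affine_refinement {Ω : Type u} [Field Ω] [IsSepClosed Ω]
    (ξ : Spec (CommRingCat.of Ω) ⟶ X) (U : X.Etale)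
    (y : (Scheme.pointSmallEtale ξ).fiber.obj U) :
    ∃ (U' : X.Etale) (_ : IsAffine U'.left) (f : U' ⟶ U)
      (y' : (Scheme.pointSmallEtale ξ).fiber.obj U'),
      (Scheme.pointSmallEtale ξ).fiber.map f y' = y := by
  let l₀ : Spec (CommRingCat.of Ω) ⟶ U.left := y.left
  let g : U.left ⟶ X := U.hom
  have hg : Etale g := U.prop
  have hw : l₀ ≫ g = ξ := Over.w y
  obtain ⟨R, j, hj, hmem, -⟩ := Scheme.exists_affine_mem_range_and_range_subset
    (x := l₀.base default) (U := (⊤ : U.left.Opens)) trivial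
  have hr : Set.range l₀.base ⊆ Set.range j.base := by
    rintro _ ⟨a, rfl⟩
    rwa [Subsingleton.elim a default]
  let l : Spec (CommRingCat.of Ω) ⟶ Spec R := IsOpenImmersion.lift j l₀ hr
  have hl : l ≫ j = l₀ := IsOpenImmersion.lift_fac j l₀ hr
  have hjg : Etale (j ≫ g) := inferInstance
  refine ⟨MorphismProperty.Over.mk ⊤ (j ≫ g) hjg,
    inferInstanceAs (IsAffine (Spec R)), MorphismProperty.Over.homMk j rfl,
    Over.homMk l ?_, ?_⟩
  · change l ≫ j ≫ g = ξ
    rw [← Category.assoc, hl, hw]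
  · apply Over.OverMorphism.ext
    exact hl

variable [NeZero n]

lemma constructible_genSrc [CompactSpace X] [QuasiSeparatedSpace X] (T : Finset (Sec F)) :
    EtPBC.IsConstructible (genSrc (n := n) T) := by
  apply constructible_biproduct
  intro i
  have := i.1.aff
  exact Groth.Agent.S0133.result X i.1.U (ZMod n)

variable [CompactSpace X] [QuasiSeparatedSpace X] (hFc : EtPBC.IsConstructible F)

include hFc in
lemma constructible_cokernel_gen (T : Finset (Sec F)) :
    EtPBC.IsConstructible (cokernel (gen hF T)) :=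
  (constructible_kernel_cokernel (gen hF T) (constructible_genSrc T) hFc).2

include hFc in
/-- local generation at a point -/
theorem exists_local_gen (x : X) :
    ∃ T : Finset (Sec F), x ∉ EtPBC.supp (cokernel (gen hF T)) := by
  obtain ⟨Ω, _, _, ξ, hξ⟩ := exists_geomPt x
  have hfin : Finite ((EtCoh.stalk ξ).obj F) := finite_stalk F hFc ξ
  have key : ∀ z : (EtCoh.stalk ξ).obj F, ∃ (c : Sec F)
      (w : (EtCoh.stalk ξ).obj (EtPBC.extZeroConst c.U (ZMod n))),
      (EtCoh.stalk ξ).map (σ hF c.U c.s) w = z := by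
    intro z
    obtain ⟨U, y, t, rfl⟩ := (Scheme.pointSmallEtale ξ).toPresheafFiber_jointly_surjective z
    obtain ⟨U', hU', f, y', rfl⟩ := exists_affine_refinement ξ U y
    refine ⟨⟨U', hU', F.obj.map f.op t⟩,
      (Scheme.pointSmallEtale ξ).toPresheafFiber U' y' (EtPBC.extZeroConst U' (ZMod n)).obj
        (taut (n := n) U'), ?_⟩
    have h1 := (Scheme.pointSmallEtale ξ).toPresheafFiber_naturality_apply
      (σ hF U' (F.obj.map f.op t)).hom U' y' (taut (n := n) U')
    refine h1.trans ?_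
    rw [σ_taut]
    exact (Scheme.pointSmallEtale ξ).toPresheafFiber_w_apply f y' F.obj t
  choose c w hw using key
  have := Fintype.ofFinite ((EtCoh.stalk ξ).obj F)
  refine ⟨Finset.univ.image c, ?_⟩
  have hsurj : Function.Surjective ((EtCoh.stalk ξ).map (gen hF (Finset.univ.image c))) := by
    intro z
    have hmem : c z ∈ Finset.univ.image c := Finset.mem_image_of_mem c (Finset.mem_univ z)
    refine ⟨(EtCoh.stalk ξ).map (biproduct.ι
      (fun i : (Finset.univ.image c : Finset (Sec F)) => EtPBC.extZeroConst i.1.U (ZMod n))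
      ⟨c z, hmem⟩) (w z), ?_⟩
    have h2 := congrArg (fun k => (EtCoh.stalk ξ).map k (w z))
      (ι_gen hF (Finset.univ.image c) ⟨c z, hmem⟩)
    simp only [Functor.map_comp] at h2
    exact h2.trans (hw z)
  have hz : IsZero ((EtCoh.stalk ξ).obj (cokernel (gen hF (Finset.univ.image c)))) := by
    have e := PreservesCokernel.iso (EtCoh.stalk ξ) (gen hF (Finset.univ.image c))
    have : Epi ((EtCoh.stalk ξ).map (gen hF (Finset.univ.image c))) :=
      (AddCommGrpCat.epi_iff_surjective _).2 hsurj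
    exact IsZero.of_iso (isZero_cokernel_of_epi _) e
  have := not_mem_supp_of_isZero_stalk _ (constructible_cokernel_gen hF hFc _) ξ hz
  rwa [hξ] at this

include hFc in
/-- global generation by finitely many sections over affine étale schemes -/
theorem exists_epi_gen : ∃ T : Finset (Sec F), Epi (gen hF T) := by
  let R : Finset (Sec F) → Set X := fun T => (EtPBC.supp (cokernel (gen hF T)))ᶜ
  have hR : ∀ T, IsConstructible (R T) := fun T =>
    (Groth.Agent.S0182.isConstructible_supp X _ (constructible_cokernel_gen hF hFc T)).compl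
  have hcov : ⋃ T, R T = Set.univ := by
    rw [Set.eq_univ_iff_forall]
    intro x
    obtain ⟨T, hT⟩ := exists_local_gen hF hFc x
    exact Set.mem_iUnion.2 ⟨T, hT⟩
  obtain ⟨t, ht⟩ := ConstrCover.exists_finite_subcover_of_isConstructible R hR hcov
  refine ⟨t.biUnion id, ?_⟩
  have hz : IsZero (cokernel (gen hF (t.biUnion id))) := by
    apply isZero_of_stalks_ab
    intro Ω _ _ ξ
    by_contra hnz
    obtain ⟨T, hT, hx⟩ := ht (ξ default)
    have hsub : T ⊆ t.biUnion id := Finset.subset_biUnion_of_mem id hT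
    apply hx
    apply supp_cokernel_anti hF hsub
    rw [mem_supp_iff]
    exact ⟨Ω, inferInstance, inferInstance, ξ, rfl, hnz⟩
  exact Preadditive.epi_of_isZero_cokernel _ hz

end Gen

section Killed

variable {n}

/-- evaluation of morphisms of sheaves at an object, as an additive map -/
def appHom (P Q : EtCoh.Ab X) (U : X.Etaleᵒᵖ) : (P ⟶ Q) →+ (P.obj.obj U ⟶ Q.obj.obj U) where
  toFun f := f.hom.app U
  map_zero' := rfl
  map_add' _ _ := rfl

lemma killedBy_iff {G : EtCoh.Ab X} : EtCoh.KilledBy n G ↔ n • 𝟙 G = 0 := by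
  constructor
  · intro h
    apply Sheaf.hom_ext
    ext U s
    have h1 : (n • 𝟙 G).hom.app U = n • (𝟙 G : G ⟶ G).hom.app U := map_nsmul (appHom G G U) n (𝟙 G)
    rw [h1]
    change n • s = 0
    exact h U.unop s
  · intro h U s
    have h1 : (n • 𝟙 G).hom.app (op U) = n • (𝟙 G : G ⟶ G).hom.app (op U) :=
      map_nsmul (appHom G G (op U)) n (𝟙 G)
    have h2 := congrArg (fun k => k.hom.app (op U) s) h
    simp only [h1] at h2
    exact h2

lemma nsmul_id_of_mono {K A : EtCoh.Ab X} (ι : K ⟶ A) [Mono ι] (hA : n • 𝟙 A = 0) :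
    n • 𝟙 K = 0 := by
  rw [← cancel_mono ι, Preadditive.nsmul_comp, Category.id_comp, zero_comp,
    ← Category.comp_id ι, ← Preadditive.comp_nsmul, hA, comp_zero]

lemma nsmul_id_biproduct {ι : Type*} [Finite ι] (A : ι → EtCoh.Ab X) (h : ∀ i, n • 𝟙 (A i) = 0) :
    n • 𝟙 (⨁ A) = 0 := by
  apply biproduct.hom_ext'
  intro i
  rw [Preadditive.comp_nsmul, Category.comp_id, comp_zero, ← Category.id_comp (biproduct.ι A i),
    ← Preadditive.nsmul_comp, h i, zero_comp]

lemma nsmul_id_Nn : n • 𝟙 (Nn.{u} n) = 0 := by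
  ext ⟨x⟩
  change n • x = 0
  simp

instance additive_extZero (U : X.Etale) : (EtPBC.extZero U).Additive :=
  (EtPBC.extZeroAdj U).left_adjoint_additive

lemma nsmul_id_extZeroConst (U : X.Etale) : n • 𝟙 (EtPBC.extZeroConst U (ZMod n)) = 0 := by
  have h1 : n • 𝟙 (EtPBC.constOver U (ZMod n)) = 0 := by
    change n • 𝟙 ((constantSheaf (X.smallEtaleTopology.over U) AddCommGrpCat.{u + 1}).obj (Nn.{u} n)) = 0
    rw [← (constantSheaf (X.smallEtaleTopology.over U) AddCommGrpCat.{u + 1}).map_id,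
      ← Functor.map_nsmul, nsmul_id_Nn, Functor.map_zero]
  change n • 𝟙 ((EtPBC.extZero U).obj (EtPBC.constOver U (ZMod n))) = 0
  rw [← (EtPBC.extZero U).map_id, ← Functor.map_nsmul, h1, Functor.map_zero]

end Killed

section Presentation

open Groth.Agent.Lib.Helper43.EtConstrSerre

variable {n} [NeZero n] [CompactSpace X] [QuasiSeparatedSpace X]

omit [NeZero n] [CompactSpace X] [QuasiSeparatedSpace X] in
/-- reindexing the source of `gen` by `Fin` -/
lemma exists_fin_model {F : EtCoh.Ab X} (T : Finset (Sec F)) :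
    ∃ (b : ℕ) (U : Fin b → X.Etale) (_ : ∀ i, IsAffine (U i).left),
      Nonempty ((⨁ fun i => EtPBC.extZeroConst (U i) (ZMod n)) ≅ genSrc (n := n) T) := by
  let e : Fin T.card ≃ T := T.equivFin.symm
  refine ⟨T.card, fun k => (e k).1.U, fun k => (e k).1.aff, ⟨?_⟩⟩
  exact biproduct.whiskerEquiv (f := fun k => EtPBC.extZeroConst (e k).1.U (ZMod n))
    (g := fun i : T => EtPBC.extZeroConst i.1.U (ZMod n)) e (fun k => Iso.refl _)

/-- a constructible sheaf killed by `n` is the cokernel of a map between finite direct sums of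
sheaves `j_! ℤ/n` with affine étale `j` -/
theorem exists_presentation (F : EtCoh.Ab X) (hFc : EtPBC.IsConstructible F)
    (hF : EtCoh.KilledBy n F) :
    ∃ (a b : ℕ) (V : Fin a → X.Etale) (U : Fin b → X.Etale) (_ : ∀ j, IsAffine (V j).left)
      (_ : ∀ i, IsAffine (U i).left)
      (φ : (⨁ fun j => EtPBC.extZeroConst (V j) (ZMod n)) ⟶
        ⨁ fun i => EtPBC.extZeroConst (U i) (ZMod n)),
      Nonempty (F ≅ cokernel φ) := by
  obtain ⟨T, hT⟩ := exists_epi_gen hF hFc
  have hKc : EtPBC.IsConstructible (kernel (gen hF T)) :=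
    (constructible_kernel_cokernel (gen hF T) (constructible_genSrc T) hFc).1
  have hK : EtCoh.KilledBy n (kernel (gen hF T)) := by
    rw [killedBy_iff]
    exact nsmul_id_of_mono (kernel.ι (gen hF T))
      (nsmul_id_biproduct _ (fun i => nsmul_id_extZeroConst i.1.U))
  obtain ⟨T', hT'⟩ := exists_epi_gen hK hKc
  obtain ⟨a, V, hV, ⟨α⟩⟩ := exists_fin_model (n := n) T'
  obtain ⟨b, U, hU, ⟨β⟩⟩ := exists_fin_model (n := n) T
  let φ₀ := gen hK T' ≫ kernel.ι (gen hF T)
  refine ⟨a, b, V, U, hV, hU, α.hom ≫ φ₀ ≫ β.inv, ⟨?_⟩⟩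
  have e1 : cokernel (kernel.ι (gen hF T)) ≅ F :=
    (colimit.isColimit _).coconePointUniqueUpToIso
      (Abelian.epiIsCokernelOfKernel _ (limit.isLimit (parallelPair (gen hF T) 0)))
  have e2 : cokernel φ₀ ≅ cokernel (kernel.ι (gen hF T)) := cokernelEpiComp _ _
  have e3 : cokernel (α.hom ≫ φ₀ ≫ β.inv) ≅ cokernel φ₀ :=
    cokernelEpiComp α.hom (φ₀ ≫ β.inv) ≪≫ cokernelCompIsIso φ₀ β.inv
  exact (e3 ≪≫ e2 ≪≫ e1).symm

end Presentation

end Groth.Agent.Lib.Helper43.JShriekGen
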