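import Mathlib
import Groth.Prelude
import Groth.Agent.Lib.Helper43.JShriekGen

/-!
# A constructible abelian sheaf on a qcqs scheme is killed by a positive integer
-/

set_option autoImplicit false
universe u
open CategoryTheory CategoryTheory.Limits AlgebraicGeometry Opposite Topology

namespace Groth.Agent.Lib.Helper43.EtConstrTorsion

open Groth.Agent.Lib.Helper43 Groth.Agent.Lib.Helper43.EtSupp Groth.Agent.Lib.Helper43.EtConstrStalk
  Groth.Agent.Lib.Helper43.EtConstrSerre Groth.Agent.Lib.Helper43.EtStalk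
  Groth.Agent.Lib.Helper43.JShriekGen

variable {X : Scheme.{u}}

section Img

variable {F G : EtCoh.Ab X} (g : F ⟶ G) {Ω : Type u} [Field Ω] [IsSepClosed Ω]
  (ξ : Spec (CommRingCat.of Ω) ⟶ X)

lemma isZero_stalk_image (h : (EtCoh.stalk ξ).map g = 0) :
    IsZero ((EtCoh.stalk ξ).obj (Abelian.image g)) := by
  have hp := (epi_iff_stalks_ab (Abelian.factorThruImage g)).1 inferInstance Ω ξ
  have hι := (mono_iff_stalks_ab (Abelian.image.ι g)).1 inferInstance Ω ξ
  have hfac : (EtCoh.stalk ξ).map (Abelian.factorThruImage g) ≫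
      (EtCoh.stalk ξ).map (Abelian.image.ι g) = 0 := by
    rw [← Functor.map_comp, Abelian.image.fac, h]
  have : Subsingleton ((EtCoh.stalk ξ).obj (Abelian.image g)) := by
    refine ⟨fun a b => ?_⟩
    apply hι
    obtain ⟨a', rfl⟩ := hp a
    obtain ⟨b', rfl⟩ := hp b
    have ha := congrArg (fun k => k.hom a') hfac
    have hb := congrArg (fun k => k.hom b') hfac
    exact ha.trans hb.symm
  exact AddCommGrpCat.isZero_of_subsingleton _

lemma stalk_map_eq_zero_of_isZero_image
    (h : IsZero ((EtCoh.stalk ξ).obj (Abelian.image g))) : (EtCoh.stalk ξ).map g = 0 := by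
  rw [← Abelian.image.fac g, Functor.map_comp,
    h.eq_of_tgt ((EtCoh.stalk ξ).map (Abelian.factorThruImage g)) 0, zero_comp]

end Img

lemma eq_zero_of_stalks {F G : EtCoh.Ab X} (g : F ⟶ G)
    (h : ∀ (Ω : Type u) [Field Ω] [IsSepClosed Ω] (ξ : Spec (CommRingCat.of Ω) ⟶ X),
      (EtCoh.stalk ξ).map g = 0) : g = 0 := by
  have hz : IsZero (Abelian.image g) :=
    isZero_of_stalks_ab _ (fun Ω _ _ ξ => isZero_stalk_image g ξ (h Ω ξ))
  rw [← Abelian.image.fac g, hz.eq_of_tgt (Abelian.factorThruImage g) 0, zero_comp]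

lemma card_nsmul_id (N : AddCommGrpCat.{u + 1}) [Finite N] : Nat.card N • 𝟙 N = 0 := by
  ext x
  change Nat.card N • x = 0
  exact card_nsmul_eq_zero'

lemma nsmul_id_of_iso {A B : AddCommGrpCat.{u + 1}} (e : A ≅ B) (m : ℕ) (h : m • 𝟙 B = 0) :
    m • 𝟙 A = 0 := by
  rw [← e.hom_inv_id, ← Category.id_comp e.inv, ← Category.assoc, ← Preadditive.nsmul_comp,
    ← Preadditive.comp_nsmul, h, comp_zero, zero_comp]

variable [CompactSpace X] [QuasiSeparatedSpace X]

/-- a constructible abelian sheaf on a quasi-compact quasi-separated scheme is killed by a positive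
integer -/
theorem exists_killedBy (F : EtCoh.Ab X) (hFc : EtPBC.IsConstructible F) :
    ∃ n : ℕ, 0 < n ∧ EtCoh.KilledBy n F := by
  let f : ℕ → (F ⟶ F) := fun m => m.factorial • 𝟙 F
  have hGc : ∀ m, EtPBC.IsConstructible (Abelian.image (f m)) := fun m =>
    (constructible_kernel_cokernel (cokernel.π (f m)) hFc
      (constructible_kernel_cokernel (f m) hFc hFc).2).1
  let R : ℕ → Set X := fun m => (EtPBC.supp (Abelian.image (f m)))ᶜ
  have hR : ∀ m, IsConstructible (R m) := fun m =>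
    (Groth.Agent.S0182.isConstructible_supp X _ (hGc m)).compl
  have hSf : ∀ (m : ℕ) (Ω : Type u) [Field Ω] [IsSepClosed Ω] (ξ : Spec (CommRingCat.of Ω) ⟶ X),
      (EtCoh.stalk ξ).map (f m) = m.factorial • 𝟙 _ := by
    intro m Ω _ _ ξ
    rw [Functor.map_nsmul, CategoryTheory.Functor.map_id]
  have hcov : ⋃ m, R m = Set.univ := by
    rw [Set.eq_univ_iff_forall]
    intro x
    obtain ⟨N, hN, hst⟩ := exists_stalk_model F hFc x
    obtain ⟨Ω, _, _, ξ, hξ⟩ := exists_geomPt x
    obtain ⟨e⟩ := hst Ω ξ hξ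
    refine Set.mem_iUnion.2 ⟨Nat.card N, ?_⟩
    have hpos : 0 < Nat.card N := Nat.card_pos
    have h1 : (Nat.card N).factorial • 𝟙 N = 0 := by
      obtain ⟨k, hk⟩ := Nat.dvd_factorial hpos le_rfl
      rw [hk, mul_comm, mul_smul, card_nsmul_id, smul_zero]
    have h2 : (EtCoh.stalk ξ).map (f (Nat.card N)) = 0 := by
      rw [hSf]
      exact nsmul_id_of_iso e _ h1
    have := not_mem_supp_of_isZero_stalk _ (hGc (Nat.card N)) ξ (isZero_stalk_image _ ξ h2)
    rwa [hξ] at this
  obtain ⟨t, ht⟩ := ConstrCover.exists_finite_subcover_of_isConstructible R hR hcov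
  refine ⟨∏ m ∈ t, m.factorial, Finset.prod_pos (fun m _ => Nat.factorial_pos m), ?_⟩
  rw [killedBy_iff]
  apply eq_zero_of_stalks
  intro Ω _ _ ξ
  obtain ⟨m, hm, hx⟩ := ht (ξ default)
  have hz : IsZero ((EtCoh.stalk ξ).obj (Abelian.image (f m))) := by
    by_contra hnz
    apply hx
    rw [mem_supp_iff]
    exact ⟨Ω, inferInstance, inferInstance, ξ, rfl, hnz⟩
  have h3 : m.factorial • 𝟙 ((EtCoh.stalk ξ).obj F) = 0 := by
    rw [← hSf m Ω ξ]
    exact stalk_map_eq_zero_of_isZero_image _ ξ hz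
  obtain ⟨k, hk⟩ := Finset.dvd_prod_of_mem (fun m => m.factorial) hm
  rw [Functor.map_nsmul, CategoryTheory.Functor.map_id, hk, mul_comm, mul_smul, h3, smul_zero]

end Groth.Agent.Lib.Helper43.EtConstrTorsion
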