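import Mathlib
import Groth.Prelude.Def_EtBase
import Groth.Agent.S9436

/-!
# Étale neighbourhoods lift along closed immersions
-/

set_option autoImplicit false
universe u
open CategoryTheory CategoryTheory.Limits AlgebraicGeometry Opposite

namespace Groth.Agent.Lib.Helper43.EtLift

open TensorProduct in
/-- algebraic core: an étale algebra over `R ⧸ I` is the base change of an étale `R`-algebra -/
lemma core_alg (R : CommRingCat.{u}) (I : Ideal R) (B : CommRingCat.{u})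
    (ψ : CommRingCat.of (R ⧸ I) ⟶ B) (hψ : ψ.hom.Etale) :
    ∃ (S : CommRingCat.{u}) (σ : R ⟶ S) (τ : S ⟶ B), σ.hom.Etale ∧
      IsPushout (CommRingCat.ofHom (Ideal.Quotient.mk I)) σ ψ τ := by
  let _ : Algebra (R ⧸ I) B := ψ.hom.toAlgebra
  have : Algebra.Etale (R ⧸ I) B := hψ
  obtain ⟨S, _, _, hS, ⟨e⟩⟩ := Groth.Agent.S9436.result R I B
  refine ⟨.of S, CommRingCat.ofHom (algebraMap R S),
    CommRingCat.ofHom (e.toRingEquiv.toRingHom.comp
      (Algebra.TensorProduct.includeRight (R := R) (A := R ⧸ I) (B := S)).toRingHom), ?_, ?_⟩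
  · exact RingHom.etale_algebraMap.2 hS
  · have h := CommRingCat.isPushout_tensorProduct R (R ⧸ I) S
    refine h.of_iso (Iso.refl _) (Iso.refl _) (Iso.refl _) e.toRingEquiv.toCommRingCatIso
      ?_ ?_ ?_ ?_
    · rfl
    · rfl
    · ext x
      simp only [CommRingCat.hom_comp, CommRingCat.hom_ofHom, RingHom.coe_comp, Function.comp_apply,
        Iso.refl_hom, CommRingCat.hom_id, RingHom.id_apply]
      have h1 : (Ideal.Quotient.mk I x) ⊗ₜ[↑R] (1 : S) =
          algebraMap (↑R ⧸ I) ((↑R ⧸ I) ⊗[↑R] S) (Ideal.Quotient.mk I x) := by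
        rw [Algebra.TensorProduct.algebraMap_apply]
        rfl
      change e ((Ideal.Quotient.mk I x) ⊗ₜ[↑R] (1 : S)) = ψ.hom (Ideal.Quotient.mk I x)
      rw [h1, e.commutes]
      rfl
    · ext x
      simp

/-- scheme-level core: an étale `Spec B ⟶ Spec (R ⧸ I)` is the base change of an étale map to `Spec R` -/
lemma core_scheme (R : CommRingCat.{u}) (I : Ideal R) (B : CommRingCat.{u})
    (g : Spec B ⟶ Spec (CommRingCat.of (R ⧸ I))) [Etale g] :
    ∃ (S : CommRingCat.{u}) (σ : R ⟶ S) (t : Spec B ⟶ Spec S), Etale (Spec.map σ) ∧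
      IsPullback g t (Spec.map (CommRingCat.ofHom (Ideal.Quotient.mk I))) (Spec.map σ) := by
  obtain ⟨ψ, rfl⟩ := Spec.map_surjective g
  have hψ : ψ.hom.Etale := (HasRingHomProperty.Spec_iff (P := @Etale)).1 inferInstance
  obtain ⟨S, σ, τ, hσ, hpo⟩ := core_alg R I B ψ hψ
  refine ⟨S, σ, Spec.map τ, (HasRingHomProperty.Spec_iff (P := @Etale)).2 hσ, ?_⟩
  exact isPullback_SpecMap_of_isPushout _ _ _ _ hpo

/-- étale neighbourhoods lift along closed immersions, locally around a point -/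
lemma lift_at {X Y : Scheme.{u}} (f : X ⟶ Y) [IsClosedImmersion f] (U : X.Etale) (x : U.left) :
    ∃ (V : Y.Etale) (h : pullback V.hom f ⟶ U.left),
      h ≫ U.hom = pullback.snd V.hom f ∧ IsOpenImmersion h ∧ ∃ y, h.base y = x := by
  -- an affine open of `Y` around the image of `x`
  obtain ⟨R, j, hj, hxj, -⟩ := Scheme.exists_affine_mem_range_and_range_subset
    (x := f.base (U.hom.base x)) (U := ⊤) (by simp)
  let X₀ := pullback j f
  let p₁ : X₀ ⟶ Spec R := pullback.fst j f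
  let p₂ : X₀ ⟶ X := pullback.snd j f
  obtain ⟨I, e, he⟩ := IsClosedImmersion.Spec_iff.1 (inferInstance : IsClosedImmersion p₁)
  let U₀ := pullback p₂ U.hom
  let q₁ : U₀ ⟶ X₀ := pullback.fst p₂ U.hom
  let q₂ : U₀ ⟶ U.left := pullback.snd p₂ U.hom
  obtain ⟨r, hr⟩ := hxj
  obtain ⟨x₀', hx₀'1, hx₀'2⟩ :=
    Scheme.Pullback.exists_preimage_pullback (f := j) (g := f) r (U.hom.base x) hr
  obtain ⟨x₀, hx₀1, hx₀2⟩ :=
    Scheme.Pullback.exists_preimage_pullback (f := p₂) (g := U.hom) x₀' x hx₀'2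
  obtain ⟨B, k, hk, hxk, -⟩ := Scheme.exists_affine_mem_range_and_range_subset
    (x := x₀) (U := ⊤) (by simp)
  let g : Spec B ⟶ Spec (CommRingCat.of (R ⧸ I)) := k ≫ q₁ ≫ e.hom
  have hg : Etale g := inferInstance
  obtain ⟨S, σ, t, hσ, hpb⟩ := core_scheme R I B g
  let V : Y.Etale := Scheme.Etale.mk (Spec.map σ ≫ j)
  have hV : V.hom = Spec.map σ ≫ j := rfl
  let π₁ : pullback V.hom f ⟶ Spec S := pullback.fst V.hom f
  let π₂ : pullback V.hom f ⟶ X := pullback.snd V.hom f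
  have hπ : π₁ ≫ Spec.map σ ≫ j = π₂ ≫ f := pullback.condition
  let a : pullback V.hom f ⟶ X₀ :=
    pullback.lift (π₁ ≫ Spec.map σ) π₂ (by rw [Category.assoc]; exact hπ)
  have ha1 : a ≫ p₁ = π₁ ≫ Spec.map σ := pullback.lift_fst _ _ _
  have ha2 : a ≫ p₂ = π₂ := pullback.lift_snd _ _ _
  have hbig : IsPullback π₁ π₂ (Spec.map σ ≫ j) f := IsPullback.of_hasPullback _ _
  have hright : IsPullback p₁ p₂ j f := IsPullback.of_hasPullback _ _
  have hleft : IsPullback a π₁ p₁ (Spec.map σ) := by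
    refine IsPullback.of_right ?_ ha1 hright.flip
    rw [ha2]
    exact hbig.flip
  have hleft' : IsPullback (a ≫ e.hom) π₁
      (Spec.map (CommRingCat.ofHom (Ideal.Quotient.mk I))) (Spec.map σ) := by
    refine hleft.of_iso (Iso.refl _) e (Iso.refl _) (Iso.refl _) ?_ ?_ ?_ ?_
    · simp
    · simp
    · simp only [Iso.refl_hom, Category.comp_id]; exact he
    · simp
  let θ : pullback V.hom f ≅ Spec B := hleft'.isoIsPullback _ _ hpb
  have hθ1 : θ.hom ≫ g = a ≫ e.hom := hleft'.isoIsPullback_hom_fst _ _ hpb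
  refine ⟨V, θ.hom ≫ k ≫ q₂, ?_, inferInstance, ?_⟩
  · have h1 : q₂ ≫ U.hom = q₁ ≫ p₂ := pullback.condition.symm
    have h2 : k ≫ q₁ = g ≫ e.inv := by
      simp only [g, Category.assoc, Iso.hom_inv_id, Category.comp_id]
    calc (θ.hom ≫ k ≫ q₂) ≫ U.hom = θ.hom ≫ (k ≫ q₁) ≫ p₂ := by
          simp only [Category.assoc, h1]
      _ = (θ.hom ≫ g) ≫ e.inv ≫ p₂ := by rw [h2]; simp only [Category.assoc]
      _ = a ≫ p₂ := by rw [hθ1]; simp
      _ = _ := ha2
  · obtain ⟨b₀, hb₀⟩ := hxk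
    refine ⟨θ.inv.base b₀, ?_⟩
    have : (θ.inv ≫ θ.hom ≫ k ≫ q₂).base b₀ = x := by
      rw [Iso.inv_hom_id_assoc]
      change q₂.base (k.base b₀) = x
      rw [hb₀]
      exact hx₀2
    exact this

end Groth.Agent.Lib.Helper43.EtLift
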