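import Mathlib
import Groth.Prelude.Def_EtBase
import Groth.Agent.S0100
import Groth.Agent.Lib.Helper43.EtStalk
import Groth.Agent.Lib.Helper43.EtLift

/-!
# Stalks of `i_* G` for a closed immersion `i`, at geometric points of the closed subscheme
-/

set_option autoImplicit false
universe u
open CategoryTheory CategoryTheory.Limits AlgebraicGeometry Opposite

namespace Groth.Agent.Lib.Helper43.ClosedStalk

open Groth.Agent.Lib.Helper43.EtStalk Groth.Agent.S0100

section Helpers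

variable {Z X : Scheme.{u}} (i : Z ⟶ X) [EtCoh.BCCont i] (G : EtCoh.Ab Z)
  {Ω : Type u} [Field Ω] [IsSepClosed Ω] (ζ : Spec (CommRingCat.of Ω) ⟶ Z)

/-- the canonical map `(i_* G)_{i ζ} ⟶ G_ζ` (for any morphism `i`) -/
noncomputable def pushStalkMap :
    (Scheme.pointSmallEtale (ζ ≫ i)).presheafFiber.obj ((EtCoh.push i).obj G).obj ⟶
      (Scheme.pointSmallEtale ζ).presheafFiber.obj G.obj :=
  (Scheme.pointSmallEtale (ζ ≫ i)).presheafFiberDesc
    (fun W z => (Scheme.pointSmallEtale ζ).toPresheafFiber ((EtCoh.bc i).obj W)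
      (fiberEquiv i ζ W z) G.obj)
    (by
      intro W₁ W₂ g z
      have h1 := fiberEquiv_naturality i ζ g z
      have h2 := (Scheme.pointSmallEtale ζ).toPresheafFiber_w ((EtCoh.bc i).map g)
        (fiberEquiv i ζ W₁ z) G.obj
      refine Eq.trans ?_ (congrArg (fun t => (Scheme.pointSmallEtale ζ).toPresheafFiber
        ((EtCoh.bc i).obj W₂) t G.obj) h1.symm)
      exact h2)

lemma toFiber_pushStalkMap (W : X.Etale) (z : (Scheme.pointSmallEtale (ζ ≫ i)).fiber.obj W) :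
    (Scheme.pointSmallEtale (ζ ≫ i)).toPresheafFiber W z ((EtCoh.push i).obj G).obj ≫
      pushStalkMap i G ζ =
    (Scheme.pointSmallEtale ζ).toPresheafFiber ((EtCoh.bc i).obj W) (fiberEquiv i ζ W z) G.obj :=
  (Scheme.pointSmallEtale (ζ ≫ i)).toPresheafFiber_presheafFiberDesc _ _ W z

lemma toFiber_pushStalkMap_apply (W : X.Etale)
    (z : (Scheme.pointSmallEtale (ζ ≫ i)).fiber.obj W)
    (s : G.obj.obj (op ((EtCoh.bc i).obj W))) :
    pushStalkMap i G ζ ((Scheme.pointSmallEtale (ζ ≫ i)).toPresheafFiber W z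
      ((EtCoh.push i).obj G).obj s) =
    (Scheme.pointSmallEtale ζ).toPresheafFiber ((EtCoh.bc i).obj W) (fiberEquiv i ζ W z) G.obj s :=
  congrArg (fun t => t.hom s) (toFiber_pushStalkMap i G ζ W z)

lemma pushStalkMap_surjective [IsClosedImmersion i] : Function.Surjective (pushStalkMap i G ζ) := by
  intro b
  let Φ := Scheme.pointSmallEtale ζ
  obtain ⟨V, y, s, rfl⟩ := Φ.toPresheafFiber_jointly_surjective (P := G.obj) b
  let yl : Spec (CommRingCat.of Ω) ⟶ V.left := y.left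
  have hyl : yl ≫ V.hom = ζ := Over.w y
  obtain ⟨W, h, h1, h2, p, hp⟩ := EtLift.lift_at i V (yl.base default)
  obtain ⟨l, hl₁, hl₂⟩ := Scheme.exists_fac_of_etale_of_isSepClosed h yl p hp
  let h' : (EtCoh.bc i).obj W ⟶ V := MorphismProperty.Over.homMk h h1
  let y' : Φ.fiber.obj ((EtCoh.bc i).obj W) := Over.homMk l (by
    change l ≫ pullback.snd W.hom i = ζ
    rw [← h1, ← Category.assoc, hl₁]
    exact hyl)
  have hy' : Φ.fiber.map h' y' = y := Over.OverMorphism.ext hl₁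
  let z := (fiberEquiv i ζ W).symm y'
  refine ⟨(Scheme.pointSmallEtale (ζ ≫ i)).toPresheafFiber W z ((EtCoh.push i).obj G).obj
    (G.obj.map h'.op s), ?_⟩
  rw [toFiber_pushStalkMap_apply]
  rw [show fiberEquiv i ζ W z = y' from (fiberEquiv i ζ W).apply_symm_apply y']
  rw [Φ.toPresheafFiber_w_apply h' y' G.obj, hy']

lemma pushStalkMap_injective [IsClosedImmersion i] : Function.Injective (pushStalkMap i G ζ) := by
  intro a₁ a₂ ha
  let Φ := Scheme.pointSmallEtale ζ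
  let Φ' := Scheme.pointSmallEtale (ζ ≫ i)
  obtain ⟨W, z, s₁, s₂, rfl, rfl⟩ := Φ'.toPresheafFiber_jointly_surjective₂
    (P := ((EtCoh.push i).obj G).obj) a₁ a₂
  rw [toFiber_pushStalkMap_apply, toFiber_pushStalkMap_apply] at ha
  obtain ⟨V, g, y, hy, hs⟩ := (Φ.toPresheafFiber_eq_iff' _ _ _ _).1 ha
  let WL : Scheme.{u} := W.left
  let wh : WL ⟶ X := W.hom
  let BW : Scheme.{u} := pullback wh i
  let iW : BW ⟶ WL := pullback.fst wh i
  let VL : Scheme.{u} := V.left
  let vh : VL ⟶ Z := V.hom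
  let gl : VL ⟶ BW := g.left
  have hgl : gl ≫ pullback.snd wh i = vh := MorphismProperty.Over.w g
  have hgl_et : Etale gl := inferInstanceAs (Etale g.left)
  let VB : BW.Etale := Scheme.Etale.mk gl
  let yl : Spec (CommRingCat.of Ω) ⟶ VL := y.left
  let zl : Spec (CommRingCat.of Ω) ⟶ WL := z.left
  have hzl : zl ≫ wh = ζ ≫ i := Over.w z
  have hyg : yl ≫ gl = pullback.lift zl ζ hzl := congrArg (fun t => Over.Hom.left t) hy
  obtain ⟨W', h, h1, h2, p, hp⟩ := EtLift.lift_at iW VB (yl.base default)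
  let WL' : Scheme.{u} := W'.left
  let wh' : WL' ⟶ WL := W'.hom
  let h₀ : pullback wh' iW ⟶ VL := h
  have h1' : h₀ ≫ gl = pullback.snd wh' iW := h1
  obtain ⟨l, hl₁, hl₂⟩ := Scheme.exists_fac_of_etale_of_isSepClosed h yl p hp
  let l₀ : Spec (CommRingCat.of Ω) ⟶ pullback wh' iW := l
  have hl₁' : l₀ ≫ h₀ = yl := hl₁
  let W'' : X.Etale := Scheme.Etale.mk (wh' ≫ wh)
  let w : W'' ⟶ W := MorphismProperty.Over.homMk wh' rfl
  have hcond : (pullback.fst (wh' ≫ wh) i ≫ wh') ≫ wh = pullback.snd (wh' ≫ wh) i ≫ i :=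
    (Category.assoc _ _ _).trans pullback.condition
  let ν : pullback (wh' ≫ wh) i ⟶ BW :=
    pullback.lift (pullback.fst (wh' ≫ wh) i ≫ wh') (pullback.snd (wh' ≫ wh) i) hcond
  have hν1 : ν ≫ iW = pullback.fst (wh' ≫ wh) i ≫ wh' := pullback.lift_fst _ _ _
  have hν2 : ν ≫ pullback.snd wh i = pullback.snd (wh' ≫ wh) i := pullback.lift_snd _ _ _
  let μ : pullback (wh' ≫ wh) i ⟶ pullback wh' iW :=
    pullback.lift (pullback.fst (wh' ≫ wh) i) ν hν1.symm
  have hμ1 : μ ≫ pullback.fst wh' iW = pullback.fst (wh' ≫ wh) i := pullback.lift_fst _ _ _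
  have hμ2 : μ ≫ pullback.snd wh' iW = ν := pullback.lift_snd _ _ _
  have hμg : (μ ≫ h₀) ≫ gl = ν :=
    (Category.assoc _ _ _).trans ((congrArg (fun t => μ ≫ t) h1').trans hμ2)
  have hm0 : (μ ≫ h₀) ≫ vh = pullback.snd (wh' ≫ wh) i :=
    (congrArg (fun t => (μ ≫ h₀) ≫ t) hgl.symm).trans
      ((Category.assoc _ _ _).symm.trans
        ((congrArg (fun t => t ≫ pullback.snd wh i) hμg).trans hν2))
  let m : (EtCoh.bc i).obj W'' ⟶ V := MorphismProperty.Over.homMk (μ ≫ h₀) hm0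
  have hm : m ≫ g = (EtCoh.bc i).map w := by
    apply MorphismProperty.Over.Hom.ext
    change (μ ≫ h₀) ≫ gl = ((EtCoh.bc i).map w).left
    rw [hμg]
    apply pullback.hom_ext
    · exact hν1.trans (bc_map_left_fst i w).symm
    · exact hν2.trans (bc_map_left_snd i w).symm
  have hc : (l₀ ≫ pullback.fst wh' iW) ≫ wh' = zl := by
    calc (l₀ ≫ pullback.fst wh' iW) ≫ wh' = l₀ ≫ (pullback.fst wh' iW ≫ wh') :=
          Category.assoc _ _ _
      _ = l₀ ≫ (pullback.snd wh' iW ≫ iW) := by rw [pullback.condition]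
      _ = l₀ ≫ ((h₀ ≫ gl) ≫ iW) := by rw [h1']
      _ = ((l₀ ≫ h₀) ≫ gl) ≫ iW := by simp only [Category.assoc]
      _ = (pullback.lift zl ζ hzl) ≫ iW := by rw [hl₁', hyg]
      _ = zl := pullback.lift_fst _ _ _
  let z'' : Φ'.fiber.obj W'' := Over.homMk (l₀ ≫ pullback.fst wh' iW) (by
    change (l₀ ≫ pullback.fst wh' iW) ≫ wh' ≫ wh = ζ ≫ i
    rw [← Category.assoc, hc]
    exact hzl)
  have hz'' : Φ'.fiber.map w z'' = z := Over.OverMorphism.ext hc
  rw [← hz'', ← Φ'.toPresheafFiber_w_apply w z'', ← Φ'.toPresheafFiber_w_apply w z'']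
  congr 1
  change G.obj.map ((EtCoh.bc i).map w).op s₁ = G.obj.map ((EtCoh.bc i).map w).op s₂
  rw [← hm, op_comp, G.obj.map_comp]
  exact congrArg (G.obj.map m.op) hs

instance isIso_pushStalkMap [IsClosedImmersion i] : IsIso (pushStalkMap i G ζ) :=
  (ConcreteCategory.isIso_iff_bijective _).2
    ⟨pushStalkMap_injective i G ζ, pushStalkMap_surjective i G ζ⟩

end Helpers

end Groth.Agent.Lib.Helper43.ClosedStalk
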