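import Mathlib
import Groth.Prelude.Def_EtBase
import Groth.Agent.Lib.Helper43.ClosedStalk
import Groth.Agent.Lib.Helper43.PullStalk

/-!
# The counit `i^{-1} i_* G ⟶ G` is an isomorphism for a closed immersion `i`
-/

set_option autoImplicit false
universe u
open CategoryTheory CategoryTheory.Limits AlgebraicGeometry Opposite

namespace Groth.Agent.Lib.Helper43.ClosedStalk

open Groth.Agent.Lib.Helper43.EtStalk Groth.Agent.S0100 Groth.Agent.Lib.Helper43

section Helpers

variable {Z X : Scheme.{u}} (i : Z ⟶ X) [EtCoh.BCCont i] (G : EtCoh.Ab Z)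
  {Ω : Type u} [Field Ω] [IsSepClosed Ω] (ζ : Spec (CommRingCat.of Ω) ⟶ Z)

/-- the counit `i^{-1} i_* G ⟶ G` -/
noncomputable abbrev ε : (EtCoh.pull i).obj ((EtCoh.push i).obj G) ⟶ G :=
  (EtCoh.pullPushAdj i).counit.app G

lemma η_ε_app (W : X.Etale) :
    (PullStalk.η i ((EtCoh.push i).obj G)).hom.app (op W) ≫
      (ε i G).hom.app (op ((EtCoh.bc i).obj W)) = 𝟙 _ := by
  have h := (EtCoh.pullPushAdj i).right_triangle_components G
  exact congrArg (fun t => t.hom.app (op W)) h

lemma pullStalkMap_counit :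
    PullStalk.pullStalkMap i ((EtCoh.push i).obj G) ζ ≫
      (Scheme.pointSmallEtale ζ).presheafFiber.map (ε i G).hom = pushStalkMap i G ζ := by
  refine (Scheme.pointSmallEtale (ζ ≫ i)).presheafFiber_hom_ext (fun W z => ?_)
  rw [toFiber_pushStalkMap]
  have h1 := PullStalk.toFiber_pullStalkMap i ((EtCoh.push i).obj G) ζ W z
  have h2 := (Scheme.pointSmallEtale ζ).toPresheafFiber_naturality (ε i G).hom
    ((EtCoh.bc i).obj W) (fiberEquiv i ζ W z)
  have h3 := η_ε_app i G W
  calc _ = ((Scheme.pointSmallEtale (ζ ≫ i)).toPresheafFiber W z ((EtCoh.push i).obj G).obj ≫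
        PullStalk.pullStalkMap i ((EtCoh.push i).obj G) ζ) ≫
        (Scheme.pointSmallEtale ζ).presheafFiber.map (ε i G).hom := by
          simp only [Category.assoc]
    _ = ((PullStalk.η i ((EtCoh.push i).obj G)).hom.app (op W) ≫
          (Scheme.pointSmallEtale ζ).toPresheafFiber ((EtCoh.bc i).obj W) (fiberEquiv i ζ W z)
            ((EtCoh.pull i).obj ((EtCoh.push i).obj G)).obj) ≫
          (Scheme.pointSmallEtale ζ).presheafFiber.map (ε i G).hom := by rw [h1]
    _ = (PullStalk.η i ((EtCoh.push i).obj G)).hom.app (op W) ≫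
          ((ε i G).hom.app (op ((EtCoh.bc i).obj W)) ≫
            (Scheme.pointSmallEtale ζ).toPresheafFiber ((EtCoh.bc i).obj W)
              (fiberEquiv i ζ W z) G.obj) :=
        (Category.assoc _ _ _).trans
          (congrArg (fun t => (PullStalk.η i ((EtCoh.push i).obj G)).hom.app (op W) ≫ t) h2)
    _ = ((PullStalk.η i ((EtCoh.push i).obj G)).hom.app (op W) ≫
          (ε i G).hom.app (op ((EtCoh.bc i).obj W))) ≫
            (Scheme.pointSmallEtale ζ).toPresheafFiber ((EtCoh.bc i).obj W)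
              (fiberEquiv i ζ W z) G.obj :=
        (Category.assoc _ _ _).symm
    _ = _ := by
      rw [h3]
      exact Category.id_comp _

/-- on stalks the counit is an isomorphism -/
lemma isIso_stalk_counit [IsClosedImmersion i] :
    IsIso ((Scheme.pointSmallEtale ζ).presheafFiber.map (ε i G).hom) := by
  have h1 := pullStalkMap_counit i G ζ
  have h2 : IsIso (PullStalk.pullStalkMap i ((EtCoh.push i).obj G) ζ) :=
    PullStalk.isIso_pullStalkMap i _ ζ
  have h3 : IsIso (pushStalkMap i G ζ) := isIso_pushStalkMap i G ζ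
  have h4 : (Scheme.pointSmallEtale ζ).presheafFiber.map (ε i G).hom =
      inv (PullStalk.pullStalkMap i ((EtCoh.push i).obj G) ζ) ≫ pushStalkMap i G ζ := by
    rw [IsIso.eq_inv_comp]
    exact h1
  rw [h4]
  infer_instance

/-- the counit `i^{-1} i_* G ⟶ G` is an isomorphism for a closed immersion -/
lemma isIso_counit [IsClosedImmersion i] : IsIso (ε i G) := by
  have key : ∀ (Ω : Type u) [Field Ω] [IsSepClosed Ω] (ζ : Spec (CommRingCat.of Ω) ⟶ Z),
      IsIso (((Scheme.pointSmallEtale ζ).sheafFiber (A := AddCommGrpCat.{u + 1})).map (ε i G)) :=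
    fun Ω _ _ ζ => isIso_stalk_counit i G ζ
  have hm : Mono (ε i G) := mono_of_stalks_ab _ (fun Ω _ _ ζ =>
    haveI := key Ω ζ
    (ConcreteCategory.bijective_of_isIso _).1)
  have he : Epi (ε i G) := epi_of_stalks_ab _ (fun Ω _ _ ζ =>
    haveI := key Ω ζ
    (ConcreteCategory.bijective_of_isIso _).2)
  exact isIso_of_mono_of_epi _

lemma isIso_counit_nat [IsClosedImmersion i] : IsIso (EtCoh.pullPushAdj i).counit :=
  haveI : ∀ G, IsIso ((EtCoh.pullPushAdj i).counit.app G) := fun G => isIso_counit i G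
  NatIso.isIso_of_isIso_app _

end Helpers

end Groth.Agent.Lib.Helper43.ClosedStalk
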