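import Mathlib

/-!
# Ring-theoretic lemmas around a root of the `n`-th cyclotomic polynomial with `n` invertible
-/

namespace Groth.Agent.Lib.Helper43.MuConst

open Polynomial Finset

/-- `ζ` is a root of the `n`-th cyclotomic polynomial in a ring where `n ≥ 1` is invertible. -/
structure IsCycRoot {R : Type*} [CommRing R] (n : ℕ) (ζ : R) : Prop where
  pos : 0 < n
  unit : IsUnit (n : R)
  root : aeval ζ (cyclotomic n ℤ) = 0

namespace IsCycRoot

variable {R : Type*} [CommRing R] {n : ℕ} {ζ : R}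

theorem map {R' : Type*} [CommRing R'] (h : IsCycRoot n ζ) (f : R →+* R') : IsCycRoot n (f ζ) where
  pos := h.pos
  unit := by simpa using h.unit.map f
  root := by
    have := Polynomial.aeval_algHom_apply f.toIntAlgHom ζ (cyclotomic n ℤ)
    simpa [h.root] using this

theorem pow_eq_one (h : IsCycRoot n ζ) : ζ ^ n = 1 := by
  obtain ⟨q, hq⟩ := cyclotomic.dvd_X_pow_sub_one n ℤ
  have := congrArg (aeval ζ) hq
  simp only [map_sub, map_pow, aeval_X, map_one, map_mul, h.root, zero_mul] at this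
  exact sub_eq_zero.mp this

theorem isUnit (h : IsCycRoot n ζ) : IsUnit ζ := by
  have hn : n ≠ 0 := h.pos.ne'
  exact IsUnit.of_pow_eq_one h.pow_eq_one hn

theorem isUnit_one_sub_pow (h : IsCycRoot n ζ) {i : ℕ} (hi : 0 < i) (hin : i < n) :
    IsUnit (1 - ζ ^ i) := by
  by_contra hnu
  obtain ⟨I, hI, hmem⟩ := exists_max_ideal_of_mem_nonunits hnu
  let _ : Field (R ⧸ I) := Ideal.Quotient.field I
  have h' := h.map (Ideal.Quotient.mk I)
  have hne : NeZero (n : R ⧸ I) := ⟨h'.unit.ne_zero⟩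
  have hroot : IsRoot (cyclotomic n (R ⧸ I)) (Ideal.Quotient.mk I ζ) := by
    have := h'.root
    rw [← map_cyclotomic_int, IsRoot.def, eval_map, ← this]
    rfl
  rw [isRoot_cyclotomic_iff] at hroot
  have h1 : (Ideal.Quotient.mk I ζ) ^ i = 1 := by
    have : Ideal.Quotient.mk I (1 - ζ ^ i) = 0 := Ideal.Quotient.eq_zero_iff_mem.mpr hmem
    rw [map_sub, map_one, map_pow] at this
    exact (sub_eq_zero.mp this).symm
  exact hroot.pow_ne_one_of_pos_of_lt hi.ne' hin h1

/-- the inverse of `ζ` -/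
noncomputable def inv (h : IsCycRoot n ζ) : R := ↑(h.isUnit.unit⁻¹)

theorem mul_inv (h : IsCycRoot n ζ) : ζ * h.inv = 1 := by
  have := h.isUnit.unit.mul_inv
  simp [inv]

theorem inv_pow_eq_one (h : IsCycRoot n ζ) : h.inv ^ n = 1 := by
  have : (ζ * h.inv) ^ n = 1 := by rw [h.mul_inv, one_pow]
  rwa [mul_pow, h.pow_eq_one, one_mul] at this

theorem isUnit_one_sub_inv_pow (h : IsCycRoot n ζ) {i : ℕ} (hi : 0 < i) (hin : i < n) :
    IsUnit (1 - h.inv ^ i) := by
  have e : 1 - h.inv ^ i = - (h.inv ^ i * (1 - ζ ^ i)) := by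
    have : h.inv ^ i * ζ ^ i = 1 := by rw [← mul_pow, mul_comm, h.mul_inv, one_pow]
    rw [mul_sub, this]; ring
  rw [e]
  have hu : IsUnit (h.inv ^ i) := IsUnit.pow _ (by
    refine IsUnit.of_mul_eq_one ζ ?_
    rw [mul_comm]; exact h.mul_inv)
  exact (hu.mul (h.isUnit_one_sub_pow hi hin)).neg

/-- geometric sum of powers of `ζ⁻¹ ^ j` vanishes for `0 < j < n`. -/
theorem geom_sum_inv_pow_eq_zero (h : IsCycRoot n ζ) {j : ℕ} (hj : 0 < j) (hjn : j < n) :
    ∑ k ∈ range n, (h.inv ^ j) ^ k = 0 := by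
  have h1 : (h.inv ^ j - 1) * ∑ k ∈ range n, (h.inv ^ j) ^ k = 0 := by
    rw [mul_geom_sum, ← pow_mul, mul_comm j n, pow_mul, h.inv_pow_eq_one, one_pow, sub_self]
  have hu : IsUnit (h.inv ^ j - 1) := by
    have := (h.isUnit_one_sub_inv_pow hj hjn).neg
    simpa using this
  exact (hu.mul_right_eq_zero).mp h1

/-- The "Lagrange idempotent" cutting out the locus `u = ζ ^ k`. -/
noncomputable def idem (h : IsCycRoot n ζ) (u : R) (k : ℕ) : R :=
  ↑(h.unit.unit⁻¹) * ∑ j ∈ range n, (u * h.inv ^ k) ^ j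

theorem sub_mul_idem (h : IsCycRoot n ζ) {u : R} (hu : u ^ n = 1) (k : ℕ) :
    (u - ζ ^ k) * h.idem u k = 0 := by
  have hx : (u * h.inv ^ k) ^ n = 1 := by
    rw [mul_pow, hu, one_mul, ← pow_mul, mul_comm k n, pow_mul, h.inv_pow_eq_one, one_pow]
  have e : u - ζ ^ k = ζ ^ k * (u * h.inv ^ k - 1) := by
    have : ζ ^ k * h.inv ^ k = 1 := by rw [← mul_pow, h.mul_inv, one_pow]
    calc u - ζ ^ k = u * (ζ ^ k * h.inv ^ k) - ζ ^ k := by rw [this, mul_one]
      _ = _ := by ring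
  have hg : (u * h.inv ^ k - 1) * ∑ j ∈ range n, (u * h.inv ^ k) ^ j = 0 := by
    rw [mul_geom_sum, hx, sub_self]
  unfold idem
  calc (u - ζ ^ k) * (↑(h.unit.unit⁻¹) * ∑ j ∈ range n, (u * h.inv ^ k) ^ j)
      = ζ ^ k * ↑(h.unit.unit⁻¹) * ((u * h.inv ^ k - 1) * ∑ j ∈ range n, (u * h.inv ^ k) ^ j) := by
        rw [e]; ring
    _ = 0 := by rw [hg, mul_zero]

theorem sum_idem (h : IsCycRoot n ζ) (u : R) : ∑ k ∈ range n, h.idem u k = 1 := by
  unfold idem
  rw [← Finset.mul_sum]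
  have key : ∑ k ∈ range n, ∑ j ∈ range n, (u * h.inv ^ k) ^ j = (n : R) := by
    rw [Finset.sum_comm]
    have : ∀ j ∈ range n, ∑ k ∈ range n, (u * h.inv ^ k) ^ j
        = u ^ j * ∑ k ∈ range n, (h.inv ^ j) ^ k := by
      intro j _
      rw [Finset.mul_sum]
      refine Finset.sum_congr rfl fun k _ => ?_
      rw [mul_pow, ← pow_mul, ← pow_mul, mul_comm k j]
    rw [Finset.sum_congr rfl this]
    rw [Finset.sum_eq_single 0]
    · simp
    · intro j hj hj0
      rw [h.geom_sum_inv_pow_eq_zero (Nat.pos_of_ne_zero hj0) (Finset.mem_range.mp hj), mul_zero]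
    · intro h0
      exact absurd (Finset.mem_range.mpr h.pos) h0
  rw [key]
  have := h.unit.unit.inv_mul
  simpa using this

end IsCycRoot

end Groth.Agent.Lib.Helper43.MuConst
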