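import Mathlib
import Groth.Prelude.Def_EtGm
import Groth.Agent.Lib.Helper43.EtOpenSub
import Groth.Agent.Lib.Helper43.MuRing

set_option autoImplicit false
open CategoryTheory CategoryTheory.Limits AlgebraicGeometry Opposite
universe u

namespace Groth.Agent.Lib.Helper43.MuConst

variable (S : Scheme.{u})

/-- restriction ring hom `Γ(S,⊤) → Γ(U,⊤)` for an étale `U → S`. -/
noncomputable def res (U : S.Etale) : Γ(S, ⊤) →+* Γ(U.left, ⊤) := (U.hom.appTop).hom

/-- restriction ring hom `Γ(U,⊤) → Γ(V,⊤)` for a morphism `V ⟶ U` of étale `S`-schemes. -/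
noncomputable def resMap {U V : S.Etale} (g : V ⟶ U) : Γ(U.left, ⊤) →+* Γ(V.left, ⊤) :=
  (g.left.appTop).hom

lemma resMap_res {U V : S.Etale} (g : V ⟶ U) (x : Γ(S, ⊤)) :
    resMap S g (res S U x) = res S V x := by
  have h := EtOpenSub.hom_left_eq g
  have h2 : V.hom.appTop = U.hom.appTop ≫ g.left.appTop := by
    rw [← h, Scheme.Hom.comp_appTop]
  unfold resMap res
  rw [h2]
  rfl

variable {S}

/-- A section of `G_m` from a unit. -/
def mkGm {U : S.Etale} (x : (Γ(U.left, ⊤))ˣ) : (EtCoh.Gm S).obj.obj (op U) := ULift.up (Additive.ofMul x)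

/-- The unit underlying a section of `G_m`. -/
def unGm {U : S.Etale} (s : (EtCoh.Gm S).obj.obj (op U)) : (Γ(U.left, ⊤))ˣ := Additive.toMul (ULift.down s)

@[simp] lemma unGm_mkGm {U : S.Etale} (x : (Γ(U.left, ⊤))ˣ) : unGm (mkGm x) = x := rfl
@[simp] lemma mkGm_unGm {U : S.Etale} (s : (EtCoh.Gm S).obj.obj (op U)) : mkGm (unGm s) = s := rfl

lemma unGm_injective {U : S.Etale} : Function.Injective (unGm (S := S) (U := U)) := by
  intro a b h
  rw [← mkGm_unGm a, ← mkGm_unGm b, h]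

lemma Gm_map_mkGm {U V : S.Etale} (g : V ⟶ U) (x : (Γ(U.left, ⊤))ˣ) :
    (EtCoh.Gm S).obj.map g.op (mkGm x) = mkGm (Units.map (resMap S g).toMonoidHom x) := rfl

lemma unGm_Gm_map {U V : S.Etale} (g : V ⟶ U) (s : (EtCoh.Gm S).obj.obj (op U)) :
    unGm ((EtCoh.Gm S).obj.map g.op s) = Units.map (resMap S g).toMonoidHom (unGm s) := rfl

lemma unGm_add {U : S.Etale} (s t : (EtCoh.Gm S).obj.obj (op U)) : unGm (s + t) = unGm s * unGm t := rfl
lemma unGm_nsmul {U : S.Etale} (s : (EtCoh.Gm S).obj.obj (op U)) (n : ℕ) :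
    unGm (n • s) = unGm s ^ n := rfl
lemma unGm_zero {U : S.Etale} : unGm (0 : (EtCoh.Gm S).obj.obj (op U)) = 1 := rfl

lemma powMap_app (n : ℕ) (U : S.Etale) (s : (EtCoh.Gm S).obj.obj (op U)) :
    (EtCoh.powMap S n).hom.app (op U) s = n • s := by
  have h : (EtCoh.powMap S n).hom = n • 𝟙 (EtCoh.Gm S).obj := rfl
  rw [h, NatTrans.app_nsmul]
  simp


section Main

variable {n : ℕ} {ζ : Γ(S, ⊤)} (h : IsCycRoot n ζ)

/-- `ζ` as a unit of `Γ(S,⊤)` -/
noncomputable def zu : (Γ(S, ⊤))ˣ := h.isUnit.unit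

/-- `ζ|_U` as a unit -/
noncomputable def zuU (U : S.Etale) : (Γ(U.left, ⊤))ˣ := Units.map (res S U).toMonoidHom (zu h)

lemma zuU_val (U : S.Etale) : ((zuU h U : (Γ(U.left, ⊤))ˣ) : Γ(U.left, ⊤)) = res S U ζ := rfl

lemma zuU_pow (U : S.Etale) : zuU h U ^ n = 1 := by
  apply Units.ext
  rw [Units.val_pow_eq_pow_val, zuU_val, Units.val_one, ← map_pow, h.pow_eq_one, map_one]

lemma map_zuU {U V : S.Etale} (g : V ⟶ U) :
    Units.map (resMap S g).toMonoidHom (zuU h U) = zuU h V := by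
  apply Units.ext
  exact resMap_res S g ζ

/-- the homomorphism `ℤ/n → G_m(U)`, `a ↦ ζ^a`. -/
noncomputable def phiU (U : S.Etale) : ZMod n →+ Additive (Γ(U.left, ⊤))ˣ :=
  ZMod.lift n ⟨zmultiplesHom _ (Additive.ofMul (zuU h U)), by
    change ((n : ℤ) • Additive.ofMul (zuU h U)) = 0
    rw [natCast_zsmul, ← ofMul_pow, zuU_pow]; rfl⟩

lemma phiU_natCast (U : S.Etale) (k : ℕ) :
    phiU h U (k : ZMod n) = Additive.ofMul (zuU h U ^ k) := by
  have : ((k : ℤ) : ZMod n) = (k : ZMod n) := by push_cast; rfl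
  rw [← this, phiU, ZMod.lift_coe]
  change ((k : ℤ) • Additive.ofMul (zuU h U)) = _
  rw [natCast_zsmul, ← ofMul_pow]

/-- the constant presheaf with value `ℤ/n` -/
noncomputable abbrev constPsh (S : Scheme.{u}) (n : ℕ) : (S.Etale)ᵒᵖ ⥤ AddCommGrpCat.{u + 1} :=
  (Functor.const _).obj (AddCommGrpCat.of (ULift.{u + 1} (ZMod n)))

/-- The map of presheaves `ℤ/n → G_m`. -/
noncomputable def phi0 : constPsh S n ⟶ (EtCoh.Gm S).obj where
  app U := AddCommGrpCat.ofHom
    ((AddEquiv.ulift.symm.toAddMonoidHom.comp (phiU h U.unop)).comp AddEquiv.ulift.toAddMonoidHom)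
  naturality U V g := by
    obtain ⟨U⟩ := U
    obtain ⟨V⟩ := V
    obtain ⟨g, rfl⟩ : ∃ g' : V ⟶ U, g = g'.op := ⟨g.unop, rfl⟩
    ext ⟨a⟩
    obtain ⟨k, rfl⟩ : ∃ k : ℕ, a = (k : ZMod n) := by
      haveI : NeZero n := ⟨h.pos.ne'⟩
      exact ⟨a.val, (ZMod.natCast_zmod_val a).symm⟩
    change ULift.up (phiU h V (k : ZMod n)) = (EtCoh.Gm S).obj.map g.op (ULift.up (phiU h U (k : ZMod n)))
    rw [phiU_natCast, phiU_natCast]
    change mkGm (zuU h V ^ k) = (EtCoh.Gm S).obj.map g.op (mkGm (zuU h U ^ k))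
    rw [Gm_map_mkGm, map_pow, map_zuU]

lemma phi0_app_natCast (U : S.Etale) (k : ℕ) :
    (phi0 h).app (op U) (ULift.up (k : ZMod n)) = mkGm (zuU h U ^ k) := by
  change ULift.up (phiU h U (k : ZMod n)) = _
  rw [phiU_natCast]; rfl

lemma phi0_comp_powMap : phi0 h ≫ (EtCoh.powMap S n).hom = 0 := by
  ext U ⟨a⟩
  obtain ⟨U⟩ := U
  obtain ⟨k, rfl⟩ : ∃ k : ℕ, a = (k : ZMod n) := by
    haveI : NeZero n := ⟨h.pos.ne'⟩
    exact ⟨a.val, (ZMod.natCast_zmod_val a).symm⟩
  rw [NatTrans.comp_app, ConcreteCategory.comp_apply, phi0_app_natCast, powMap_app]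
  apply unGm_injective
  rw [unGm_nsmul, unGm_mkGm, ← pow_mul, mul_comm, pow_mul, zuU_pow, one_pow]
  rfl


/-! ### sections of `μ_n` -/

variable (S) (n) in
/-- `μ_n`'s presheaf is a kernel of the `n`-th power map of presheaves. -/
noncomputable def muIsLimit :
    IsLimit ((KernelFork.ofι (EtCoh.muι S n) (kernel.condition (EtCoh.powMap S n))).map
      (sheafToPresheaf S.smallEtaleTopology AddCommGrpCat.{u + 1})) :=
  KernelFork.mapIsLimit _ (kernelIsKernel (EtCoh.powMap S n)) _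

/-- The map of presheaves `ℤ/n → μ_n`. -/
noncomputable def phi' : constPsh S n ⟶ (EtCoh.mu S n).obj :=
  (muIsLimit S n).lift (KernelFork.ofι (phi0 h) (phi0_comp_powMap h))

lemma phi'_muι : phi' h ≫ (EtCoh.muι S n).hom = phi0 h :=
  Fork.IsLimit.lift_ι (t := KernelFork.ofι (phi0 h) (phi0_comp_powMap h)) (muIsLimit S n)

lemma phi'_muι_app (U : S.Etale) (a : ULift.{u + 1} (ZMod n)) :
    (EtCoh.muι S n).hom.app (op U) ((phi' h).app (op U) a) = (phi0 h).app (op U) a := by
  rw [← phi'_muι h]; rfl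

variable (S) (n) in
lemma muι_app_injective (U : S.Etale) : Function.Injective ((EtCoh.muι S n).hom.app (op U)) := by
  have h1 : Mono (EtCoh.muι S n) :=
    inferInstanceAs (Mono (equalizer.ι (EtCoh.powMap S n) 0))
  have h2 : Mono ((sheafToPresheaf S.smallEtaleTopology AddCommGrpCat.{u + 1}).map (EtCoh.muι S n)) :=
    inferInstance
  have h3 : Mono ((EtCoh.muι S n).hom.app (op U)) := by
    have := (NatTrans.mono_iff_mono_app _).1 h2 (op U)
    exact this
  exact (AddCommGrpCat.mono_iff_injective _).1 h3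

variable (S) (n) in
lemma muι_app_pow (U : S.Etale) (s : (EtCoh.mu S n).obj.obj (op U)) :
    unGm ((EtCoh.muι S n).hom.app (op U) s) ^ n = 1 := by
  have h0 : (EtCoh.muι S n) ≫ EtCoh.powMap S n = 0 := kernel.condition _
  have h1 : (EtCoh.muι S n).hom ≫ (EtCoh.powMap S n).hom = 0 :=
    congrArg (fun f => f.hom) h0
  have h2 := congrArg (fun f => (f.app (op U)) s) h1
  simp only [NatTrans.comp_app, ConcreteCategory.comp_apply] at h2
  rw [powMap_app] at h2
  have h3 := congrArg unGm h2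
  rw [unGm_nsmul] at h3
  exact h3


/-! ### local injectivity -/

lemma isEmpty_of_subsingleton_Γ (X : Scheme.{u}) [Subsingleton Γ(X, ⊤)] : IsEmpty X := by
  have h1 : X.basicOpen (0 : Γ(X, ⊤)) = ⊥ := Scheme.basicOpen_zero X ⊤
  have h2 : X.basicOpen (1 : Γ(X, ⊤)) = ⊤ := Scheme.basicOpen_one X
  have h3 : (0 : Γ(X, ⊤)) = 1 := Subsingleton.elim _ _
  rw [h3, h2] at h1
  constructor
  intro x
  have : x ∈ (⊤ : X.Opens) := trivial
  rw [h1] at this
  exact this

lemma isEmpty_of_pow_eq_one {U : S.Etale} {i : ℕ} (hi : 0 < i) (hin : i < n)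
    (heq : zuU h U ^ i = 1) : IsEmpty U.left := by
  have h1 := (h.map (res S U)).isUnit_one_sub_pow hi hin
  have h2 : (res S U ζ) ^ i = 1 := by
    have := congrArg Units.val heq
    rwa [Units.val_pow_eq_pow_val, zuU_val, Units.val_one] at this
  rw [h2, sub_self, isUnit_zero_iff] at h1
  have : Subsingleton Γ(U.left, ⊤) := subsingleton_of_zero_eq_one h1
  exact isEmpty_of_subsingleton_Γ _

lemma mem_of_isEmpty {U : S.Etale} (hU : IsEmpty U.left) (R : Sieve U) :
    R ∈ S.smallEtaleTopology U := by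
  rw [EtOpenSub.mem_smallEtaleTopology_iff']
  intro x
  exact (hU.false x).elim

lemma exists_natCast {n : ℕ} (hn : 0 < n) (a : ZMod n) (ha : a ≠ 0) :
    ∃ i : ℕ, 0 < i ∧ i < n ∧ a = (i : ZMod n) := by
  have : NeZero n := ⟨hn.ne'⟩
  refine ⟨a.val, ?_, ZMod.val_lt a, (ZMod.natCast_zmod_val a).symm⟩
  exact Nat.pos_of_ne_zero (fun h0 => ha ((ZMod.val_eq_zero a).1 h0))

instance isLocallyInjective_phi' : Presheaf.IsLocallyInjective S.smallEtaleTopology (phi' h) where
  equalizerSieve_mem {X} x y hxy := by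
    obtain ⟨U⟩ := X
    obtain ⟨a⟩ := x
    obtain ⟨b⟩ := y
    by_cases hab : a = b
    · subst hab
      rw [Presheaf.equalizerSieve_self_eq_top]
      exact S.smallEtaleTopology.top_mem _
    · apply mem_of_isEmpty
      have hne : a - b ≠ 0 := sub_ne_zero.mpr hab
      obtain ⟨i, hi, hin, hi'⟩ := exists_natCast h.pos _ hne
      refine isEmpty_of_pow_eq_one h hi hin ?_
      have h1 : (phi0 h).app (op U) (ULift.up a) = (phi0 h).app (op U) (ULift.up b) := by
        rw [← phi'_muι_app, ← phi'_muι_app]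
        exact congrArg _ hxy
      have h2 : phiU h U a = phiU h U b := congrArg ULift.down h1
      have h3 : phiU h U (a - b) = 0 := by rw [map_sub, h2, sub_self]
      rw [hi', phiU_natCast] at h3
      exact h3

/-! ### local surjectivity -/

lemma isUnit_of_basicOpen_eq_top {X : Scheme.{u}} (f : Γ(X, ⊤)) (hf : X.basicOpen f = ⊤) : IsUnit f := by
  apply RingedSpace.isUnit_of_isUnit_germ X.toLocallyRingedSpace.toRingedSpace ⊤ f
  intro x hx
  have : x ∈ X.basicOpen f := by rw [hf]; trivial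
  exact (Scheme.mem_basicOpen X f x hx).1 this

lemma isUnit_ι_appTop {X : Scheme.{u}} (e : Γ(X, ⊤)) :
    IsUnit ((X.basicOpen e).ι.appTop.hom e) := by
  apply isUnit_of_basicOpen_eq_top
  have := Scheme.preimage_basicOpen_top (X.basicOpen e).ι e
  rw [← this]
  exact Scheme.Opens.ι_preimage_self _

lemma exists_mem_basicOpen_of_sum_eq_one {X : Scheme.{u}} {ι : Type*} (s : Finset ι) (e : ι → Γ(X, ⊤))
    (hsum : ∑ k ∈ s, e k = 1) (x : X) : ∃ k ∈ s, x ∈ X.basicOpen (e k) := by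
  by_contra hcon
  push Not at hcon
  have h1 : ∀ k ∈ s, X.presheaf.germ ⊤ x trivial (e k) ∈ IsLocalRing.maximalIdeal (X.presheaf.stalk x) := by
    intro k hk
    rw [IsLocalRing.mem_maximalIdeal, mem_nonunits_iff, ← Scheme.mem_basicOpen_top]
    exact hcon k hk
  have h2 := Ideal.sum_mem _ h1
  rw [← map_sum, hsum, map_one] at h2
  exact (IsLocalRing.maximalIdeal (X.presheaf.stalk x)).ne_top_iff_one.1 (Ideal.IsPrime.ne_top') h2

/-- the open subscheme `D(e)` of `U` as an object of the small étale site. -/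
noncomputable def basicEt (U : S.Etale) (e : Γ(U.left, ⊤)) : S.Etale :=
  Scheme.Etale.mk ((U.left.basicOpen e).ι ≫ U.hom)

noncomputable def basicEtHom (U : S.Etale) (e : Γ(U.left, ⊤)) : basicEt U e ⟶ U :=
  MorphismProperty.Over.homMk (U.left.basicOpen e).ι rfl

instance isLocallySurjective_phi' : Presheaf.IsLocallySurjective S.smallEtaleTopology (phi' h) where
  imageSieve_mem {U} s := by
    rw [EtOpenSub.mem_smallEtaleTopology_iff']
    intro x
    have hcU := h.map (res S U)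
    set u : (Γ(U.left, ⊤))ˣ := unGm ((EtCoh.muι S n).hom.app (op U) s) with hu_def
    have hu : (u : Γ(U.left, ⊤)) ^ n = 1 := by
      have := congrArg Units.val (muι_app_pow S n U s)
      rwa [Units.val_pow_eq_pow_val, Units.val_one] at this
    obtain ⟨k, -, hk⟩ := exists_mem_basicOpen_of_sum_eq_one (Finset.range n)
      (fun k => hcU.idem (u : Γ(U.left, ⊤)) k) (hcU.sum_idem _) x
    let e := hcU.idem (u : Γ(U.left, ⊤)) k
    refine ⟨basicEt U e, basicEtHom U e, ⟨x, hk⟩, ?_, rfl⟩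
    refine ⟨ULift.up (k : ZMod n), ?_⟩
    apply muι_app_injective S n
    rw [phi'_muι_app, phi0_app_natCast]
    have hnat := NatTrans.naturality_apply (EtCoh.muι S n).hom (basicEtHom U e).op s
    rw [hnat]
    apply unGm_injective
    rw [unGm_mkGm, unGm_Gm_map]
    apply Units.ext
    rw [Units.val_pow_eq_pow_val, zuU_val]
    symm
    change resMap S (basicEtHom U e) (u : Γ(U.left, ⊤)) = _
    have h0 := hcU.sub_mul_idem hu k
    have h1 := congrArg (resMap S (basicEtHom U e)) h0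
    rw [map_mul, map_zero, map_sub, map_pow, resMap_res] at h1
    have h2 : IsUnit (resMap S (basicEtHom U e) (hcU.idem (u : Γ(U.left, ⊤)) k)) :=
      isUnit_ι_appTop e
    exact sub_eq_zero.mp ((h2.mul_left_eq_zero).mp h1)

include h in
/-- The main result: `μ_n ≅ ℤ/n` when a root of the cyclotomic polynomial exists and `n` is invertible. -/
theorem nonempty_mu_iso_const : Nonempty (EtCoh.mu S n ≅ EtCoh.const S (ZMod n)) := by
  have hW : S.smallEtaleTopology.W (phi' h) := S.smallEtaleTopology.W_of_isLocallyBijective _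
  have hiso : IsIso ((presheafToSheaf S.smallEtaleTopology AddCommGrpCat.{u + 1}).map (phi' h)) :=
    (S.smallEtaleTopology.W_iff (phi' h)).1 hW
  exact ⟨(sheafificationIso (EtCoh.mu S n)) ≪≫ (asIso ((presheafToSheaf S.smallEtaleTopology
    AddCommGrpCat.{u + 1}).map (phi' h))).symm⟩

end Main

end Groth.Agent.Lib.Helper43.MuConst
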