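import Mathlib
import Groth.Prelude.Def_EtBase
import Groth.Prelude.Def_EtShriek2
import Groth.Agent.S0069
import Groth.Agent.Lib.Helper43.ClosedCounit
import Groth.Agent.Lib.Helper43.RestrStalk

/-!
# Recollement pieces: the unit `F ⟶ i_* i^{-1} F` on stalks; geometric points of closed subschemes
-/

set_option autoImplicit false
universe u
open CategoryTheory CategoryTheory.Limits AlgebraicGeometry Opposite

namespace Groth.Agent.Lib.Helper43.ClosedStalk

open Groth.Agent.Lib.Helper43.EtStalk Groth.Agent.S0100 Groth.Agent.Lib.Helper43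

section Helpers

/-- a geometric point whose image lies in a closed subscheme factors through it -/
lemma exists_lift_closed {Z X : Scheme.{u}} (i : Z ⟶ X) [IsClosedImmersion i]
    {Ω : Type u} [Field Ω] (ξ : Spec (CommRingCat.of Ω) ⟶ X)
    (h : ξ.base default ∈ Set.range i.base) : ∃ ζ : Spec (CommRingCat.of Ω) ⟶ Z, ζ ≫ i = ξ := by
  obtain ⟨z, hz⟩ := h
  obtain ⟨p, hp1, hp2⟩ := Scheme.Pullback.exists_preimage_pullback (f := ξ) (g := i) default z hz.symm
  have hsurj : Surjective (pullback.fst ξ i) := ⟨fun q => ⟨p, Subsingleton.elim _ _⟩⟩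
  have hiso : IsIso (pullback.fst ξ i) := isIso_of_isClosedImmersion_of_surjective _
  refine ⟨inv (pullback.fst ξ i) ≫ pullback.snd ξ i, ?_⟩
  rw [Category.assoc, ← pullback.condition, IsIso.inv_hom_id_assoc]

variable {Z X : Scheme.{u}} (i : Z ⟶ X) [EtCoh.BCCont i] (F : EtCoh.Ab X)
  {Ω : Type u} [Field Ω] [IsSepClosed Ω] (ζ : Spec (CommRingCat.of Ω) ⟶ Z)

lemma stalk_unit_pushStalkMap :
    (Scheme.pointSmallEtale (ζ ≫ i)).presheafFiber.map (PullStalk.η i F).hom ≫
      pushStalkMap i ((EtCoh.pull i).obj F) ζ = PullStalk.pullStalkMap i F ζ := by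
  refine (Scheme.pointSmallEtale (ζ ≫ i)).presheafFiber_hom_ext (fun W z => ?_)
  rw [PullStalk.toFiber_pullStalkMap]
  have h1 := (Scheme.pointSmallEtale (ζ ≫ i)).toPresheafFiber_naturality (PullStalk.η i F).hom W z
  have h2 := toFiber_pushStalkMap i ((EtCoh.pull i).obj F) ζ W z
  calc _ = ((Scheme.pointSmallEtale (ζ ≫ i)).toPresheafFiber W z F.obj ≫
        (Scheme.pointSmallEtale (ζ ≫ i)).presheafFiber.map (PullStalk.η i F).hom) ≫
        pushStalkMap i ((EtCoh.pull i).obj F) ζ := by simp only [Category.assoc]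
    _ = ((PullStalk.η i F).hom.app (op W) ≫
          (Scheme.pointSmallEtale (ζ ≫ i)).toPresheafFiber W z
            ((EtCoh.push i).obj ((EtCoh.pull i).obj F)).obj) ≫
        pushStalkMap i ((EtCoh.pull i).obj F) ζ := by rw [h1]
    _ = (PullStalk.η i F).hom.app (op W) ≫
          ((Scheme.pointSmallEtale (ζ ≫ i)).toPresheafFiber W z
            ((EtCoh.push i).obj ((EtCoh.pull i).obj F)).obj ≫
        pushStalkMap i ((EtCoh.pull i).obj F) ζ) := Category.assoc _ _ _
    _ = _ := by rw [h2]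

/-- the unit `F ⟶ i_* i^{-1} F` is an isomorphism on stalks at geometric points of `Z` -/
lemma isIso_stalk_unit [IsClosedImmersion i] :
    IsIso ((Scheme.pointSmallEtale (ζ ≫ i)).presheafFiber.map (PullStalk.η i F).hom) := by
  have h1 := stalk_unit_pushStalkMap i F ζ
  have h2 : IsIso (PullStalk.pullStalkMap i F ζ) := PullStalk.isIso_pullStalkMap i _ ζ
  have h3 : IsIso (pushStalkMap i ((EtCoh.pull i).obj F) ζ) := isIso_pushStalkMap i _ ζ
  have h4 : (Scheme.pointSmallEtale (ζ ≫ i)).presheafFiber.map (PullStalk.η i F).hom =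
      PullStalk.pullStalkMap i F ζ ≫ inv (pushStalkMap i ((EtCoh.pull i).obj F) ζ) := by
    rw [IsIso.eq_comp_inv]
    exact h1
  rw [h4]
  infer_instance

end Helpers

end Groth.Agent.Lib.Helper43.ClosedStalk
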