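import Mathlib
import Groth.Prelude.Def_EtBase
import Groth.Agent.S0069
import Groth.Agent.Lib.Helper43.EtOpenSub

/-!
# Sections over an open-and-closed subscheme extend (by zero)
-/

set_option autoImplicit false
universe u
open CategoryTheory CategoryTheory.Limits AlgebraicGeometry Opposite

namespace Groth.Agent.Lib.Helper43.ClopenExt

section Helpers

variable {S TL : Scheme.{u}} (th : TL ⟶ S) [Etale th] (W : TL.Opens)

/-- the open subscheme `W` of the étale `S`-scheme `T`, as an étale `S`-scheme -/
noncomputable abbrev sub : S.Etale := Scheme.Etale.mk (W.ι ≫ th)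

/-- the inclusion -/
noncomputable abbrev subι : sub th W ⟶ Scheme.Etale.mk th :=
  MorphismProperty.Over.homMk W.ι rfl

/-- lift a morphism with image in `W` -/
noncomputable def liftSub {T' : S.Etale}
    (g : T' ⟶ Scheme.Etale.mk th) (h : Set.range g.left.base ⊆ (W : Set TL)) : T' ⟶ sub th W :=
  let gl : T'.left ⟶ TL := g.left
  have hgl : gl ≫ th = T'.hom := MorphismProperty.Over.w g
  have hr : Set.range gl.base ⊆ Set.range W.ι.base := by
    rw [Scheme.Opens.range_ι]; exact h
  let l : T'.left ⟶ W := IsOpenImmersion.lift W.ι gl hr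
  have hl : l ≫ W.ι = gl := IsOpenImmersion.lift_fac _ _ _
  MorphismProperty.Over.homMk l
    (by
      change l ≫ W.ι ≫ th = T'.hom
      rw [← Category.assoc, hl]
      exact hgl)

lemma liftSub_ι {T' : S.Etale}
    (g : T' ⟶ Scheme.Etale.mk th) (h : Set.range g.left.base ⊆ (W : Set TL)) :
    liftSub th W g h ≫ subι th W = g := by
  apply MorphismProperty.Over.Hom.ext
  let gl : T'.left ⟶ TL := g.left
  have hr : Set.range gl.base ⊆ Set.range W.ι.base := by
    rw [Scheme.Opens.range_ι]; exact h
  change IsOpenImmersion.lift W.ι gl hr ≫ W.ι = gl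
  exact IsOpenImmersion.lift_fac _ _ _

instance : Mono (subι th W) := by
  constructor
  intro T' a b hab
  apply MorphismProperty.Over.Hom.ext
  have h1 : a.left ≫ W.ι = b.left ≫ W.ι := congrArg (fun t => t.left) hab
  exact (cancel_mono W.ι).1 h1

lemma range_subι : Set.range (subι th W).left.base = (W : Set TL) :=
  Scheme.Opens.range_ι W

lemma liftSub_self (h : Set.range (subι th W).left.base ⊆ (W : Set TL)) :
    liftSub th W (subι th W) h = 𝟙 _ := by
  rw [← cancel_mono (subι th W), liftSub_ι, Category.id_comp]

lemma liftSub_comp {T₁ T₂ : S.Etale} (k : T₂ ⟶ T₁) (g : T₁ ⟶ Scheme.Etale.mk th)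
    (h : Set.range g.left.base ⊆ (W : Set TL))
    (h' : Set.range (k ≫ g).left.base ⊆ (W : Set TL)) :
    liftSub th W (k ≫ g) h' = k ≫ liftSub th W g h := by
  rw [← cancel_mono (subι th W), liftSub_ι, Category.assoc, liftSub_ι]

/-- sections over an open and closed subscheme extend -/
theorem exists_extension (F : EtCoh.Ab S) (hW : IsClosed (W : Set TL))
    (s' : F.obj.obj (op (sub th W))) :
    ∃ t : F.obj.obj (op (Scheme.Etale.mk th)), F.obj.map (subι th W).op t = s' := by
  classical
  let T : S.Etale := Scheme.Etale.mk th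
  have hsh := (isSheaf_iff_isSheaf_of_type _ _).1
    ((Presheaf.isSheaf_iff_isSheaf_forget _ F.obj (forget AddCommGrpCat)).1 F.property)
  let W'' : TL.Opens := ⟨(W : Set TL)ᶜ, hW.isOpen_compl⟩
  let R : Sieve T :=
    { arrows := fun T' g => Set.range g.left.base ⊆ (W : Set TL) ∨
        Set.range g.left.base ⊆ (W'' : Set TL)
      downward_closed := by
        intro T₁ T₂ g hg k
        have hsub : Set.range (k ≫ g).left.base ⊆ Set.range g.left.base := by
          rintro _ ⟨x, rfl⟩
          exact ⟨k.left.base x, rfl⟩
        rcases hg with hg | hg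
        · exact Or.inl (hsub.trans hg)
        · exact Or.inr (hsub.trans hg) }
  have hR : R ∈ S.smallEtaleTopology T := by
    rw [EtOpenSub.mem_smallEtaleTopology_iff']
    intro x
    by_cases hx : x ∈ (W : Set TL)
    · exact ⟨sub th W, subι th W, ⟨x, hx⟩, Or.inl (range_subι th W).le, rfl⟩
    · exact ⟨sub th W'', subι th W'', ⟨x, hx⟩, Or.inr (range_subι th W'').le, rfl⟩
  let fam : Presieve.FamilyOfElements (F.obj ⋙ forget AddCommGrpCat) R.arrows := fun T' g _ =>
    if h : Set.range g.left.base ⊆ (W : Set TL) then F.obj.map (liftSub th W g h).op s' else 0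
  have hcompat : fam.Compatible := by
    rw [Presieve.compatible_iff_sieveCompatible]
    intro T₁ T₂ g k hg
    by_cases h : Set.range g.left.base ⊆ (W : Set TL)
    · have h' : Set.range (k ≫ g).left.base ⊆ (W : Set TL) := by
        rintro _ ⟨x, rfl⟩
        exact h ⟨k.left.base x, rfl⟩
      change fam (k ≫ g) (R.downward_closed hg k) = F.obj.map k.op (fam g hg)
      simp only [fam, dif_pos h, dif_pos h']
      rw [liftSub_comp th W k g h h', op_comp, F.obj.map_comp]
      rfl
    · change fam (k ≫ g) (R.downward_closed hg k) = F.obj.map k.op (fam g hg)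
      have hg'' : Set.range g.left.base ⊆ (W'' : Set TL) := hg.resolve_left h
      simp only [fam, dif_neg h]
      rw [map_zero]
      by_cases h' : Set.range (k ≫ g).left.base ⊆ (W : Set TL)
      · -- `T₂` is empty
        have hemp : IsEmpty T₂.left := by
          constructor
          intro x
          have h1 : (k ≫ g).left.base x ∈ (W : Set TL) := h' ⟨x, rfl⟩
          have h2 : (k ≫ g).left.base x ∈ (W'' : Set TL) := hg'' ⟨k.left.base x, rfl⟩
          exact h2 h1
        have hss : Subsingleton (F.obj.obj (op T₂)) :=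
          Groth.Agent.S0069.subsingleton_of_isEmpty F T₂ hemp
        exact @Subsingleton.elim _ hss _ _
      · simp only [dif_neg h']
        rfl
  let t := (hsh _ hR).amalgamate fam hcompat
  refine ⟨t, ?_⟩
  have hmem : R.arrows (subι th W) := Or.inl (range_subι th W).le
  have h1 := (hsh _ hR).valid_glue hcompat (subι th W) hmem
  have h2 : fam (subι th W) hmem = s' := by
    simp only [fam, dif_pos (range_subι th W).le]
    rw [liftSub_self]
    simp
  exact h1.trans h2

end Helpers

end Groth.Agent.Lib.Helper43.ClopenExt
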