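import Mathlib
import Groth.Prelude.Def_EtBase
import Groth.Prelude.Def_EtShriek2
import Groth.Prelude.Def_PBC
import Groth.Agent.S0671
import Groth.Agent.S0100
import Groth.Agent.Lib.Helper43.EtOpenSub
import Groth.Agent.Lib.Helper43.ClopenExt

/-!
# Supports of sections and vanishing of stalks of direct images along closed maps
-/

set_option autoImplicit false
universe u
open CategoryTheory CategoryTheory.Limits AlgebraicGeometry Opposite

namespace Groth.Agent.Lib.Helper43.SuppPush

open Groth.Agent.Lib.Helper43.ClopenExt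

section Helpers

variable {S TL : Scheme.{u}} (th : TL ⟶ S) [Etale th]

/-- a section restricts to zero along any morphism whose image misses its support -/
theorem map_eq_zero_of_range_subset_compl (H : EtCoh.Ab S)
    (s : H.obj.obj (op (Scheme.Etale.mk th))) {T' : S.Etale} (g : T' ⟶ Scheme.Etale.mk th)
    (hg : Set.range g.left.base ⊆ (EtShriek.sectSupp H (Scheme.Etale.mk th) s)ᶜ) :
    H.obj.map g.op s = 0 := by
  let T : S.Etale := Scheme.Etale.mk th
  let O : TL.Opens := ⟨(EtShriek.sectSupp H T s)ᶜ, (S0671.isClosed_sectSupp H T s).isOpen_compl⟩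
  have hsh := (isSheaf_iff_isSheaf_of_type _ _).1
    ((Presheaf.isSheaf_iff_isSheaf_forget _ H.obj (forget AddCommGrpCat)).1 H.property)
  have h0 : H.obj.map (subι th O).op s = 0 := by
    let R₁ : Sieve (sub th O) :=
      { arrows := fun T₁ k => H.obj.map (k ≫ subι th O).op s = 0
        downward_closed := by
          intro T₁ T₂ k hk k'
          rw [Category.assoc, op_comp, H.obj.map_comp]
          change H.obj.map k'.op (H.obj.map (k ≫ subι th O).op s) = 0
          rw [hk]
          exact map_zero _ }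
    have hR₁ : R₁ ∈ S.smallEtaleTopology (sub th O) := by
      rw [EtOpenSub.mem_smallEtaleTopology_iff']
      intro o
      have ho : ¬ (∀ (W : S.Etale) (g : W ⟶ T), (∃ w : W.left, g.left.base w = O.ι.base o) →
          H.obj.map g.op s ≠ 0) := o.2
      push Not at ho
      obtain ⟨W₁, g₁, ⟨w, hw⟩, hz⟩ := ho
      have hr : Set.range g₁.left.base ⊆ (O : Set TL) := by
        rintro _ ⟨w', rfl⟩ hmem
        exact hmem W₁ g₁ ⟨w', rfl⟩ hz
      refine ⟨W₁, liftSub th O g₁ hr, w, ?_, ?_⟩
      · change H.obj.map (liftSub th O g₁ hr ≫ subι th O).op s = 0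
        rw [liftSub_ι]
        exact hz
      · apply O.ι.isOpenEmbedding.injective
        have := congrArg (fun m => m.left.base w) (liftSub_ι th O g₁ hr)
        exact this.trans hw
    refine (hsh _ hR₁).isSeparatedFor.ext (fun T₁ k hk => ?_)
    change H.obj.map k.op (H.obj.map (subι th O).op s) = H.obj.map k.op 0
    rw [map_zero]
    have : H.obj.map (k ≫ subι th O).op s = 0 := hk
    rw [op_comp, H.obj.map_comp] at this
    exact this
  have h1 := liftSub_ι th O g hg
  rw [← h1, op_comp, H.obj.map_comp]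
  change H.obj.map (liftSub th O g hg).op (H.obj.map (subι th O).op s) = 0
  rw [h0]
  exact map_zero _

/-- a geometric point of `T` whose image lies in an open `O` lifts to `O` -/
lemma exists_open_refinement {Ω : Type u} [Field Ω] [IsSepClosed Ω]
    (ξ : Spec (CommRingCat.of Ω) ⟶ S)
    (y : (Scheme.pointSmallEtale ξ).fiber.obj (Scheme.Etale.mk th)) (O : TL.Opens)
    (hy : (y.left : Spec (CommRingCat.of Ω) ⟶ TL).base (default : Spec (CommRingCat.of Ω)) ∈ O) :
    ∃ y' : (Scheme.pointSmallEtale ξ).fiber.obj (sub th O),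
      (Scheme.pointSmallEtale ξ).fiber.map (subι th O) y' = y := by
  let yl : Spec (CommRingCat.of Ω) ⟶ TL := y.left
  have hyl : yl ≫ th = ξ := Over.w y
  have hrange : Set.range yl.base ⊆ Set.range O.ι.base := by
    rintro _ ⟨t, rfl⟩
    rw [Scheme.Opens.range_ι O, Subsingleton.elim t default]
    exact hy
  let y'l : Spec (CommRingCat.of Ω) ⟶ (O : Scheme.{u}) := IsOpenImmersion.lift O.ι yl hrange
  have hy'l : y'l ≫ O.ι = yl := IsOpenImmersion.lift_fac _ _ _
  let y' : (Scheme.pointSmallEtale ξ).fiber.obj (sub th O) := Over.homMk y'l (by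
    change y'l ≫ O.ι ≫ th = ξ
    rw [← Category.assoc, hy'l, hyl])
  refine ⟨y', ?_⟩
  apply Over.OverMorphism.ext
  exact hy'l

end Helpers

/-- if the base changes of `f` are closed maps and the stalks of `H` vanish outside `f⁻¹(V)`,
then the stalks of `f_* H` vanish outside `V` -/
theorem isZero_stalk_push {X Y : Scheme.{u}} (f : X ⟶ Y)
    (hcl : ∀ (WL : Scheme.{u}) (w : WL ⟶ Y) [Etale w], IsClosedMap (pullback.fst w f).base)
    (H : EtCoh.Ab X) (V : Set Y) (hH : EtPBC.supp H ⊆ f.base ⁻¹' V)
    {Ω : Type u} [Field Ω] [IsSepClosed Ω] (ξ : Spec (CommRingCat.of Ω) ⟶ Y)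
    (hξ : ξ.base (default : Spec (CommRingCat.of Ω)) ∉ V) :
    IsZero ((EtCoh.stalk ξ).obj ((EtCoh.push f).obj H)) := by
  let Φ := Scheme.pointSmallEtale ξ
  let P : Y.Etaleᵒᵖ ⥤ AddCommGrpCat.{u + 1} := ((EtCoh.push f).obj H).obj
  have hsub : Subsingleton ((EtCoh.stalk ξ).obj ((EtCoh.push f).obj H)) := by
    constructor
    suffices h0 : ∀ a : (EtCoh.stalk ξ).obj ((EtCoh.push f).obj H), a = 0 by
      intro a b
      rw [h0 a, h0 b]
    intro a
    obtain ⟨W, z, s, rfl⟩ := Φ.toPresheafFiber_jointly_surjective (P := P) a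
    obtain ⟨WL, w, hw, rfl⟩ : ∃ (WL : Scheme.{u}) (w : WL ⟶ Y) (hw : Etale w),
      W = @Scheme.Etale.mk _ _ w hw := ⟨W.left, W.hom, inferInstance, rfl⟩
    let T : X.Etale := (EtCoh.bc f).obj (Scheme.Etale.mk w)
    let s' : H.obj.obj (op T) := s
    let Z : Set ↥(pullback w f) := EtShriek.sectSupp H T s'
    have hZ : IsClosed Z := S0671.isClosed_sectSupp H T s'
    let T₀ : Set WL := (pullback.fst w f).base '' Z
    have hT₀ : IsClosed T₀ := hcl WL w Z hZ
    let W' : WL.Opens := ⟨T₀ᶜ, hT₀.isOpen_compl⟩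
    let zl : Spec (CommRingCat.of Ω) ⟶ WL := z.left
    have hzl : zl ≫ w = ξ := Over.w z
    have hmem : zl.base (default : Spec (CommRingCat.of Ω)) ∈ W' := by
      rintro ⟨p, hp, hpz⟩
      apply hξ
      have hx : (pullback.snd w f).base p ∈ EtPBC.supp H := by
        rw [(S0671.result H).2]
        simp only [Set.mem_iUnion, Set.mem_image]
        exact ⟨T, s', p, hp, rfl⟩
      have h1 : f.base ((pullback.snd w f).base p) ∈ V := hH hx
      have h2 : f.base ((pullback.snd w f).base p) = w.base ((pullback.fst w f).base p) := by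
        change (pullback.snd w f ≫ f).base p = (pullback.fst w f ≫ w).base p
        rw [pullback.condition]
      rw [h2, hpz] at h1
      have h3 : ξ.base default = w.base (zl.base default) := by
        rw [← hzl]; rfl
      rw [h3]
      exact h1
    obtain ⟨z', hz'⟩ := exists_open_refinement w ξ z W' hmem
    rw [← hz', ← Φ.toPresheafFiber_w_apply (subι w W') z' P]
    have h2 : P.map (subι w W').op s = 0 := by
      change H.obj.map ((EtCoh.bc f).map (subι w W')).op s' = 0
      refine map_eq_zero_of_range_subset_compl (pullback.snd w f) H s'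
        ((EtCoh.bc f).map (subι w W')) ?_
      rintro _ ⟨q, rfl⟩ hq
      let bl : pullback (W'.ι ≫ w) f ⟶ pullback w f := ((EtCoh.bc f).map (subι w W')).left
      have b1 : bl ≫ pullback.fst w f = pullback.fst (W'.ι ≫ w) f ≫ W'.ι :=
        S0100.bc_map_left_fst f (subι w W')
      have h3 : (pullback.fst w f).base (bl.base q) =
          W'.ι.base ((pullback.fst (W'.ι ≫ w) f).base q) :=
        congrArg (fun m => m.base q) b1
      have h4 : W'.ι.base ((pullback.fst (W'.ι ≫ w) f).base q) ∈ T₀ᶜ :=
        ((pullback.fst (W'.ι ≫ w) f).base q).2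
      exact h4 ⟨bl.base q, hq, h3⟩
    rw [h2]
    exact map_zero _
  exact AddCommGrpCat.isZero_of_subsingleton _

end Groth.Agent.Lib.Helper43.SuppPush
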