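import Mathlib
import Groth.Prelude.Def_EtBase
import Groth.Agent.Lib.Helper43.EtOpenSub
import Groth.Agent.Lib.Helper43.ClopenExt

/-!
# Gluing sections of a sheaf of sets over a disjoint open cover
-/

set_option autoImplicit false
universe u w
open CategoryTheory CategoryTheory.Limits AlgebraicGeometry Opposite

namespace Groth.Agent.Lib.Helper43.DisjGlue

open Groth.Agent.Lib.Helper43.ClopenExt

lemma bot_mem_of_isEmpty {X : Scheme.{u}} (U : X.Etale) (h : IsEmpty U.left) :
    (⊥ : Sieve U) ∈ X.smallEtaleTopology U := by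
  rw [EtOpenSub.mem_smallEtaleTopology_iff']
  intro x
  exact (h.false x).elim

lemma subsingleton_of_isEmpty {S : Scheme.{u}} (F : Sheaf S.smallEtaleTopology (Type w))
    (T : S.Etale) (hT : IsEmpty T.left) : Subsingleton (F.obj.obj (op T)) := by
  have hmem : (⊥ : Sieve T) ∈ S.smallEtaleTopology T := bot_mem_of_isEmpty T hT
  have hsh := (isSheaf_iff_isSheaf_of_type _ _).1 F.property
  constructor
  intro a b
  exact (hsh _ hmem).isSeparatedFor.ext (fun Y f hf => hf.elim)

section Helpers

variable {S TL : Scheme.{u}} (th : TL ⟶ S) [Etale th]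

/-- the covering presieve given by a family of opens -/
noncomputable abbrev openPresieve {μ : Type*} (W : μ → TL.Opens) :
    Presieve (Scheme.Etale.mk th) :=
  Presieve.ofArrows (fun a => sub th (W a)) (fun a => subι th (W a))

lemma generate_openPresieve_mem {μ : Type*} (W : μ → TL.Opens) (hcov : (⨆ a, W a) = ⊤) :
    Sieve.generate (openPresieve th W) ∈ S.smallEtaleTopology (Scheme.Etale.mk th) := by
  rw [EtOpenSub.mem_smallEtaleTopology_iff']
  intro x
  have hx : x ∈ (⨆ a, W a) := by rw [hcov]; trivial
  obtain ⟨a, ha⟩ := TopologicalSpace.Opens.mem_iSup.1 hx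
  exact ⟨sub th (W a), subι th (W a), (⟨x, ha⟩ : W a),
    Sieve.le_generate _ _ _ (Presieve.ofArrows.mk a), rfl⟩

/-- sections over pairwise disjoint opens covering `T` glue uniquely -/
theorem glue_disjoint (F : Sheaf S.smallEtaleTopology (Type w)) {μ : Type*} (W : μ → TL.Opens)
    (hdisj : ∀ a b, a ≠ b → Disjoint (W a) (W b)) (hcov : (⨆ a, W a) = ⊤)
    (t : ∀ a, F.obj.obj (op (sub th (W a)))) :
    ∃ s : F.obj.obj (op (Scheme.Etale.mk th)), ∀ a, F.obj.map (subι th (W a)).op s = t a := by
  have hsh := (isSheaf_iff_isSheaf_of_type _ _).1 F.property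
  have hmem := generate_openPresieve_mem th W hcov
  have h1 : Presieve.IsSheafFor F.obj (openPresieve th W) :=
    (Presieve.isSheafFor_iff_generate _).2 (hsh _ hmem)
  rw [Presieve.isSheafFor_arrows_iff] at h1
  have hcompat : Presieve.Arrows.Compatible F.obj (fun a => subι th (W a)) t := by
    intro a b Z ga gb hab
    by_cases hE : a = b
    · subst hE
      have : ga = gb := (cancel_mono (subι th (W a))).1 hab
      rw [this]
    · have hemp : IsEmpty Z.left := by
        constructor
        intro z
        let gal : Z.left ⟶ (W a : Scheme.{u}) := ga.left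
        let gbl : Z.left ⟶ (W b : Scheme.{u}) := gb.left
        have e1 : gal ≫ (W a).ι = gbl ≫ (W b).ι := congrArg (fun m => m.left) hab
        have e2 : (W a).ι.base (gal.base z) = (W b).ι.base (gbl.base z) :=
          congrArg (fun m => m.base z) e1
        have m1 : (W a).ι.base (gal.base z) ∈ W a := (gal.base z).2
        have m2 : (W a).ι.base (gal.base z) ∈ W b := by rw [e2]; exact (gbl.base z).2
        exact (Set.disjoint_left.1
          ((TopologicalSpace.Opens.coe_disjoint).2 (hdisj a b hE)) m1 m2)
      exact @Subsingleton.elim _ (subsingleton_of_isEmpty F Z hemp) _ _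
  obtain ⟨s, hs, -⟩ := h1 t hcompat
  exact ⟨s, hs⟩

/-- sections agreeing on a cover by opens agree -/
theorem ext_of_cover (F : Sheaf S.smallEtaleTopology (Type w)) {μ : Type*} (W : μ → TL.Opens)
    (hcov : (⨆ a, W a) = ⊤) (s₁ s₂ : F.obj.obj (op (Scheme.Etale.mk th)))
    (h : ∀ a, F.obj.map (subι th (W a)).op s₁ = F.obj.map (subι th (W a)).op s₂) : s₁ = s₂ := by
  have hsh := (isSheaf_iff_isSheaf_of_type _ _).1 F.property
  have hmem := generate_openPresieve_mem th W hcov
  refine (hsh _ hmem).isSeparatedFor.ext (fun T a ha => ?_)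
  obtain ⟨T', k, g, hg, rfl⟩ := ha
  cases hg with
  | mk a' =>
    rw [op_comp, F.obj.map_comp]
    exact congrArg (F.obj.map k.op) (h a')

end Helpers

end Groth.Agent.Lib.Helper43.DisjGlue
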