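import Mathlib
import Groth.Prelude.Def_EtBase
import Groth.Agent.Lib.Helper7.HensSection
import Groth.Agent.Lib.Helper43.EtOpenSub

/-!
# Étale neighbourhoods of the closed geometric point of a strictly henselian local ring have sections
-/

set_option autoImplicit false
universe u
open CategoryTheory CategoryTheory.Limits AlgebraicGeometry Opposite

namespace Groth.Agent.Lib.Helper43.HensSect

section Helpers

variable (R : Type u) [CommRing R] [HenselianLocalRing R]

/-- the closed geometric point -/
noncomputable abbrev ξ₀ : Spec (CommRingCat.of (IsLocalRing.ResidueField R)) ⟶ Spec (CommRingCat.of R) :=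
  Spec.map (CommRingCat.ofHom (IsLocalRing.residue R))

variable [IsSepClosed (IsLocalRing.ResidueField R)]

/-- the tautological point of the final object over the closed geometric point -/
noncomputable abbrev z₀ : (Scheme.pointSmallEtale (ξ₀ R)).fiber.obj (EtCoh.top (Spec (CommRingCat.of R))) :=
  Over.homMk (ξ₀ R) (Category.comp_id _)

/-- every étale neighbourhood of the closed geometric point has a section through the given point -/
theorem exists_section (U : (Spec (CommRingCat.of R)).Etale)
    (y : (Scheme.pointSmallEtale (ξ₀ R)).fiber.obj U) :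
    ∃ σ : EtCoh.top (Spec (CommRingCat.of R)) ⟶ U,
      (Scheme.pointSmallEtale (ξ₀ R)).fiber.map σ (z₀ R) = y := by
  let UL : Scheme.{u} := U.left
  let uh : UL ⟶ Spec (CommRingCat.of R) := U.hom
  let yl : Spec (CommRingCat.of (IsLocalRing.ResidueField R)) ⟶ UL := y.left
  have hyl : yl ≫ uh = ξ₀ R := Over.w y
  obtain ⟨s, ⟨hs1, hs2⟩, -⟩ :=
    Groth.Agent.Lib.Helper7.HensSection.existsUnique_section_of_point R uh yl hyl
  let σ : EtCoh.top (Spec (CommRingCat.of R)) ⟶ U := MorphismProperty.Over.homMk s hs1
  refine ⟨σ, ?_⟩
  apply Over.OverMorphism.ext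
  exact hs2

/-- any morphism to the final object followed by a section is ... : morphisms to `top` are unique -/
lemma hom_top_ext {X : Scheme.{u}} {U : X.Etale} (a b : U ⟶ EtCoh.top X) : a = b := by
  apply MorphismProperty.Over.Hom.ext
  let al : U.left ⟶ X := a.left
  let bl : U.left ⟶ X := b.left
  have ha : al ≫ 𝟙 X = U.hom := EtOpenSub.hom_left_eq a
  have hb : bl ≫ 𝟙 X = U.hom := EtOpenSub.hom_left_eq b
  have h1 : al = U.hom := (Category.comp_id al).symm.trans ha
  have h2 : bl = U.hom := (Category.comp_id bl).symm.trans hb
  exact h1.trans h2.symm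

end Helpers

end Groth.Agent.Lib.Helper43.HensSect
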