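import Mathlib

set_option autoImplicit false
universe u

namespace Groth.Agent.Lib.Helper43

section ASAlg
open Polynomial

variable (p : ℕ) [Fact p.Prime]

lemma prod_X_sub_C_zmod : ∏ j : ZMod p, (X - C j) = (X ^ p - X : (ZMod p)[X]) := by
  have hp1 : 1 < p := (Fact.out : p.Prime).one_lt
  have h1 : (X ^ p - X : (ZMod p)[X]).roots = Finset.univ.val := by
    have := FiniteField.roots_X_pow_card_sub_X (ZMod p)
    rwa [ZMod.card] at this
  have hd : (X ^ p - X : (ZMod p)[X]).natDegree = p :=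
    FiniteField.X_pow_card_sub_X_natDegree_eq (ZMod p) hp1
  have hm : (X ^ p - X : (ZMod p)[X]).Monic := by
    apply monic_X_pow_sub
    rw [degree_X]
    exact_mod_cast hp1
  have := prod_multiset_X_sub_C_of_monic_of_roots_card_eq hm (by rw [h1, hd]; simp)
  rw [h1] at this
  simpa using this

variable {p} {R : Type*} [CommRing R] (φ : ZMod p →+* R) (d : R)

lemma prod_sub_eq_zero (hd : d ^ p = d) : ∏ j : ZMod p, (d - φ j) = 0 := by
  have h := congrArg (eval₂ φ d) (prod_X_sub_C_zmod p)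
  rw [eval₂_finsetProd] at h
  simp only [eval₂_sub, eval₂_X, eval₂_C, eval₂_pow] at h
  rw [h, hd, sub_self]

/-- the Lagrange idempotents attached to `d` -/
noncomputable def lag (m : ZMod p) : R := ∏ j ∈ Finset.univ.erase m, φ ((m - j)⁻¹) * (d - φ j)

lemma sum_lag : ∑ m : ZMod p, lag φ d m = 1 := by
  have h := congrArg (eval₂ φ d) (Lagrange.sum_basis (s := (Finset.univ : Finset (ZMod p))) (v := id)
    (Set.injOn_id _) Finset.univ_nonempty)
  rw [eval₂_finsetSum, eval₂_one] at h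
  rw [← h]
  refine Finset.sum_congr rfl fun m _ => ?_
  unfold lag Lagrange.basis Lagrange.basisDivisor
  rw [eval₂_finsetProd]
  refine Finset.prod_congr rfl fun j _ => ?_
  simp only [eval₂_mul, eval₂_sub, eval₂_X, eval₂_C, id]

lemma lag_mul_sub (hd : d ^ p = d) (m : ZMod p) : lag φ d m * (d - φ m) = 0 := by
  unfold lag
  rw [Finset.prod_mul_distrib, _root_.mul_assoc, Finset.prod_erase_mul _ _ (Finset.mem_univ m),
    prod_sub_eq_zero φ d hd, mul_zero]

lemma lag_mul_lag (hd : d ^ p = d) {m m' : ZMod p} (h : m ≠ m') : lag φ d m * lag φ d m' = 0 := by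
  have hm : m ∈ Finset.univ.erase m' := Finset.mem_erase.mpr ⟨h, Finset.mem_univ m⟩
  have : lag φ d m' = (φ ((m' - m)⁻¹) * (d - φ m)) *
      ∏ j ∈ (Finset.univ.erase m').erase m, φ ((m' - j)⁻¹) * (d - φ j) := by
    unfold lag
    exact (Finset.mul_prod_erase _ (fun j => φ ((m' - j)⁻¹) * (d - φ j)) hm).symm
  rw [this]
  calc lag φ d m * (φ ((m' - m)⁻¹) * (d - φ m) *
        ∏ j ∈ (Finset.univ.erase m').erase m, φ ((m' - j)⁻¹) * (d - φ j))
      = (lag φ d m * (d - φ m)) * (φ ((m' - m)⁻¹) *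
        ∏ j ∈ (Finset.univ.erase m').erase m, φ ((m' - j)⁻¹) * (d - φ j)) := by ring
    _ = 0 := by rw [lag_mul_sub φ d hd, zero_mul]

end ASAlg

section ZModHom

variable (p : ℕ) {R : Type*} [CommRing R]

/-- the ring hom `ZMod p → R` when `p = 0` in `R` -/
noncomputable def zmodHom (hp : (p : R) = 0) : ZMod p →+* R :=
  (Ideal.Quotient.lift (Ideal.span {(p : ℤ)}) (Int.castRingHom R) (by
    intro a ha
    obtain ⟨c, rfl⟩ := Ideal.mem_span_singleton.mp ha
    simp [hp])).comp (Int.quotientSpanNatEquivZMod p).symm.toRingHom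

end ZModHom

end Groth.Agent.Lib.Helper43
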