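import Mathlib
import Groth.Prelude.Def_NonAbH2
import Groth.Agent.Lib.Helper43.GaGm

set_option autoImplicit false
universe u

open CategoryTheory MonoidalCategory CartesianMonoidalCategory MonObj Limits AlgebraicGeometry
open scoped TensorProduct

namespace Groth.Agent.Lib.Helper43

section ASCover
open Polynomial

/-- the polynomial ring `ℤ[x]` as the symmetric algebra -/
abbrev AZ : Type u := SymmetricAlgebra (ULift.{u} ℤ) (ULift.{u} ℤ)

/-- the coordinate `x` -/
noncomputable abbrev xZ : AZ.{u} := SymmetricAlgebra.ι (ULift.{u} ℤ) (ULift.{u} ℤ) (ULift.up 1)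

/-- `Y^p - Y + x` -/
noncomputable def asPoly (p : ℕ) : AZ.{u}[X] := X ^ p + (C xZ - X)

lemma asPoly_monic (p : ℕ) (hp : 1 < p) : (asPoly.{u} p).Monic := by
  apply monic_X_pow_add
  refine (degree_sub_le _ _).trans_lt (max_lt ?_ ?_)
  · exact degree_C_le.trans_lt (by exact_mod_cast Nat.zero_lt_of_lt hp)
  · exact degree_X_le.trans_lt (by exact_mod_cast hp)

lemma asPoly_natDegree (p : ℕ) (hp : 1 < p) : (asPoly.{u} p).natDegree = p := by
  unfold asPoly
  rw [natDegree_add_eq_left_of_degree_lt, natDegree_X_pow]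
  rw [degree_X_pow]
  refine (degree_sub_le _ _).trans_lt (max_lt ?_ ?_)
  · exact degree_C_le.trans_lt (by exact_mod_cast Nat.zero_lt_of_lt hp)
  · exact degree_X_le.trans_lt (by exact_mod_cast hp)

/-- `ℤ[x][Y]/(Y^p - Y + x)` -/
abbrev ASRing (p : ℕ) : Type u := AdjoinRoot (asPoly.{u} p)

lemma asRing_root (p : ℕ) :
    AdjoinRoot.root (asPoly.{u} p) - (AdjoinRoot.root (asPoly.{u} p)) ^ p = algebraMap AZ (ASRing p) xZ := by
  have h : eval₂ (AdjoinRoot.of (asPoly.{u} p)) (AdjoinRoot.root (asPoly.{u} p))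
      (X ^ p + (C xZ - X)) = 0 := AdjoinRoot.eval₂_root (asPoly.{u} p)
  rw [eval₂_add, eval₂_pow, eval₂_sub, eval₂_X, eval₂_C] at h
  have h' : algebraMap AZ (ASRing p) xZ = AdjoinRoot.of (asPoly.{u} p) xZ := rfl
  rw [h']
  linear_combination (-1 : ASRing.{u} p) * h

lemma asRing_nontrivial (p : ℕ) (hp : 1 < p) : Nontrivial (ASRing.{u} p) := by
  have h : AdjoinRoot.mk (asPoly.{u} p) 1 ≠ 0 := by
    apply AdjoinRoot.mk_ne_zero_of_natDegree_lt (asPoly_monic p hp) one_ne_zero
    rw [natDegree_one, asPoly_natDegree p hp]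
    exact Nat.zero_lt_of_lt hp
  exact nontrivial_of_ne _ _ h

lemma asRing_faithfullyFlat (p : ℕ) (hp : 1 < p) : Module.FaithfullyFlat AZ.{u} (ASRing.{u} p) := by
  have := asRing_nontrivial.{u} p hp
  have := (asPoly_monic.{u} p hp).free_adjoinRoot
  infer_instance

/-- the Artin–Schreier cover of the affine line -/
noncomputable abbrev asMap (p : ℕ) : Spec (CommRingCat.of (ASRing.{u} p)) ⟶ Spec (CommRingCat.of AZ.{u}) :=
  Spec.map (CommRingCat.ofHom (algebraMap AZ.{u} (ASRing.{u} p)))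

lemma asMap_flat_surj (p : ℕ) (hp : 1 < p) : Flat (asMap.{u} p) ∧ Surjective (asMap.{u} p) := by
  rw [flat_and_surjective_SpecMap_iff]
  exact RingHom.faithfullyFlat_algebraMap_iff.mpr (asRing_faithfullyFlat p hp)

lemma asMap_lfp (p : ℕ) : LocallyOfFinitePresentation (asMap.{u} p) := by
  rw [LocallyOfFinitePresentation.SpecMap_iff]
  exact RingHom.finitePresentation_algebraMap.mpr inferInstance

end ASCover

end Groth.Agent.Lib.Helper43
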