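import Mathlib

/-!
# Filtered colimits of abelian groups, element-wise, with unrelated universes

For `J : Type v` a small filtered category and `F : J ⥤ AddCommGrpCat.{w}` (no relation between `v` and
`w`) with a colimit cocone `c`: every element of `c.pt` comes from a stage, and an element of a stage dies
in `c.pt` iff it dies at a later stage.  (Mathlib's `forget`-preservation instances need `v ≤ w`; we pass
through `AddCommGrpCat.uliftFunctor`, which preserves all colimits.)
-/

universe w v

open CategoryTheory CategoryTheory.Limits

namespace Groth.Agent.Lib.Helper43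
namespace AbFilteredColim

variable {J : Type v} [SmallCategory J] [IsFiltered J] {F : J ⥤ AddCommGrpCat.{w}} {c : Cocone F}

instance forgetPres : PreservesFilteredColimitsOfSize.{v, v} (forget AddCommGrpCat.{max w v}) :=
  preservesFilteredColimitsOfSize_shrink.{v, max w v, v, max w v} _

/-- the auxiliary functor to types -/
noncomputable abbrev G : AddCommGrpCat.{w} ⥤ Type (max w v) :=
  AddCommGrpCat.uliftFunctor.{v, w} ⋙ forget AddCommGrpCat.{max w v}

noncomputable def isColimitG (hc : IsColimit c) : IsColimit (G.{w, v}.mapCocone c) := by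
  have : PreservesColimitsOfShape J (forget AddCommGrpCat.{max w v}) :=
    PreservesFilteredColimitsOfSize.preserves_filtered_colimits J
  exact isColimitOfPreserves G.{w, v} hc

lemma jointly_surjective (hc : IsColimit c) (x : c.pt) :
    ∃ (j : J) (y : F.obj j), c.ι.app j y = x := by
  obtain ⟨j, y, hy⟩ := Types.jointly_surjective_of_isColimit (isColimitG.{w, v} hc) (ULift.up x)
  exact ⟨j, y.down, congrArg ULift.down hy⟩

lemma eq_zero_stage (hc : IsColimit c) {j : J} (y : F.obj j) (h : c.ι.app j y = 0) :
    ∃ (k : J) (f : j ⟶ k), F.map f y = 0 := by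
  have h' : (G.{w, v}.mapCocone c).ι.app j (ULift.up y) = (G.{w, v}.mapCocone c).ι.app j (ULift.up 0) := by
    apply ULift.ext
    change c.ι.app j y = c.ι.app j 0
    rw [h, map_zero]
  obtain ⟨k, f, hf⟩ := (Types.FilteredColimit.isColimit_eq_iff' (isColimitG.{w, v} hc) _ _).1 h'
  refine ⟨k, f, ?_⟩
  have := congrArg ULift.down hf
  change F.map f y = F.map f 0 at this
  rw [this, map_zero]

end AbFilteredColim
end Groth.Agent.Lib.Helper43
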