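import Mathlib
import Groth.Prelude
import Groth.Agent.Lib.Helper15.PointFiberLemmas
import Groth.Agent.Lib.Helper43.ConstSheaf

set_option autoImplicit false
universe u
open CategoryTheory CategoryTheory.Limits AlgebraicGeometry Opposite

namespace Groth.Agent.Lib.Helper43.EtConstStalk

open Groth.Agent.Lib.Helper15.PointFiberLemmas Groth.Agent.Lib.Helper43.ConstSheaf

variable {T : Scheme.{u}}

/-- germs of constant sections identify the value group with the stalk of the constant sheaf -/
theorem cstGerm_bijective (M : AddCommGrpCat.{u + 1})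
    (Φ : GrothendieckTopology.Point.{u} T.smallEtaleTopology)
    (W : T.Etale) (y : Φ.fiber.obj W) :
    Function.Bijective (fun m : M => Φ.toPresheafFiber W y
      (K.{u + 1} T.smallEtaleTopology M).obj (cst.{u + 1} T.smallEtaleTopology M W m)) := by
  have h1 : Φ.toPresheafFiber W y (cpsh M) ≫ (constPresheafFiberIso Φ M).hom = 𝟙 M := by
    exact IsColimit.comp_coconePointUniqueUpToIso_hom _ _ _
  have h2 : IsIso (Φ.toPresheafFiber W y (cpsh M)) := by
    have : Φ.toPresheafFiber W y (cpsh M) = (constPresheafFiberIso Φ M).inv := by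
      rw [← cancel_mono (constPresheafFiberIso Φ M).hom, h1, Iso.inv_hom_id]
      rfl
    rw [this]
    infer_instance
  have h3 : IsIso (Φ.toPresheafFiber W y (cpsh M) ≫
      Φ.presheafFiber.map (toSheafify T.smallEtaleTopology (cpsh M))) := inferInstance
  have h4 := (ConcreteCategory.isIso_iff_bijective _).1 h3
  have h5 : (fun m : M => Φ.toPresheafFiber W y
      (K.{u + 1} T.smallEtaleTopology M).obj (cst.{u + 1} T.smallEtaleTopology M W m)) =
      ⇑(ConcreteCategory.hom (Φ.toPresheafFiber W y (cpsh M) ≫
      Φ.presheafFiber.map (toSheafify T.smallEtaleTopology (cpsh M)))) := by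
    funext m
    rw [ConcreteCategory.comp_apply]
    exact (Φ.toPresheafFiber_naturality_apply (toSheafify T.smallEtaleTopology (cpsh M)) W y m).symm
  rw [h5]
  exact h4

end Groth.Agent.Lib.Helper43.EtConstStalk
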