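import Mathlib
import Groth.Prelude
import Groth.Agent.Lib.Helper43.EtLCHom
import Groth.Agent.Lib.Helper43.EtSupp
import Groth.Agent.Lib.Helper43.EtStalk

/-!
# Subsheaves of finite locally constant sheaves: lower semicontinuity of stalk cardinalities
-/

set_option autoImplicit false
set_option linter.unusedSectionVars false
universe u
open CategoryTheory CategoryTheory.Limits AlgebraicGeometry Opposite

namespace Groth.Agent.Lib.Helper43.EtSubFLC

open Groth.Agent.Lib.Helper43 Groth.Agent.Lib.Helper43.ConstSheaf Groth.Agent.Lib.Helper43.LCHom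
  Groth.Agent.Lib.Helper43.EtLCHom Groth.Agent.Lib.Helper43.EtSupp Groth.Agent.Lib.Helper43.EtStalk

variable {T : Scheme.{u}}

lemma iso_inv_app_injective {C : Type*} [Category C] {J : GrothendieckTopology C}
    {A B : Sheaf J AddCommGrpCat.{u + 1}} (e : A ≅ B) (Y : Cᵒᵖ) :
    Function.Injective (e.inv.hom.app Y) := by
  intro p q hpq
  have h1 : e.hom.hom.app Y (e.inv.hom.app Y p) = p :=
    congrArg (fun k => k.hom.app Y p) e.inv_hom_id
  have h2 : e.hom.hom.app Y (e.inv.hom.app Y q) = q :=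
    congrArg (fun k => k.hom.app Y q) e.inv_hom_id
  rw [← h1, ← h2, hpq]

/-- local description of finitely many sections of a finite locally constant sheaf -/
theorem exists_local_const (Q : EtCoh.Ab T) (hQ : EtCoh.IsFiniteLocallyConstant Q) (V : T.Etale)
    (v : V.left) {ι : Type*} [Finite ι] (s : ι → Q.obj.obj (op V)) :
    ∃ (W : T.Etale) (g : W ⟶ V) (z : W.left) (M : AddCommGrpCat.{u + 1}) (_ : Finite M) (n : ι → M),
      g.left z = v ∧
      (∀ a b, n a = n b → Q.obj.map g.op (s a) = Q.obj.map g.op (s b)) ∧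
      (∀ (W₂ : T.Etale) (h : W₂ ⟶ W), Nonempty W₂.left → ∀ a b,
        Q.obj.map h.op (Q.obj.map g.op (s a)) = Q.obj.map h.op (Q.obj.map g.op (s b)) →
          n a = n b) := by
  obtain ⟨κ, U, hcov, hU⟩ := hQ
  obtain ⟨i, y, hy⟩ := hcov (V.hom v)
  obtain ⟨M₀, iM, fM, ⟨e⟩⟩ := hU i
  let M : AddCommGrpCat.{u + 1} := AddCommGrpCat.of (ULift.{u + 1} M₀)
  have hMfin : Finite M := inferInstanceAs (Finite (ULift.{u + 1} M₀))
  obtain ⟨W₀, a, b, z₀, hz₀⟩ := EtOpenSub.exists_refinement V (U i) v y hy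
  let α := transport T.smallEtaleTopology AddCommGrpCat.{u + 1} Q b M e
  let t : ι → (K.{u + 1} (T.smallEtaleTopology.over W₀) M).obj.obj (op (Over.mk (𝟙 W₀))) :=
    fun j => α.hom.hom.app (op (Over.mk (𝟙 W₀))) (Q.obj.map a.op (s j))
  obtain ⟨W, g, z, hz, n, hn⟩ := exists_const W₀ z₀ M t
  let α₁ := transport T.smallEtaleTopology AddCommGrpCat.{u + 1} Q g M α
  have key : ∀ j, Q.obj.map g.op (Q.obj.map a.op (s j)) =
      α₁.inv.hom.app (op (Over.mk (𝟙 W))) (cst.{u + 1} (T.smallEtaleTopology.over W) M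
        (Over.mk (𝟙 W)) (n j)) := fun j =>
    restrict_eq_of_const T.smallEtaleTopology g α (Q.obj.map a.op (s j)) (n j) (hn j)
  have hcomp : ∀ j, Q.obj.map (g ≫ a).op (s j) = Q.obj.map g.op (Q.obj.map a.op (s j)) := by
    intro j
    rw [op_comp, CategoryTheory.Functor.map_comp]
    rfl
  refine ⟨W, g ≫ a, z, M, hMfin, n, ?_, ?_, ?_⟩
  · change a.left (g.left z) = v
    rw [hz, hz₀]
  · intro j j' hjj'
    rw [hcomp, hcomp, key, key, hjj']
  · intro W₂ h hne j j' hjj'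
    rw [hcomp, hcomp, key, key] at hjj'
    have r1 := restrict_inv_cst T.smallEtaleTopology h α₁ (n j)
    have r2 := restrict_inv_cst T.smallEtaleTopology h α₁ (n j')
    rw [r1, r2] at hjj'
    have hinj2 := cst_injective_over W₂ M (Over.mk (𝟙 W₂)) hne
    exact hinj2 (iso_inv_app_injective
      (transport T.smallEtaleTopology AddCommGrpCat.{u + 1} Q h M α₁) _ hjj')

/-- stalks of a finite locally constant sheaf are finite -/
theorem finite_stalk_of_isFLC (Q : EtCoh.Ab T) (hQ : EtCoh.IsFiniteLocallyConstant Q)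
    {Ω : Type u} [Field Ω] [IsSepClosed Ω] (ξ : Spec (CommRingCat.of Ω) ⟶ T) :
    Finite ((EtCoh.stalk ξ).obj Q) := by
  obtain ⟨κ, U, hcov, hU⟩ := hQ
  obtain ⟨i, y, hy⟩ := hcov (ξ default)
  obtain ⟨M₀, iM, fM, ⟨e⟩⟩ := hU i
  obtain ⟨e'⟩ := stalk_iso_of_triv Q (U i) (AddCommGrpCat.of (ULift.{u + 1} M₀)) e ξ y hy
  have : Finite (AddCommGrpCat.of (ULift.{u + 1} M₀)) := inferInstanceAs (Finite (ULift.{u + 1} M₀))
  exact Finite.of_equiv _ e'.symm.addCommGroupIsoToAddEquiv.toEquiv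

/-- finitely many germs are represented on a common étale neighbourhood -/
theorem exists_common_rep (P : T.Etaleᵒᵖ ⥤ AddCommGrpCat.{u + 1})
    {Ω : Type u} [Field Ω] [IsSepClosed Ω] (ξ : Spec (CommRingCat.of Ω) ⟶ T) :
    ∀ (c : ℕ) (x : Fin c →
      ((Scheme.pointSmallEtale ξ).presheafFiber (A := AddCommGrpCat.{u + 1})).obj P),
      ∃ (V : T.Etale) (y : (Scheme.pointSmallEtale ξ).fiber.obj V) (s : Fin c → P.obj (op V)),
        ∀ a, (Scheme.pointSmallEtale ξ).toPresheafFiber V y P (s a) = x a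
  | 0, x => by
    let V : T.Etale := MorphismProperty.Over.mk ⊤ (𝟙 T) inferInstance
    exact ⟨V, Over.homMk ξ (Category.comp_id ξ), fun a => a.elim0, fun a => a.elim0⟩
  | c + 1, x => by
    obtain ⟨V₁, y₁, s₁, h₁⟩ := exists_common_rep P ξ c (fun a => x a.succ)
    obtain ⟨V₀, y₀, s₀, h₀⟩ := (Scheme.pointSmallEtale ξ).toPresheafFiber_jointly_surjective (x 0)
    obtain ⟨W, g₁, g₀, -⟩ := IsCofilteredOrEmpty.cone_objs
      ((Scheme.pointSmallEtale ξ).fiber.elementsMk V₁ y₁)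
      ((Scheme.pointSmallEtale ξ).fiber.elementsMk V₀ y₀)
    obtain ⟨W, w⟩ := W
    obtain ⟨g₁, hg₁⟩ := g₁
    obtain ⟨g₀, hg₀⟩ := g₀
    refine ⟨W, w, Fin.cons (P.map g₀.op s₀) (fun a => P.map g₁.op (s₁ a)), ?_⟩
    intro a
    refine Fin.cases ?_ (fun b => ?_) a
    · rw [Fin.cons_zero]
      have := (Scheme.pointSmallEtale ξ).toPresheafFiber_w_apply g₀ w P s₀
      rw [this]
      change (Scheme.pointSmallEtale ξ).toPresheafFiber V₀
        ((Scheme.pointSmallEtale ξ).fiber.map g₀ w) P s₀ = x 0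
      rw [hg₀]
      exact h₀
    · rw [Fin.cons_succ]
      have := (Scheme.pointSmallEtale ξ).toPresheafFiber_w_apply g₁ w P (s₁ b)
      rw [this]
      change (Scheme.pointSmallEtale ξ).toPresheafFiber V₁
        ((Scheme.pointSmallEtale ξ).fiber.map g₁ w) P (s₁ b) = x b.succ
      rw [hg₁]
      exact h₁ b

lemma hom_naturality_apply {A B : EtCoh.Ab T} (φ : A ⟶ B) {V W : T.Etale} (g : W ⟶ V)
    (s : A.obj.obj (op V)) :
    φ.hom.app (op W) (A.obj.map g.op s) = B.obj.map g.op (φ.hom.app (op V) s) :=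
  congrArg (fun k => k.hom s) (φ.hom.naturality g.op)

/-- lower semicontinuity of the number of elements of the stalks of a subsheaf of a finite locally
constant sheaf -/
theorem lsc (Q Q' : EtCoh.Ab T) (ι : Q' ⟶ Q) [Mono ι] (hQ : EtCoh.IsFiniteLocallyConstant Q)
    {Ω : Type u} [Field Ω] [IsSepClosed Ω] (ξ : Spec (CommRingCat.of Ω) ⟶ T) (c : ℕ)
    (x : Fin c → (EtCoh.stalk ξ).obj Q') (hx : Function.Injective x) :
    ∃ W : Set T, IsOpen W ∧ ξ default ∈ W ∧
      ∀ (Ω' : Type u) [Field Ω'] [IsSepClosed Ω'] (ξ' : Spec (CommRingCat.of Ω') ⟶ T),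
        ξ' default ∈ W → ∃ x' : Fin c → (EtCoh.stalk ξ').obj Q', Function.Injective x' := by
  obtain ⟨V, y, s', hs'⟩ := exists_common_rep Q'.obj ξ c x
  let yl : Spec (CommRingCat.of Ω) ⟶ V.left := y.left
  have hyl : yl ≫ V.hom = ξ := Over.w y
  let s : Fin c → Q.obj.obj (op V) := fun a => ι.hom.app (op V) (s' a)
  obtain ⟨W, g, z, M, hM, n, hz, hn1, hn2⟩ := exists_local_const Q hQ V (yl default) s
  obtain ⟨l, hl₁, hl₂⟩ := Scheme.exists_fac_of_etale_of_isSepClosed g.left yl z hz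
  have hgW : g.left ≫ V.hom = W.hom := MorphismProperty.Over.w g
  have hlW : l ≫ W.hom = ξ := by
    rw [← hgW, ← Category.assoc, hl₁]
    exact hyl
  let y₁ : (Scheme.pointSmallEtale ξ).fiber.obj W := Over.homMk l hlW
  have hy₁ : (Scheme.pointSmallEtale ξ).fiber.map g y₁ = y := Over.OverMorphism.ext hl₁
  have hιinj := (mono_iff_stalks_ab ι).1 inferInstance Ω ξ
  have hninj : Function.Injective n := by
    intro a b hab
    apply hx
    apply hιinj
    rw [← hs' a, ← hs' b]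
    have e1 := (Scheme.pointSmallEtale ξ).toPresheafFiber_naturality_apply ι.hom V y (s' a)
    have e2 := (Scheme.pointSmallEtale ξ).toPresheafFiber_naturality_apply ι.hom V y (s' b)
    refine e1.trans (Eq.trans ?_ e2.symm)
    have e3 := (Scheme.pointSmallEtale ξ).toPresheafFiber_w_apply g y₁ Q.obj (s a)
    have e4 := (Scheme.pointSmallEtale ξ).toPresheafFiber_w_apply g y₁ Q.obj (s b)
    rw [hy₁] at e3 e4
    refine e3.symm.trans (Eq.trans ?_ e4)
    rw [hn1 a b hab]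
  have : Etale W.hom := W.prop
  refine ⟨Set.range W.hom, W.hom.isOpenMap.isOpen_range, ⟨l default, ?_⟩, ?_⟩
  · rw [← hlW]
    rfl
  · rintro Ω' _ _ ξ' ⟨z', hz'⟩
    obtain ⟨l', hl'₁, -⟩ := Scheme.exists_fac_of_etale_of_isSepClosed W.hom ξ' z' hz'
    let y' : (Scheme.pointSmallEtale ξ').fiber.obj W := Over.homMk l' hl'₁
    refine ⟨fun a => (Scheme.pointSmallEtale ξ').toPresheafFiber W y' Q'.obj
      (Q'.obj.map g.op (s' a)), ?_⟩
    intro a b hab
    apply hninj
    obtain ⟨W₂, h, y'', -, hh⟩ :=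
      ((Scheme.pointSmallEtale ξ').toPresheafFiber_eq_iff' W y' _ _).1 hab
    let yl'' : Spec (CommRingCat.of Ω') ⟶ W₂.left := y''.left
    apply hn2 W₂ h ⟨yl'' default⟩ a b
    have h5 := congrArg (fun t => ι.hom.app (op W₂) t) hh
    simp only [hom_naturality_apply] at h5
    exact h5

end Groth.Agent.Lib.Helper43.EtSubFLC
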