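import Mathlib
import Groth.Prelude
import Groth.Agent.Lib.Helper43.EtSubFLC

set_option autoImplicit false
universe u
open CategoryTheory CategoryTheory.Limits AlgebraicGeometry Opposite

namespace Groth.Agent.Lib.Helper43.EtGermLift

variable {T : Scheme.{u}} (P : T.Etaleᵒᵖ ⥤ AddCommGrpCat.{u + 1})
  (Φ : GrothendieckTopology.Point.{u} T.smallEtaleTopology)

/-- finitely many sections with vanishing germs vanish on a common neighbourhood -/
theorem exists_kill (V₀ : T.Etale) (y₀ : Φ.fiber.obj V₀) :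
    ∀ (n : ℕ) (d : Fin n → P.obj (op V₀)), (∀ i, Φ.toPresheafFiber V₀ y₀ P (d i) = 0) →
      ∃ (V₁ : T.Etale) (g : V₁ ⟶ V₀) (y₁ : Φ.fiber.obj V₁), Φ.fiber.map g y₁ = y₀ ∧
        ∀ i, P.map g.op (d i) = 0
  | 0, d, _ => ⟨V₀, 𝟙 V₀, y₀, by simp, fun i => i.elim0⟩
  | n + 1, d, hd => by
    obtain ⟨V₁, g, y₁, hy₁, hg⟩ := exists_kill V₀ y₀ n (fun i => d i.castSucc)
      (fun i => hd i.castSucc)
    have h1 : Φ.toPresheafFiber V₁ y₁ P (P.map g.op (d (Fin.last n))) =
        Φ.toPresheafFiber V₁ y₁ P 0 := by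
      rw [map_zero]
      have := Φ.toPresheafFiber_w_apply g y₁ P (d (Fin.last n))
      rw [this, hy₁]
      exact hd _
    obtain ⟨V₂, h, y₂, hy₂, hh⟩ := (Φ.toPresheafFiber_eq_iff' V₁ y₁ _ _).1 h1
    refine ⟨V₂, h ≫ g, y₂, ?_, ?_⟩
    · rw [Functor.map_comp]
      change Φ.fiber.map g (Φ.fiber.map h y₂) = y₀
      rw [hy₂, hy₁]
    · intro i
      refine Fin.lastCases ?_ (fun j => ?_) i
      · rw [op_comp, Functor.map_comp]
        change P.map h.op (P.map g.op (d (Fin.last n))) = 0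
        rw [hh, map_zero]
      · rw [op_comp, Functor.map_comp]
        change P.map h.op (P.map g.op (d j.castSucc)) = 0
        rw [hg j, map_zero]


/-- finitely many germs are represented on a common neighbourhood -/
theorem exists_common_rep :
    ∀ (c : ℕ) (x : Fin c → (Φ.presheafFiber (A := AddCommGrpCat.{u + 1})).obj P),
      ∃ (V : T.Etale) (y : Φ.fiber.obj V) (s : Fin c → P.obj (op V)),
        ∀ a, Φ.toPresheafFiber V y P (s a) = x a
  | 0, x => by
    obtain ⟨⟨V, y⟩⟩ := (IsCofiltered.nonempty : Nonempty Φ.fiber.Elements)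
    exact ⟨V, y, fun a => a.elim0, fun a => a.elim0⟩
  | c + 1, x => by
    obtain ⟨V₁, y₁, s₁, h₁⟩ := exists_common_rep c (fun a => x a.succ)
    obtain ⟨V₀, y₀, s₀, h₀⟩ := Φ.toPresheafFiber_jointly_surjective (x 0)
    obtain ⟨W, g₁, g₀, -⟩ := IsCofilteredOrEmpty.cone_objs
      (Φ.fiber.elementsMk V₁ y₁) (Φ.fiber.elementsMk V₀ y₀)
    obtain ⟨W, w⟩ := W
    obtain ⟨g₁, hg₁⟩ := g₁
    obtain ⟨g₀, hg₀⟩ := g₀
    refine ⟨W, w, Fin.cons (P.map g₀.op s₀) (fun a => P.map g₁.op (s₁ a)), ?_⟩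
    intro a
    refine Fin.cases ?_ (fun b => ?_) a
    · rw [Fin.cons_zero]
      have := Φ.toPresheafFiber_w_apply g₀ w P s₀
      rw [this]
      change Φ.toPresheafFiber V₀ (Φ.fiber.map g₀ w) P s₀ = x 0
      rw [hg₀]
      exact h₀
    · rw [Fin.cons_succ]
      have := Φ.toPresheafFiber_w_apply g₁ w P (s₁ b)
      rw [this]
      change Φ.toPresheafFiber V₁ (Φ.fiber.map g₁ w) P (s₁ b) = x b.succ
      rw [hg₁]
      exact h₁ b

/-- a finite stalk lifts additively to sections over a neighbourhood -/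
theorem exists_add_lift [Finite ((Φ.presheafFiber (A := AddCommGrpCat.{u + 1})).obj P)] :
    ∃ (V : T.Etale) (y : Φ.fiber.obj V)
      (t : (Φ.presheafFiber (A := AddCommGrpCat.{u + 1})).obj P →+ P.obj (op V)),
      ∀ m, Φ.toPresheafFiber V y P (t m) = m := by
  classical
  set M := (Φ.presheafFiber (A := AddCommGrpCat.{u + 1})).obj P with hM
  have := Fintype.ofFinite M
  let e : Fin (Fintype.card M) ≃ M := (Fintype.equivFin M).symm
  obtain ⟨V₀, y₀, s₀, hs₀⟩ := exists_common_rep P Φ (Fintype.card M) (fun a => e a)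
  let s : M → P.obj (op V₀) := fun m => s₀ (e.symm m)
  have hs : ∀ m, Φ.toPresheafFiber V₀ y₀ P (s m) = m := fun m => by
    change Φ.toPresheafFiber V₀ y₀ P (s₀ (e.symm m)) = m
    rw [hs₀]
    exact e.apply_symm_apply m
  let e2 : Fin (Fintype.card (M × M)) ≃ M × M := (Fintype.equivFin (M × M)).symm
  obtain ⟨V₁, g, y₁, hy₁, hg⟩ := exists_kill P Φ V₀ y₀ (Fintype.card (M × M))
    (fun i => s (e2 i).1 + s (e2 i).2 - s ((e2 i).1 + (e2 i).2)) (fun i => by
      rw [map_sub, map_add, hs, hs, hs, sub_self])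
  have hadd : ∀ m m' : M, P.map g.op (s (m + m')) = P.map g.op (s m) + P.map g.op (s m') := by
    intro m m'
    have h := hg (e2.symm (m, m'))
    rw [Equiv.apply_symm_apply, map_sub, map_add, sub_eq_zero] at h
    exact h.symm
  refine ⟨V₁, y₁, AddMonoidHom.mk' (fun m => P.map g.op (s m)) hadd, fun m => ?_⟩
  change Φ.toPresheafFiber V₁ y₁ P (P.map g.op (s m)) = m
  have := Φ.toPresheafFiber_w_apply g y₁ P (s m)
  rw [this, hy₁]
  exact hs m

end Groth.Agent.Lib.Helper43.EtGermLift
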