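import Mathlib
import Groth.Prelude
import Groth.Agent.Lib.Helper43.EtStalk
import Groth.Agent.Lib.Helper43.EtSupp
import Groth.Agent.Lib.Helper43.EtConstrStalk
import Groth.Agent.Lib.Helper43.PullStalk

/-!
# Descent of properties of abelian étale sheaves along surjective morphisms, via stalks
-/

set_option autoImplicit false
set_option linter.unusedSectionVars false
universe u
open CategoryTheory CategoryTheory.Limits AlgebraicGeometry Opposite

namespace Groth.Agent.Lib.Helper43.EtSurjDescent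

open Groth.Agent.Lib.Helper43 Groth.Agent.Lib.Helper43.EtStalk Groth.Agent.Lib.Helper43.EtSupp
  Groth.Agent.Lib.Helper43.EtConstrStalk

section Covers

variable {Y : Scheme.{u}}

/-- a family of geometric points through every point of `Y` -/
def Covers (Pts : Set (GrothendieckTopology.Point.{u} Y.smallEtaleTopology)) : Prop :=
  ∀ y : Y, ∃ (Ω : Type u) (_ : Field Ω) (_ : IsSepClosed Ω) (ξ : Spec (CommRingCat.of Ω) ⟶ Y),
    ξ default = y ∧ Scheme.pointSmallEtale ξ ∈ Pts

theorem detectsCoverings_of_covers {Pts : Set (GrothendieckTopology.Point.{u} Y.smallEtaleTopology)}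
    (h : Covers Pts) : Groth.Agent.H53.DetectsCoverings Pts := by
  intro U R hR
  rw [EtOpenSub.mem_smallEtaleTopology_iff']
  intro x
  let s₀ : Y := U.hom x
  obtain ⟨Ω, _, _, s, hs₀', hmem⟩ := h s₀
  have hs₀ : s default = s₀ := hs₀'
  obtain ⟨x', hx'⟩ := Scheme.pointSmallEtaleFiberObjToPreimage_surjective s hs₀ U ⟨x, rfl⟩
  rw [Subtype.ext_iff] at hx'
  obtain ⟨V, f, hf, y, hy⟩ := hR _ hmem x'
  refine ⟨V, f, (Scheme.pointSmallEtaleFiberObjToPreimage s hs₀ y).1, hf, ?_⟩
  have hx'' : (Scheme.pointSmallEtaleFiberObjToPreimage s hs₀ x').1 = x := hx'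
  rw [← hx'', ← hy]
  rfl

variable {Pts : Set (GrothendieckTopology.Point.{u} Y.smallEtaleTopology)}
  {F G : Sheaf Y.smallEtaleTopology AddCommGrpCat.{u + 1}} (v : F ⟶ G)

theorem mono_of_stalks_of_covers (h : Covers Pts)
    (hv : ∀ Φ ∈ Pts, Function.Injective ((Φ.sheafFiber (A := AddCommGrpCat.{u + 1})).map v)) :
    Mono v := by
  have : Presheaf.IsLocallyInjective Y.smallEtaleTopology v.hom :=
    Groth.Agent.H53.isLocallyInjective_of_points (detectsCoverings_of_covers h) v.hom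
      (fun Φ hΦ => hv Φ hΦ)
  exact Sheaf.mono_of_isLocallyInjective v

theorem epi_of_stalks_of_covers (h : Covers Pts)
    (hv : ∀ Φ ∈ Pts, Function.Surjective ((Φ.sheafFiber (A := AddCommGrpCat.{u + 1})).map v)) :
    Epi v := by
  have : Presheaf.IsLocallySurjective Y.smallEtaleTopology v.hom :=
    Groth.Agent.H53.isLocallySurjective_of_points (detectsCoverings_of_covers h) v.hom
      (fun Φ hΦ => hv Φ hΦ)
  exact Sheaf.epi_of_isLocallySurjective v

end Covers

section Surj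

variable {X Y : Scheme.{u}} (f : X ⟶ Y) [EtCoh.BCCont f]

/-- the geometric points of `Y` coming from geometric points of `X` -/
def ptsOf : Set (GrothendieckTopology.Point.{u} Y.smallEtaleTopology) :=
  {Φ | ∃ (Ω : Type u) (_ : Field Ω) (_ : IsSepClosed Ω) (ξ : Spec (CommRingCat.of Ω) ⟶ X),
    Φ = Scheme.pointSmallEtale (ξ ≫ f)}

lemma covers_ptsOf [Surjective f] : Covers (ptsOf f) := by
  intro y
  obtain ⟨x, rfl⟩ := f.surjective y
  obtain ⟨Ω, _, _, ξ, hξ⟩ := exists_geomPt x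
  refine ⟨Ω, inferInstance, inferInstance, ξ ≫ f, ?_, ⟨Ω, inferInstance, inferInstance, ξ, rfl⟩⟩
  rw [← hξ]
  rfl

variable {f}

lemma pullStalkMap_naturality {H H' : EtCoh.Ab Y} (φ : H ⟶ H')
    {Ω : Type u} [Field Ω] [IsSepClosed Ω] (ξ : Spec (CommRingCat.of Ω) ⟶ X) :
    (EtCoh.stalk (ξ ≫ f)).map φ ≫ PullStalk.pullStalkMap f H' ξ =
      PullStalk.pullStalkMap f H ξ ≫ (EtCoh.stalk ξ).map ((EtCoh.pull f).map φ) := by
  refine (Scheme.pointSmallEtale (ξ ≫ f)).presheafFiber_hom_ext (fun W z => ?_)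
  have h1 := (Scheme.pointSmallEtale (ξ ≫ f)).toPresheafFiber_naturality φ.hom W z
  have h2 := PullStalk.toFiber_pullStalkMap f H' ξ W z
  have h3 := PullStalk.toFiber_pullStalkMap f H ξ W z
  have h4 := (Scheme.pointSmallEtale ξ).toPresheafFiber_naturality ((EtCoh.pull f).map φ).hom
    ((EtCoh.bc f).obj W) (Groth.Agent.S0100.fiberEquiv f ξ W z)
  have h5 : φ ≫ PullStalk.η f H' = PullStalk.η f H ≫ (EtCoh.push f).map ((EtCoh.pull f).map φ) :=
    (EtCoh.pullPushAdj f).unit.naturality φ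
  have h6 : φ.hom.app (op W) ≫ (PullStalk.η f H').hom.app (op W) =
      (PullStalk.η f H).hom.app (op W) ≫
        ((EtCoh.pull f).map φ).hom.app (op ((EtCoh.bc f).obj W)) :=
    congrArg (fun k => k.hom.app (op W)) h5
  have e1 : (Scheme.pointSmallEtale (ξ ≫ f)).toPresheafFiber W z H.obj ≫
        (EtCoh.stalk (ξ ≫ f)).map φ ≫ PullStalk.pullStalkMap f H' ξ =
      φ.hom.app (op W) ≫ (PullStalk.η f H').hom.app (op W) ≫
        (Scheme.pointSmallEtale ξ).toPresheafFiber ((EtCoh.bc f).obj W)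
          (Groth.Agent.S0100.fiberEquiv f ξ W z) ((EtCoh.pull f).obj H').obj := by
    have : (Scheme.pointSmallEtale (ξ ≫ f)).toPresheafFiber W z H.obj ≫
        (EtCoh.stalk (ξ ≫ f)).map φ ≫ PullStalk.pullStalkMap f H' ξ =
        ((Scheme.pointSmallEtale (ξ ≫ f)).toPresheafFiber W z H.obj ≫
        (Scheme.pointSmallEtale (ξ ≫ f)).presheafFiber.map φ.hom) ≫
          PullStalk.pullStalkMap f H' ξ := (Category.assoc _ _ _).symm
    rw [this, h1, Category.assoc, h2]
  have e2 : (Scheme.pointSmallEtale (ξ ≫ f)).toPresheafFiber W z H.obj ≫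
        PullStalk.pullStalkMap f H ξ ≫ (EtCoh.stalk ξ).map ((EtCoh.pull f).map φ) =
      (PullStalk.η f H).hom.app (op W) ≫
        (((EtCoh.push f).map ((EtCoh.pull f).map φ)).hom.app (op W) ≫
        (Scheme.pointSmallEtale ξ).toPresheafFiber ((EtCoh.bc f).obj W)
          (Groth.Agent.S0100.fiberEquiv f ξ W z) ((EtCoh.pull f).obj H').obj) := by
    have : (Scheme.pointSmallEtale (ξ ≫ f)).toPresheafFiber W z H.obj ≫
        PullStalk.pullStalkMap f H ξ ≫ (EtCoh.stalk ξ).map ((EtCoh.pull f).map φ) =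
        ((Scheme.pointSmallEtale (ξ ≫ f)).toPresheafFiber W z H.obj ≫
        PullStalk.pullStalkMap f H ξ) ≫
          (Scheme.pointSmallEtale ξ).presheafFiber.map ((EtCoh.pull f).map φ).hom :=
      (Category.assoc _ _ _).symm
    rw [this, h3]
    exact (Category.assoc _ _ _).trans (congrArg (fun k => (PullStalk.η f H).hom.app (op W) ≫ k) h4)
  refine e1.trans (Eq.trans ?_ e2.symm)
  exact (Category.assoc _ _ _).symm.trans
    ((congrArg (fun k => k ≫ (Scheme.pointSmallEtale ξ).toPresheafFiber ((EtCoh.bc f).obj W)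
      (Groth.Agent.S0100.fiberEquiv f ξ W z) ((EtCoh.pull f).obj H').obj) h6).trans
      (Category.assoc _ _ _))

variable (f) in
/-- epimorphisms descend along surjective morphisms -/
theorem epi_of_epi_pull [Surjective f] {A B : EtCoh.Ab Y} (v : A ⟶ B)
    [Epi ((EtCoh.pull f).map v)] : Epi v := by
  apply epi_of_stalks_of_covers v (covers_ptsOf f)
  rintro Φ ⟨Ω, _, _, ξ, rfl⟩
  have hs := (epi_iff_stalks_ab ((EtCoh.pull f).map v)).1 inferInstance Ω ξ
  have hnat := pullStalkMap_naturality (f := f) v ξ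
  intro b
  obtain ⟨a', ha'⟩ := hs (PullStalk.pullStalkMap f B ξ b)
  refine ⟨PullStalk.pullStalkInv f A ξ a', ?_⟩
  have hinj : Function.Injective (PullStalk.pullStalkMap f B ξ) := by
    intro p q hpq
    have h1 := congrArg (fun k => k.hom p) (PullStalk.pullStalkMap_inv f B ξ)
    have h2 := congrArg (fun k => k.hom q) (PullStalk.pullStalkMap_inv f B ξ)
    have h3 : PullStalk.pullStalkInv f B ξ (PullStalk.pullStalkMap f B ξ p) =
        PullStalk.pullStalkInv f B ξ (PullStalk.pullStalkMap f B ξ q) := by rw [hpq]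
    exact h1.symm.trans (h3.trans h2)
  apply hinj
  have h4 := congrArg (fun k => k.hom (PullStalk.pullStalkInv f A ξ a')) hnat
  have h5 := congrArg (fun k => k.hom a') (PullStalk.pullStalkInv_map f A ξ)
  have h6 : PullStalk.pullStalkMap f A ξ (PullStalk.pullStalkInv f A ξ a') = a' := h5
  refine h4.trans ?_
  change (EtCoh.stalk ξ).map ((EtCoh.pull f).map v)
    (PullStalk.pullStalkMap f A ξ (PullStalk.pullStalkInv f A ξ a')) = _
  rw [h6]
  exact ha'

variable (f) in
/-- if the inverse image along a surjective morphism is constructible, the sheaf is torsion -/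
theorem isTorsion_of_constructible_pull [Surjective f] (F : EtCoh.Ab Y)
    (hF : EtPBC.IsConstructible ((EtCoh.pull f).obj F)) : EtCoh.IsTorsion F := by
  intro U s x
  obtain ⟨x', hx'⟩ := f.surjective (U.hom x)
  obtain ⟨Ω, _, _, ξ, hξ⟩ := exists_geomPt x'
  have hζ : U.hom x = (ξ ≫ f) default := by
    rw [← hx', ← hξ]
    rfl
  have : Etale U.hom := U.prop
  obtain ⟨l, hl₁, hl₂⟩ := Scheme.exists_fac_of_etale_of_isSepClosed U.hom (ξ ≫ f) x hζ
  let yU : (Scheme.pointSmallEtale (ξ ≫ f)).fiber.obj U := Over.homMk l hl₁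
  have hfin0 : Finite ((EtCoh.stalk ξ).obj ((EtCoh.pull f).obj F)) := finite_stalk _ hF ξ
  have hfin : Finite ((EtCoh.stalk (ξ ≫ f)).obj F) :=
    Finite.of_equiv _ (stalkPullIso f F ξ).symm.addCommGroupIsoToAddEquiv.toEquiv
  let n := Nat.card ((EtCoh.stalk (ξ ≫ f)).obj F)
  have hn : 0 < n := Nat.card_pos
  have h0 : n • (Scheme.pointSmallEtale (ξ ≫ f)).toPresheafFiber U yU F.obj s = 0 :=
    card_nsmul_eq_zero'
  have h1 : (Scheme.pointSmallEtale (ξ ≫ f)).toPresheafFiber U yU F.obj (n • s) =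
      (Scheme.pointSmallEtale (ξ ≫ f)).toPresheafFiber U yU F.obj 0 := by
    rw [map_nsmul, map_zero]
    exact h0
  obtain ⟨V, g, y', hy', hg⟩ :=
    ((Scheme.pointSmallEtale (ξ ≫ f)).toPresheafFiber_eq_iff' U yU _ _).1 h1
  let yl : Spec (CommRingCat.of Ω) ⟶ V.left := y'.left
  refine ⟨V, g, ⟨yl default, ?_⟩, ?_⟩
  · have h2 : yl ≫ g.left = l := congrArg (fun k => k.left) hy'
    rw [← hl₂, ← h2]
    rfl
  · rw [isOfFinAddOrder_iff_nsmul_eq_zero]
    refine ⟨n, hn, ?_⟩
    have h3 : F.obj.map g.op (n • s) = 0 := by rw [hg, map_zero]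
    rw [← h3, map_nsmul]

end Surj

end Groth.Agent.Lib.Helper43.EtSurjDescent
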