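import Mathlib
import Groth.Prelude
import Groth.Agent.Lib.Helper4.EtRestr
import Groth.Agent.Lib.Helper43.EtConstStalk
import Groth.Agent.Lib.Helper43.EtGermLift
import Groth.Agent.Lib.Helper43.EtSurjDescent
import Groth.Agent.Lib.Helper43.EtFLCLocal
import Groth.Agent.Lib.Helper43.LCHom
import Groth.Agent.Lib.Helper43.FinStrat

set_option autoImplicit false
universe u
open CategoryTheory CategoryTheory.Limits AlgebraicGeometry Opposite

namespace Groth.Agent.Lib.Helper43.EtGenericFLC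

open Groth.Agent.Lib.Helper43.ConstSheaf Groth.Agent.Lib.Helper43.LCHom
  Groth.Agent.Lib.Helper43.EtConstStalk Groth.Agent.Lib.Helper43.EtGermLift

variable {T : Scheme.{u}}

/-- shrink an étale neighbourhood so that the given point is alone in its fibre -/
lemma exists_shrink (V : T.Etale) (v₀ : V.left) :
    ∃ (V' : T.Etale) (g : V' ⟶ V) (v₀' : V'.left), g.left v₀' = v₀ ∧
      ∀ v' : V'.left, V'.hom v' = V.hom v₀ → v' = v₀' := by
  have : Etale V.hom := V.prop
  have : LocallyQuasiFinite V.hom := FinStrat.locallyQuasiFinite_of_etale V.hom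
  have hd := V.hom.isDiscrete_preimage_singleton (V.hom v₀)
  obtain ⟨O, hO, hOs⟩ := isDiscrete_iff_forall_mem_exists_isOpen.1 hd v₀ rfl
  let Oo : V.left.Opens := ⟨O, hO⟩
  let V' : T.Etale := MorphismProperty.Over.mk ⊤ (Oo.ι ≫ V.hom) inferInstance
  let g : V' ⟶ V := MorphismProperty.Over.homMk Oo.ι rfl
  have hv₀ : v₀ ∈ O := by
    have : v₀ ∈ O ∩ V.hom ⁻¹' {V.hom v₀} := by rw [hOs]; rfl
    exact this.1
  have hr : Set.range Oo.ι = O := Scheme.Opens.range_ι Oo
  obtain ⟨v₀', hv₀'⟩ : v₀ ∈ Set.range Oo.ι := by rw [hr]; exact hv₀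
  refine ⟨V', g, v₀', hv₀', ?_⟩
  intro v' hv'
  have h1 : Oo.ι v' ∈ O ∩ V.hom ⁻¹' {V.hom v₀} := by
    refine ⟨?_, hv'⟩
    rw [← hr]
    exact ⟨v', rfl⟩
  rw [hOs] at h1
  have hinj : Function.Injective Oo.ι := (Scheme.Hom.isOpenEmbedding Oo.ι).injective
  apply hinj
  rw [hv₀']
  exact h1


section Main

variable (H : EtCoh.Ab T) {Ω₀ : Type u} [Field Ω₀] [IsSepClosed Ω₀]
  (ξ₀ : Spec (CommRingCat.of Ω₀) ⟶ T)

/-- an étale neighbourhood of `ξ₀` carrying an additive lift of the (finite) stalk, in which the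
centre is the only point above `ξ₀ default` -/
theorem exists_good_nbhd [hfin : Finite ((EtCoh.stalk ξ₀).obj H)] :
    ∃ (V : T.Etale) (yl : Spec (CommRingCat.of Ω₀) ⟶ V.left) (hyl : yl ≫ V.hom = ξ₀)
      (t : (EtCoh.stalk ξ₀).obj H →+ H.obj.obj (op V)),
      (∀ m, (Scheme.pointSmallEtale ξ₀).toPresheafFiber V (Over.homMk yl hyl) H.obj (t m) = m) ∧
      ∀ v' : V.left, V.hom v' = ξ₀ default → v' = yl default := by
  have hfin' : Finite (((Scheme.pointSmallEtale ξ₀).presheafFiber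
      (A := AddCommGrpCat.{u + 1})).obj H.obj) := hfin
  obtain ⟨V₀, y₀, t₀, ht₀⟩ := exists_add_lift H.obj (Scheme.pointSmallEtale ξ₀)
  let yl₀ : Spec (CommRingCat.of Ω₀) ⟶ V₀.left := y₀.left
  have hyl₀ : yl₀ ≫ V₀.hom = ξ₀ := Over.w y₀
  obtain ⟨V', g, v₀', hv₀', huniq⟩ := exists_shrink V₀ (yl₀ default)
  obtain ⟨l, hl₁, hl₂⟩ := Scheme.exists_fac_of_etale_of_isSepClosed g.left yl₀ v₀' hv₀'
  have hgV : g.left ≫ V₀.hom = V'.hom := MorphismProperty.Over.w g
  have hl : l ≫ V'.hom = ξ₀ := by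
    rw [← hgV, ← Category.assoc, hl₁]
    exact hyl₀
  have hy' : (Scheme.pointSmallEtale ξ₀).fiber.map g (Over.homMk l hl) = y₀ :=
    Over.OverMorphism.ext hl₁
  refine ⟨V', l, hl, (H.obj.map g.op).hom.comp t₀, fun m => ?_, fun v' hv' => ?_⟩
  · change (Scheme.pointSmallEtale ξ₀).toPresheafFiber V' (Over.homMk l hl) H.obj
      (H.obj.map g.op (t₀ m)) = m
    have := (Scheme.pointSmallEtale ξ₀).toPresheafFiber_w_apply g (Over.homMk l hl) H.obj (t₀ m)
    rw [this, hy']
    exact ht₀ m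
  · rw [hl₂]
    apply huniq
    rw [hv', ← hyl₀]
    rfl


open Groth.Agent.Lib.Helper43.EtOverEquiv in
/-- the tautological map to `V` from `V.left` viewed as an étale `T`-scheme through `compEtale` -/
noncomputable def aTop (V : T.Etale) :
    (EtShriek.compEtale (EtOverEquiv.jU V)).obj (EtCoh.top V.left) ⟶ V :=
  MorphismProperty.Over.homMk (𝟙 V.left) rfl

attribute [local instance] Groth.Agent.Lib.Helper4.EtRestr.jCont

/-- the restriction of `H` to the étale `T`-scheme `V` -/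
noncomputable abbrev G' (V : T.Etale) : EtCoh.Ab V.left :=
  (EtShriek.restrAlong (EtOverEquiv.jU V)).obj H

/-- the sections over the top of `V.left` attached to an additive lift -/
noncomputable def tY (V : T.Etale) (t : (EtCoh.stalk ξ₀).obj H →+ H.obj.obj (op V)) :
    (EtCoh.stalk ξ₀).obj H ⟶ (G' H V).obj.obj (op (EtCoh.top V.left)) :=
  AddCommGrpCat.ofHom ((H.obj.map (aTop V).op).hom.comp t)

/-- injectivity of germs at all geometric points of a good neighbourhood of a generic point -/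
theorem germ_injective (hz₀ : ∀ O : Set T, IsOpen O → O.Nonempty → ξ₀ default ∈ O)
    (V : T.Etale) (yl : Spec (CommRingCat.of Ω₀) ⟶ V.left) (hyl : yl ≫ V.hom = ξ₀)
    (t : (EtCoh.stalk ξ₀).obj H →+ H.obj.obj (op V))
    (ht : ∀ m, (Scheme.pointSmallEtale ξ₀).toPresheafFiber V (Over.homMk yl hyl) H.obj (t m) = m)
    (huniq : ∀ v' : V.left, V.hom v' = ξ₀ default → v' = yl default)
    {Ω : Type u} [Field Ω] [IsSepClosed Ω] (l : Spec (CommRingCat.of Ω) ⟶ V.left) :
    Function.Injective (fun m : (EtCoh.stalk ξ₀).obj H =>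
      (Scheme.pointSmallEtale l).toPresheafFiber (EtCoh.top V.left)
        (Over.homMk l (Category.comp_id l)) (G' H V).obj (tY H ξ₀ V t m)) := by
  intro m m' hmm'
  obtain ⟨W, f, w, hw, hf⟩ := ((Scheme.pointSmallEtale l).toPresheafFiber_eq_iff' _ _ _ _).1 hmm'
  have : Etale W.hom := W.prop
  have : Etale V.hom := V.prop
  let wl : Spec (CommRingCat.of Ω) ⟶ W.left := w.left
  -- the image of `W` in `T` contains the generic point
  have hopen : IsOpen (Set.range (W.hom ≫ V.hom)) := (W.hom ≫ V.hom).isOpenMap.isOpen_range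
  obtain ⟨w₀, hw₀⟩ := hz₀ _ hopen ⟨_, ⟨wl default, rfl⟩⟩
  have hw₀' : V.hom (W.hom w₀) = ξ₀ default := hw₀
  have hw₀'' : W.hom w₀ = yl default := huniq _ hw₀'
  obtain ⟨l₀, hl₀, -⟩ := Scheme.exists_fac_of_etale_of_isSepClosed W.hom yl w₀ hw₀''
  let WT : T.Etale := (EtShriek.compEtale (EtOverEquiv.jU V)).obj W
  have hl₀' : l₀ ≫ WT.hom = ξ₀ := by
    change l₀ ≫ W.hom ≫ V.hom = ξ₀
    rw [← Category.assoc, hl₀, hyl]
  let b : WT ⟶ V := (EtShriek.compEtale (EtOverEquiv.jU V)).map f ≫ aTop V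
  have hfl : f.left = W.hom :=
    (Category.comp_id f.left).symm.trans (MorphismProperty.Over.w f)
  have hb : (Scheme.pointSmallEtale ξ₀).fiber.map b (Over.homMk l₀ hl₀') = Over.homMk yl hyl := by
    apply Over.OverMorphism.ext
    change l₀ ≫ (f.left ≫ 𝟙 _) = yl
    rw [Category.comp_id, hfl]
    exact hl₀
  have key : ∀ m, H.obj.map b.op (t m) = (G' H V).obj.map f.op (tY H ξ₀ V t m) := by
    intro m
    change H.obj.map ((EtShriek.compEtale (EtOverEquiv.jU V)).map f ≫ aTop V).op (t m) = _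
    rw [op_comp, Functor.map_comp]
    rfl
  have e1 := (Scheme.pointSmallEtale ξ₀).toPresheafFiber_w_apply b (Over.homMk l₀ hl₀') H.obj (t m)
  have e2 := (Scheme.pointSmallEtale ξ₀).toPresheafFiber_w_apply b (Over.homMk l₀ hl₀') H.obj (t m')
  rw [hb, ht] at e1 e2
  rw [← e1, ← e2, key, key, hf]


open Groth.Agent.Lib.Helper43.EtSurjDescent Groth.Agent.Lib.Helper43.EtSupp in
/-- **generic local constancy**: around a generic point with finite stalk, if all other stalks are
not bigger, the sheaf is constant on an étale neighbourhood -/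
theorem exists_restr_iso_const (hz₀ : ∀ O : Set T, IsOpen O → O.Nonempty → ξ₀ default ∈ O)
    [hfin : Finite ((EtCoh.stalk ξ₀).obj H)]
    (hcard : ∀ t : T, ∃ (Ω : Type u) (_ : Field Ω) (_ : IsSepClosed Ω)
      (ξ : Spec (CommRingCat.of Ω) ⟶ T), ξ default = t ∧ Finite ((EtCoh.stalk ξ).obj H) ∧
        Nat.card ((EtCoh.stalk ξ).obj H) ≤ Nat.card ((EtCoh.stalk ξ₀).obj H)) :
    ∃ (V : T.Etale) (v : V.left), V.hom v = ξ₀ default ∧
      Nonempty (G' H V ≅ K.{u + 1} V.left.smallEtaleTopology ((EtCoh.stalk ξ₀).obj H)) := by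
  obtain ⟨V, yl, hyl, t, ht, huniq⟩ := exists_good_nbhd H ξ₀
  have : Etale V.hom := V.prop
  refine ⟨V, yl default, by rw [← hyl]; rfl, ?_⟩
  let M : AddCommGrpCat.{u + 1} := (EtCoh.stalk ξ₀).obj H
  let ψ : K.{u + 1} V.left.smallEtaleTopology M ⟶ G' H V :=
    K_desc.{u + 1} V.left.smallEtaleTopology (EtCore.topIsTerminal V.left) (tY H ξ₀ V t)
  -- the chosen geometric points
  have key : ∀ v' : V.left, ∃ (Ω : Type u) (_ : Field Ω) (_ : IsSepClosed Ω)
      (l : Spec (CommRingCat.of Ω) ⟶ V.left), l default = v' ∧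
        Finite ((EtCoh.stalk (l ≫ V.hom)).obj H) ∧
        Nat.card ((EtCoh.stalk (l ≫ V.hom)).obj H) ≤ Nat.card M := by
    intro v'
    obtain ⟨Ω, _, _, ξ, hξ, h1, h2⟩ := hcard (V.hom v')
    obtain ⟨l, rfl, hl⟩ := Scheme.exists_fac_of_etale_of_isSepClosed V.hom ξ v' hξ.symm
    exact ⟨Ω, inferInstance, inferInstance, l, hl, h1, h2⟩
  choose Ωp i1 i2 lp hlp hfinp hcardp using key
  let Pts : Set (GrothendieckTopology.Point.{u} V.left.smallEtaleTopology) :=
    {Φ | ∃ v' : V.left, Φ = @Scheme.pointSmallEtale _ (Ωp v') (i1 v') (i2 v') (lp v')}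
  have hcov : Covers Pts := fun v' =>
    ⟨Ωp v', i1 v', i2 v', lp v', hlp v', ⟨v', rfl⟩⟩
  have hbij : ∀ Φ ∈ Pts, Function.Bijective
      ((Φ.sheafFiber (A := AddCommGrpCat.{u + 1})).map ψ) := by
    rintro Φ ⟨v', rfl⟩
    let _ := i1 v'
    let _ := i2 v'
    let l := lp v'
    let yY : (Scheme.pointSmallEtale l).fiber.obj (EtCoh.top V.left) :=
      Over.homMk l (Category.comp_id l)
    have hcg := cstGerm_bijective M (Scheme.pointSmallEtale l) (EtCoh.top V.left) yY
    have hinj := germ_injective H ξ₀ hz₀ V yl hyl t ht huniq l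
    -- the stalk of the restriction
    have e : (EtCoh.stalk l).obj (G' H V) ≅ (EtCoh.stalk (l ≫ V.hom)).obj H :=
      (EtCoh.stalk l).mapIso ((Groth.Agent.Lib.Helper4.EtRestr.pullIsoRestr
        (EtOverEquiv.jU V)).symm.app H) ≪≫ (stalkPullIso V.hom H l).symm
    have hfinG : Finite ((EtCoh.stalk l).obj (G' H V)) := by
      have := hfinp v'
      exact Finite.of_equiv _ e.symm.addCommGroupIsoToAddEquiv.toEquiv
    have hcardG : Nat.card ((EtCoh.stalk l).obj (G' H V)) ≤ Nat.card M := by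
      rw [Nat.card_congr e.addCommGroupIsoToAddEquiv.toEquiv]
      exact hcardp v'
    have hγ : Function.Bijective (fun m : M =>
        (Scheme.pointSmallEtale l).toPresheafFiber (EtCoh.top V.left) yY (G' H V).obj
          (tY H ξ₀ V t m)) := by
      have hM : Finite M := hfin
      have hfinG' : Finite (((Scheme.pointSmallEtale l).presheafFiber
        (A := AddCommGrpCat.{u + 1})).obj (G' H V).obj) := hfinG
      exact hinj.bijective_of_nat_card_le hcardG
    have hcomp : (fun m : M => ((Scheme.pointSmallEtale l).sheafFiber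
        (A := AddCommGrpCat.{u + 1})).map ψ
          ((Scheme.pointSmallEtale l).toPresheafFiber (EtCoh.top V.left) yY
            (K.{u + 1} V.left.smallEtaleTopology M).obj
            (cst.{u + 1} V.left.smallEtaleTopology M (EtCoh.top V.left) m))) =
        fun m : M => (Scheme.pointSmallEtale l).toPresheafFiber (EtCoh.top V.left) yY
          (G' H V).obj (tY H ξ₀ V t m) := by
      funext m
      have h1 := (Scheme.pointSmallEtale l).toPresheafFiber_naturality_apply ψ.hom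
        (EtCoh.top V.left) yY (cst.{u + 1} V.left.smallEtaleTopology M (EtCoh.top V.left) m)
      refine h1.trans ?_
      exact congrArg (fun z => (Scheme.pointSmallEtale l).toPresheafFiber (EtCoh.top V.left) yY
        (G' H V).obj z)
        (K_desc_cst.{u + 1} V.left.smallEtaleTopology (EtCore.topIsTerminal V.left) (tY H ξ₀ V t) m)
    rw [← hcomp] at hγ
    exact (Function.Bijective.of_comp_iff _ hcg).1 hγ
  have hmono : Mono ψ := mono_of_stalks_of_covers ψ hcov (fun Φ hΦ => (hbij Φ hΦ).1)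
  have hepi : Epi ψ := epi_of_stalks_of_covers ψ hcov (fun Φ hΦ => (hbij Φ hΦ).2)
  have hiso : IsIso ψ := isIso_of_mono_of_epi ψ
  exact ⟨(asIso ψ).symm⟩


open Groth.Agent.Lib.Helper43.EtFLCLocal in
/-- **generic local constancy**, Zariski form: around a generic point with finite stalk, if all other
stalks are not bigger, the sheaf is finite locally constant on an open neighbourhood -/
theorem exists_opens_isFLC (hz₀ : ∀ O : Set T, IsOpen O → O.Nonempty → ξ₀ default ∈ O)
    [hfin : Finite ((EtCoh.stalk ξ₀).obj H)]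
    (hcard : ∀ t : T, ∃ (Ω : Type u) (_ : Field Ω) (_ : IsSepClosed Ω)
      (ξ : Spec (CommRingCat.of Ω) ⟶ T), ξ default = t ∧ Finite ((EtCoh.stalk ξ).obj H) ∧
        Nat.card ((EtCoh.stalk ξ).obj H) ≤ Nat.card ((EtCoh.stalk ξ₀).obj H)) :
    ∃ W : T.Opens, ξ₀ default ∈ W ∧
      EtCoh.IsFiniteLocallyConstant ((EtCoh.pull W.ι).obj H) := by
  obtain ⟨V, v, hv, ⟨e⟩⟩ := exists_restr_iso_const H ξ₀ hz₀ hcard
  have : Etale V.hom := V.prop
  let W : T.Opens := ⟨Set.range V.hom, V.hom.isOpenMap.isOpen_range⟩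
  refine ⟨W, ⟨v, hv⟩, ?_⟩
  have hr : Set.range V.hom ⊆ Set.range W.ι := by
    rw [Scheme.Opens.range_ι]
    exact subset_rfl
  let j' : V.left ⟶ W.toScheme := IsOpenImmersion.lift W.ι V.hom hr
  have hj' : j' ≫ W.ι = V.hom := IsOpenImmersion.lift_fac W.ι V.hom hr
  have hetj' : Etale j' := by
    have : Etale (j' ≫ W.ι) := by rw [hj']; infer_instance
    exact Etale.of_comp j' W.ι
  have hfinM : Finite ((EtCoh.stalk ξ₀).obj H) := hfin
  obtain ⟨M₀, iM₀, fM₀, ⟨a⟩⟩ := EtFLCSerre.exists_small_model ((EtCoh.stalk ξ₀).obj H)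
  rw [isFLC_iff_locTriv]
  intro w
  obtain ⟨v', hv'⟩ : W.ι w ∈ Set.range V.hom := by
    have h1 : W.ι w ∈ Set.range W.ι := ⟨w, rfl⟩
    rw [Scheme.Opens.range_ι W] at h1
    exact h1
  have hjv' : j' v' = w := by
    apply (Scheme.Hom.isOpenEmbedding W.ι).injective
    rw [← hv', ← hj']
    rfl
  refine ⟨V.left, j', hetj', v', hjv', M₀, iM₀, fM₀, ⟨?_⟩⟩
  have e1 : (EtCoh.pull j').obj ((EtCoh.pull W.ι).obj H) ≅ (EtCoh.pull (j' ≫ W.ι)).obj H :=
    ((EtConstr.pullComp W.ι j').app H).symm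
  have e2 : ∀ (k : V.left ⟶ T) (_ : k = V.hom), (EtCoh.pull k).obj H ≅ (EtCoh.pull V.hom).obj H := by
    rintro k rfl
    exact Iso.refl _
  exact e1 ≪≫ e2 _ hj' ≪≫
    (Groth.Agent.Lib.Helper4.EtRestr.pullIsoRestr (EtOverEquiv.jU V)).app H ≪≫ e ≪≫
    (constantSheaf V.left.smallEtaleTopology AddCommGrpCat.{u + 1}).mapIso a

end Main

end Groth.Agent.Lib.Helper43.EtGenericFLC
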