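import Mathlib
import Groth.Prelude
import Groth.Agent.Lib.Helper43.EtGenericFLC
import Groth.Agent.Lib.Helper43.EtConstrStalk

set_option autoImplicit false
universe u
open CategoryTheory CategoryTheory.Limits AlgebraicGeometry Opposite Topology

namespace Groth.Agent.Lib.Helper43.CardSet

open Groth.Agent.Lib.Helper43 Groth.Agent.Lib.Helper43.EtSupp Groth.Agent.Lib.Helper43.EtConstr
  Groth.Agent.Lib.Helper43.StrataLib Groth.Agent.Lib.Helper43.ConstrCover

/-- the set of points carrying a geometric stalk with exactly `n` elements -/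
def E {X : Scheme.{u}} (F : EtCoh.Ab X) (n : ℕ) : Set X :=
  {x : X | ∃ (Ω : Type u) (_ : Field Ω) (_ : IsSepClosed Ω) (ξ : Spec (CommRingCat.of Ω) ⟶ X),
    Set.range ξ = {x} ∧ Nat.card ((EtCoh.stalk ξ).obj F) = n}

lemma mem_E_iff {X : Scheme.{u}} (F : EtCoh.Ab X) (n : ℕ) (x : X) :
    x ∈ E F n ↔ ∃ (Ω : Type u) (_ : Field Ω) (_ : IsSepClosed Ω)
      (ξ : Spec (CommRingCat.of Ω) ⟶ X), ξ default = x ∧ Nat.card ((EtCoh.stalk ξ).obj F) = n := by
  constructor
  · rintro ⟨Ω, _, _, ξ, h1, h2⟩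
    refine ⟨Ω, inferInstance, inferInstance, ξ, ?_, h2⟩
    rw [range_eq_singleton] at h1
    exact Set.singleton_eq_singleton_iff.1 h1
  · rintro ⟨Ω, _, _, ξ, h1, h2⟩
    refine ⟨Ω, inferInstance, inferInstance, ξ, ?_, h2⟩
    rw [range_eq_singleton, h1]

/-- card sets pull back along preimmersions -/
theorem E_pull {T X : Scheme.{u}} (g : T ⟶ X) [IsPreimmersion g] (F : EtCoh.Ab X) (n : ℕ) :
    E ((EtCoh.pull g).obj F) n = g ⁻¹' E F n := by
  ext t
  rw [Set.mem_preimage, mem_E_iff, mem_E_iff]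
  constructor
  · rintro ⟨Ω, _, _, l, hl, hc⟩
    refine ⟨Ω, inferInstance, inferInstance, l ≫ g, ?_, ?_⟩
    · rw [← hl]; rfl
    · rw [← hc]
      exact Nat.card_congr (stalkPullIso g F l).addCommGroupIsoToAddEquiv.toEquiv
  · rintro ⟨Ω, _, _, ξ, hξ, hc⟩
    obtain ⟨l, rfl⟩ := exists_fac_of_isPreimmersion g ξ t hξ.symm
    refine ⟨Ω, inferInstance, inferInstance, l, ?_, ?_⟩
    · have hinj : Function.Injective g := (Scheme.Hom.isEmbedding g).injective
      apply hinj
      rw [← hξ]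
      rfl
    · rw [← hc]
      exact Nat.card_congr (stalkPullIso g F l).symm.addCommGroupIsoToAddEquiv.toEquiv

/-- pure topology: a constructible set containing `y` contains a neighbourhood of `y` in its
closure -/
lemma exists_nhd_in_closure {Y : Type*} [TopologicalSpace Y] (y : Y) {S : Set Y}
    (hS : IsConstructible S) :
    (y ∈ S → ∃ O : Set Y, IsOpen O ∧ y ∈ O ∧ O ∩ closure {y} ⊆ S) ∧
      (y ∉ S → ∃ O : Set Y, IsOpen O ∧ y ∈ O ∧ O ∩ closure {y} ⊆ Sᶜ) := by
  induction hS using IsConstructible.empty_union_induction with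
  | open_retrocompact U hU _ =>
    refine ⟨fun h => ⟨U, hU, h, Set.inter_subset_left⟩, fun h => ⟨Set.univ, isOpen_univ, trivial, ?_⟩⟩
    rintro z ⟨-, hz⟩ hzU
    have hsp : y ⤳ z := specializes_iff_mem_closure.2 hz
    exact h (hsp.mem_open hU hzU)
  | union s _ t _ hs' ht' =>
    refine ⟨fun h => ?_, fun h => ?_⟩
    · rcases h with h | h
      · obtain ⟨O, hO, hy, hsub⟩ := hs'.1 h
        exact ⟨O, hO, hy, hsub.trans Set.subset_union_left⟩
      · obtain ⟨O, hO, hy, hsub⟩ := ht'.1 h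
        exact ⟨O, hO, hy, hsub.trans Set.subset_union_right⟩
    · obtain ⟨O₁, hO₁, hy₁, hsub₁⟩ := hs'.2 fun h' => h (Or.inl h')
      obtain ⟨O₂, hO₂, hy₂, hsub₂⟩ := ht'.2 fun h' => h (Or.inr h')
      refine ⟨O₁ ∩ O₂, hO₁.inter hO₂, ⟨hy₁, hy₂⟩, ?_⟩
      rintro z ⟨⟨h1, h2⟩, hz⟩
      rw [Set.compl_union]
      exact ⟨hsub₁ ⟨h1, hz⟩, hsub₂ ⟨h2, hz⟩⟩
  | compl s _ hs' =>
    refine ⟨fun h => hs'.2 h, fun h => ?_⟩
    rw [compl_compl]
    exact hs'.1 (by simpa using h)


/-- locally closed subsets of Noetherian spaces are constructible -/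
lemma isConstructible_of_isLocallyClosed {Y : Type*} [TopologicalSpace Y] [TopologicalSpace.NoetherianSpace Y]
    {s : Set Y} (hs : IsLocallyClosed s) : IsConstructible s := by
  obtain ⟨U, Z, hU, hZ, rfl⟩ := hs
  exact ((TopologicalSpace.NoetherianSpace.isCompact U).isConstructible hU).inter
    ((TopologicalSpace.NoetherianSpace.isCompact Zᶜ).isConstructible hZ.isOpen_compl).of_compl

/-- the stratum through a point -/
theorem exists_stratum_at {Y : Scheme.{u}} [IsNoetherian Y] (G : EtCoh.Ab Y)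
    (hfin : ∀ (Ω : Type u) [Field Ω] [IsSepClosed Ω] (ξ : Spec (CommRingCat.of Ω) ⟶ Y),
      Finite ((EtCoh.stalk ξ).obj G))
    (hE : ∀ n : ℕ, IsConstructible (E G n)) (y : Y) :
    ∃ (T : Scheme.{u}) (g : T ⟶ Y), IsImmersion g ∧ y ∈ Set.range g ∧
      IsConstructible (Set.range g) ∧ EtConstr.P G T g := by
  obtain ⟨Ω₀, _, _, ξy, hξy⟩ := exists_geomPt y
  have hyE : y ∈ E G (Nat.card ((EtCoh.stalk ξy).obj G)) :=
    (mem_E_iff _ _ _).2 ⟨Ω₀, inferInstance, inferInstance, ξy, hξy, rfl⟩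
  obtain ⟨O, hO, hyO, hsub⟩ := (exists_nhd_in_closure y (hE _)).1 hyE
  have hL : IsLocallyClosed (O ∩ closure {y}) := ⟨O, closure {y}, hO, isClosed_closure, rfl⟩
  obtain ⟨T, g, hg, hr⟩ := exists_immersion_range_eq _ hL
  obtain ⟨z₀, hz₀⟩ : y ∈ Set.range g := by
    rw [hr]
    exact ⟨hyO, subset_closure rfl⟩
  obtain ⟨l₀, rfl⟩ := exists_fac_of_isPreimmersion g ξy z₀ (hz₀.trans hξy.symm)
  have hinj : Function.Injective g := (Scheme.Hom.isEmbedding g).injective
  have hl₀ : l₀ default = z₀ := by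
    apply hinj
    rw [hz₀, ← hξy]
    rfl
  let H := (EtCoh.pull g).obj G
  have hgen : ∀ O' : Set T, IsOpen O' → O'.Nonempty → l₀ default ∈ O' := by
    intro O' hO' ⟨z, hz⟩
    obtain ⟨O'', hO'', rfl⟩ := (Scheme.Hom.isEmbedding g).isInducing.isOpen_iff.1 hO'
    have hgz : g z ∈ O ∩ closure {y} := by
      rw [← hr]
      exact ⟨z, rfl⟩
    have hsp : y ⤳ g z := specializes_iff_mem_closure.2 hgz.2
    have hy'' : y ∈ O'' := hsp.mem_open hO'' hz
    change g (l₀ default) ∈ O''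
    rw [hl₀, hz₀]
    exact hy''
  have hfinH : ∀ {Ω : Type u} [Field Ω] [IsSepClosed Ω] (l : Spec (CommRingCat.of Ω) ⟶ T),
      Finite ((EtCoh.stalk l).obj H) := fun l => by
    have := hfin _ (l ≫ g)
    exact Finite.of_equiv _ (stalkPullIso g G l).addCommGroupIsoToAddEquiv.toEquiv
  have hcardH : ∀ {Ω : Type u} [Field Ω] [IsSepClosed Ω] (l : Spec (CommRingCat.of Ω) ⟶ T),
      Nat.card ((EtCoh.stalk l).obj H) = Nat.card ((EtCoh.stalk (l ≫ g)).obj G) := fun l =>
    Nat.card_congr (stalkPullIso g G l).symm.addCommGroupIsoToAddEquiv.toEquiv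
  have hfin₀ : Finite ((EtCoh.stalk l₀).obj H) := hfinH l₀
  have hcard : ∀ t : T, ∃ (Ω : Type u) (_ : Field Ω) (_ : IsSepClosed Ω)
      (ξ : Spec (CommRingCat.of Ω) ⟶ T), ξ default = t ∧ Finite ((EtCoh.stalk ξ).obj H) ∧
        Nat.card ((EtCoh.stalk ξ).obj H) ≤ Nat.card ((EtCoh.stalk l₀).obj H) := by
    intro t
    have hgt : g t ∈ E G (Nat.card ((EtCoh.stalk (l₀ ≫ g)).obj G)) := by
      apply hsub
      rw [← hr]
      exact ⟨t, rfl⟩
    obtain ⟨Ω, _, _, ξ', hξ', hc⟩ := (mem_E_iff _ _ _).1 hgt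
    obtain ⟨l, rfl⟩ := exists_fac_of_isPreimmersion g ξ' t hξ'.symm
    refine ⟨Ω, inferInstance, inferInstance, l, ?_, hfinH l, ?_⟩
    · apply hinj
      rw [← hξ']
      rfl
    · rw [hcardH l, hcardH l₀, hc]
  obtain ⟨W, hzW, hflc⟩ := EtGenericFLC.exists_opens_isFLC H l₀ hgen hcard
  refine ⟨W.toScheme, W.ι ≫ g, inferInstance, ?_, ?_, ?_⟩
  · obtain ⟨w, hw⟩ : l₀ default ∈ Set.range W.ι := by
      rw [Scheme.Opens.range_ι]
      exact hzW
    refine ⟨w, ?_⟩
    change g (W.ι w) = y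
    rw [hw, hl₀, hz₀]
  · have : TopologicalSpace.NoetherianSpace Y := inferInstance
    exact isConstructible_of_isLocallyClosed (W.ι ≫ g).isLocallyClosed_range
  · intro _
    exact isFLC_of_iso ((pullComp g W.ι).app G).symm hflc


/-- on a Noetherian scheme, a sheaf with finite stalks and constructible card sets is
constructible -/
theorem constructible_of_card {Y : Scheme.{u}} [IsNoetherian Y] (G : EtCoh.Ab Y)
    (hfin : ∀ (Ω : Type u) [Field Ω] [IsSepClosed Ω] (ξ : Spec (CommRingCat.of Ω) ⟶ Y),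
      Finite ((EtCoh.stalk ξ).obj G))
    (hE : ∀ n : ℕ, IsConstructible (E G n)) : EtPBC.IsConstructible G := by
  rw [constructible_iff_strata_univ, adaptedStrata_iff]
  choose T g h1 h2 h3 h4 using exists_stratum_at G hfin hE
  refine Strata.of_constructible_cover (P_comp G) T g h1 h3 ?_ ?_
  · ext y
    simp only [Set.mem_iUnion, Set.mem_univ, iff_true]
    exact ⟨y, h2 y⟩
  · intro y
    refine Strata.of_finite Unit (fun _ => T y) (fun _ => 𝟙 (T y)) (fun _ => inferInstance)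
      (fun _ => ?_) ?_ ?_ (fun _ => P_comp G (𝟙 _) (g y) (h4 y))
    · have : Set.range (𝟙 (T y) : T y ⟶ T y) = Set.univ := by
        ext t
        simp
      rw [this, Set.preimage_univ]
      exact IsConstructible.univ
    · intro a b hab
      exact (hab (Subsingleton.elim a b)).elim
    · ext t
      simp


/-- locally Noetherian version -/
theorem constructible_of_card_locally {X : Scheme.{u}} [IsLocallyNoetherian X] (F : EtCoh.Ab X)
    (hfin : ∀ (Ω : Type u) [Field Ω] [IsSepClosed Ω] (ξ : Spec (CommRingCat.of Ω) ⟶ X),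
      Finite ((EtCoh.stalk ξ).obj F))
    (hE : ∀ n : ℕ, IsLocallyConstructible (E F n)) : EtPBC.IsConstructible F := by
  refine constructible_of_open_cover F (ι := X.affineOpens) (fun U => U.1)
    (iSup_affineOpens_eq_top X) (fun U => ?_)
  have : IsAffine U.1.toScheme := U.2
  have : IsNoetherian U.1.toScheme := {}
  apply constructible_of_card
  · intro Ω _ _ l
    have := hfin _ (l ≫ U.1.ι)
    exact Finite.of_equiv _ (stalkPullIso U.1.ι F l).addCommGroupIsoToAddEquiv.toEquiv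
  · intro n
    rw [E_pull]
    exact ((hE n).preimage_of_isOpenEmbedding U.1.ι.isOpenEmbedding).isConstructible

/-- the card sets of a finite locally constant sheaf are open -/
theorem isOpen_E_of_isFLC {T : Scheme.{u}} (Q : EtCoh.Ab T)
    (hQ : EtCoh.IsFiniteLocallyConstant Q) (n : ℕ) : IsOpen (E Q n) := by
  rw [isOpen_iff_forall_mem_open]
  intro t ht
  obtain ⟨Ω, _, _, ξ, hξ, hc⟩ := (mem_E_iff _ _ _).1 ht
  obtain ⟨κ, U, hcov, hU⟩ := hQ
  obtain ⟨i, y, hy⟩ := hcov t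
  obtain ⟨M, iM, fM, ⟨α⟩⟩ := hU i
  have : Etale (U i).hom := (U i).prop
  refine ⟨Set.range (U i).hom, ?_, (U i).hom.isOpenMap.isOpen_range, ⟨y, hy⟩⟩
  rintro t' ⟨y', rfl⟩
  obtain ⟨Ω', _, _, ξ', hξ'⟩ := exists_geomPt ((U i).hom y')
  obtain ⟨e⟩ := stalk_iso_of_triv Q (U i) (AddCommGrpCat.of (ULift.{u + 1} M)) α ξ y (hy.trans hξ.symm)
  obtain ⟨e'⟩ := stalk_iso_of_triv Q (U i) (AddCommGrpCat.of (ULift.{u + 1} M)) α ξ' y' hξ'.symm
  rw [mem_E_iff]
  refine ⟨Ω', inferInstance, inferInstance, ξ', hξ', ?_⟩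
  rw [← hc]
  exact Nat.card_congr (e' ≪≫ e.symm).addCommGroupIsoToAddEquiv.toEquiv

/-- the card sets of a constructible sheaf on a locally Noetherian scheme are locally
constructible -/
theorem isLocallyConstructible_E {X : Scheme.{u}} [IsLocallyNoetherian X] (F : EtCoh.Ab X)
    (hF : EtPBC.IsConstructible F) (n : ℕ) : IsLocallyConstructible (E F n) := by
  refine IsLocallyConstructible.of_isOpenCover (U := fun U : X.affineOpens => U.1)
    (iSup_affineOpens_eq_top X) (fun U => IsConstructible.isLocallyConstructible ?_)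
  obtain ⟨m, T, g, h1, h2, h3, h4, h5⟩ := hF U.1 U.2
  have : IsNoetherianRing Γ(X, U.1) := IsLocallyNoetherian.component_noetherian U
  have : TopologicalSpace.NoetherianSpace ↥U.1 := noetherianSpace_of_isAffineOpen U.1 U.2
  have key : ∀ i, ∃ O : Set X, IsOpen O ∧ E F n ∩ Set.range (g i) = O ∩ Set.range (g i) := by
    intro i
    have := h1 i
    have hop : IsOpen (g i ⁻¹' E F n) := by
      rw [← E_pull]
      exact isOpen_E_of_isFLC _ (h5 i) n
    obtain ⟨O, hO, hpre⟩ := (Scheme.Hom.isEmbedding (g i)).isInducing.isOpen_iff.1 hop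
    refine ⟨O, hO, ?_⟩
    ext x
    constructor
    · rintro ⟨hx, t, rfl⟩
      have : t ∈ g i ⁻¹' O := by rw [hpre]; exact hx
      exact ⟨this, t, rfl⟩
    · rintro ⟨hx, t, rfl⟩
      have : t ∈ g i ⁻¹' E F n := by rw [← hpre]; exact hx
      exact ⟨this, t, rfl⟩
  choose O hO hOeq using key
  have heq : ((Subtype.val : (U.1 : Set X) → X) ⁻¹' E F n) =
      ⋃ i, (((Subtype.val : (U.1 : Set X) → X) ⁻¹' O i) ∩
        ((Subtype.val : (U.1 : Set X) → X) ⁻¹' Set.range (g i))) := by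
    ext ⟨x, hx⟩
    simp only [Set.mem_preimage, Set.mem_iUnion, Set.mem_inter_iff]
    constructor
    · intro hxE
      have hx' : x ∈ ⋃ i, Set.range (g i) := by rw [h4]; exact hx
      obtain ⟨i, hxi⟩ := Set.mem_iUnion.1 hx'
      have : x ∈ E F n ∩ Set.range (g i) := ⟨hxE, hxi⟩
      rw [hOeq] at this
      exact ⟨i, this.1, hxi⟩
    · rintro ⟨i, hxO, hxi⟩
      have : x ∈ O i ∩ Set.range (g i) := ⟨hxO, hxi⟩
      rw [← hOeq] at this
      exact this.1
  rw [heq]
  exact IsConstructible.iUnion (fun i =>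
    ((TopologicalSpace.NoetherianSpace.isCompact _).isConstructible
      ((hO i).preimage continuous_subtype_val)).inter (h2 i))

end Groth.Agent.Lib.Helper43.CardSet
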