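import Mathlib
import Groth.Prelude
import Groth.Agent.Lib.Helper43.EtSupp

set_option autoImplicit false
universe u
open CategoryTheory CategoryTheory.Limits AlgebraicGeometry Opposite TensorProduct

namespace Groth.Agent.Lib.Helper43.EtSpecArrow

/-- finitely many algebra maps from an étale algebra to a field -/
theorem finite_algHom_of_etale (R S K : Type u) [CommRing R] [CommRing S] [Field K]
    [Algebra R S] [Algebra R K] [Algebra.Etale R S] : Finite (S →ₐ[R] K) := by
  have h1 : Algebra.Etale K (K ⊗[R] S) := inferInstance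
  have h2 : Module.Finite K (K ⊗[R] S) := Algebra.FormallyUnramified.finite_of_free K _
  have h3 : Finite ((K ⊗[R] S) →ₐ[K] K) := inferInstance
  exact Finite.of_equiv _ (Algebra.TensorProduct.liftEquivRight (R := R) (S := K) (B := S) K).symm

/-- ring-hom version -/
theorem finite_ringHom_of_etale {R S K : CommRingCat.{u}} (ρ : R ⟶ S) (hρ : ρ.hom.Etale)
    (hK : IsField K) (ρ' : R ⟶ K) : Set.Finite {θ : S ⟶ K | ρ ≫ θ = ρ'} := by
  let _ := hK.toField
  let _ := ρ.hom.toAlgebra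
  let _ := ρ'.hom.toAlgebra
  have : Algebra.Etale R S := hρ
  have hfin := finite_algHom_of_etale R S K
  let F : {θ : S ⟶ K | ρ ≫ θ = ρ'} → (S →ₐ[R] K) := fun θ =>
    { θ.1.hom with
      commutes' := fun r => by
        have := congrArg (fun f => f.hom r) θ.2
        exact this }
  have hF : Function.Injective F := by
    intro θ₁ θ₂ h
    apply Subtype.ext
    ext s
    exact congrArg (fun f => f s) h
  exact Set.finite_coe_iff.1 (Finite.of_injective F hF)

/-- finitely many lifts of a field-valued point to an étale scheme, landing in a given affine open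
over an affine open of the base -/
theorem finite_lifts {X Wl : Scheme.{u}} (f : Wl ⟶ X) [Etale f] {Ω' : Type u} [Field Ω']
    (ξ' : Spec (CommRingCat.of Ω') ⟶ X) (A : Wl.Opens) (hA : IsAffineOpen A)
    (B : X.Opens) (hB : IsAffineOpen B) (hAB : A ≤ f ⁻¹ᵁ B) :
    Set.Finite {t : Spec (CommRingCat.of Ω') ⟶ Wl | t ≫ f = ξ' ∧ t default ∈ A} := by
  by_cases hne : {t : Spec (CommRingCat.of Ω') ⟶ Wl | t ≫ f = ξ' ∧ t default ∈ A}.Nonempty
  swap
  · rw [Set.not_nonempty_iff_eq_empty] at hne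
    rw [hne]
    exact Set.finite_empty
  obtain ⟨t₀, ht₀, ht₀A⟩ := hne
  have hξB : ξ' default ∈ B := by
    rw [← ht₀]
    exact hAB ht₀A
  have hrange : ∀ {Z : Scheme.{u}} (s : Spec (CommRingCat.of Ω') ⟶ Z), Set.range s = {s default} :=
    fun s => EtSupp.range_eq_singleton s
  have hrB : Set.range ξ' ⊆ Set.range hB.fromSpec := by
    rw [hrange, hB.range_fromSpec]
    exact Set.singleton_subset_iff.2 hξB
  let ξt : Spec (CommRingCat.of Ω') ⟶ Spec Γ(X, B) := IsOpenImmersion.lift hB.fromSpec ξ' hrB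
  have hξt : ξt ≫ hB.fromSpec = ξ' := IsOpenImmersion.lift_fac _ _ _
  let ρ' : Γ(X, B) ⟶ CommRingCat.of Ω' := Spec.preimage ξt
  let ρ : Γ(X, B) ⟶ Γ(Wl, A) := f.appLE B A hAB
  have hρ : ρ.hom.Etale := HasRingHomProperty.appLE (P := @Etale) f inferInstance ⟨B, hB⟩ ⟨A, hA⟩ hAB
  have hfin := finite_ringHom_of_etale ρ hρ (Field.toIsField Ω') ρ'
  have hrA : ∀ t : {t : Spec (CommRingCat.of Ω') ⟶ Wl | t ≫ f = ξ' ∧ t default ∈ A},
      Set.range t.1 ⊆ Set.range hA.fromSpec := fun t => by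
    rw [hrange, hA.range_fromSpec]
    exact Set.singleton_subset_iff.2 t.2.2
  let tt : ∀ t : {t : Spec (CommRingCat.of Ω') ⟶ Wl | t ≫ f = ξ' ∧ t default ∈ A},
      Spec (CommRingCat.of Ω') ⟶ Spec Γ(Wl, A) := fun t =>
    IsOpenImmersion.lift hA.fromSpec t.1 (hrA t)
  have htt : ∀ t, tt t ≫ hA.fromSpec = t.1 := fun t => IsOpenImmersion.lift_fac _ _ _
  let Θ : {t : Spec (CommRingCat.of Ω') ⟶ Wl | t ≫ f = ξ' ∧ t default ∈ A} →
      {θ : Γ(Wl, A) ⟶ CommRingCat.of Ω' | ρ ≫ θ = ρ'} := fun t =>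
    ⟨Spec.preimage (tt t), by
      apply Spec.map_injective
      rw [Spec.map_comp, Spec.map_preimage, Spec.map_preimage]
      rw [← cancel_mono hB.fromSpec, Category.assoc, hξt,
        IsAffineOpen.SpecMap_appLE_fromSpec f hB hA hAB, ← Category.assoc, htt]
      exact t.2.1⟩
  have hΘ : Function.Injective Θ := by
    intro t₁ t₂ h
    have h1 : Spec.preimage (tt t₁) = Spec.preimage (tt t₂) := congrArg Subtype.val h
    have h2 : tt t₁ = tt t₂ := by
      rw [← Spec.map_preimage (tt t₁), h1, Spec.map_preimage]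
    apply Subtype.ext
    rw [← htt t₁, h2, htt]
  have := Set.finite_coe_iff.2 hfin
  exact Set.finite_coe_iff.1 (Finite.of_injective Θ hΘ)


section Arrow

variable {X : Scheme.{u}} {Ω Ω' : Type u} [Field Ω] [IsSepClosed Ω] [Field Ω'] [IsSepClosed Ω']
  (ξ : Spec (CommRingCat.of Ω) ⟶ X) (ξ' : Spec (CommRingCat.of Ω') ⟶ X)

/-- the underlying morphism of a point of the fibre -/
noncomputable abbrev lft {Ω₁ : Type u} [Field Ω₁] [IsSepClosed Ω₁] {ζ : Spec (CommRingCat.of Ω₁) ⟶ X}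
    {W : X.Etale} (w : (Scheme.pointSmallEtale ζ).fiber.obj W) :
    Spec (CommRingCat.of Ω₁) ⟶ W.left := w.left

lemma lft_w {Ω₁ : Type u} [Field Ω₁] [IsSepClosed Ω₁] {ζ : Spec (CommRingCat.of Ω₁) ⟶ X}
    {W : X.Etale} (w : (Scheme.pointSmallEtale ζ).fiber.obj W) : lft w ≫ W.hom = ζ := Over.w w

lemma lft_map {Ω₁ : Type u} [Field Ω₁] [IsSepClosed Ω₁] {ζ : Spec (CommRingCat.of Ω₁) ⟶ X}
    {W W₂ : X.Etale} (g : W ⟶ W₂) (w : (Scheme.pointSmallEtale ζ).fiber.obj W) :
    lft ((Scheme.pointSmallEtale ζ).fiber.map g w) = lft w ≫ g.left := rfl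

lemma fiber_ext {Ω₁ : Type u} [Field Ω₁] [IsSepClosed Ω₁] {ζ : Spec (CommRingCat.of Ω₁) ⟶ X}
    {W : X.Etale} {w w₂ : (Scheme.pointSmallEtale ζ).fiber.obj W} (h : lft w = lft w₂) : w = w₂ :=
  Over.OverMorphism.ext h

/-- `t` specializes to `w` -/
def Sp {W : X.Etale} (w : (Scheme.pointSmallEtale ξ).fiber.obj W)
    (t : (Scheme.pointSmallEtale ξ').fiber.obj W) : Prop :=
  (lft t) default ⤳ (lft w) default

variable {ξ ξ'}

lemma Sp.map {W W₂ : X.Etale} (g : W ⟶ W₂) {w : (Scheme.pointSmallEtale ξ).fiber.obj W}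
    {t : (Scheme.pointSmallEtale ξ').fiber.obj W} (h : Sp ξ ξ' w t) :
    Sp ξ ξ' ((Scheme.pointSmallEtale ξ).fiber.map g w) ((Scheme.pointSmallEtale ξ').fiber.map g t) := by
  change (lft t ≫ g.left) default ⤳ (lft w ≫ g.left) default
  exact Specializes.map h g.left.continuous


variable (ξ ξ') in
/-- the lifts of `ξ'` specializing to a given lift of `ξ` are finite in number -/
theorem finite_sp {W : X.Etale} (w : (Scheme.pointSmallEtale ξ).fiber.obj W) :
    Set.Finite {t : (Scheme.pointSmallEtale ξ').fiber.obj W | Sp ξ ξ' w t} := by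
  have : Etale W.hom := W.prop
  obtain ⟨B, hB, hxB, -⟩ := EtConstr.exists_affine_nhd_le (⊤ : X.Opens) (W.hom ((lft w) default))
    trivial
  obtain ⟨A, hA, hwA, hAB⟩ := EtConstr.exists_affine_nhd_le (W.hom ⁻¹ᵁ B) ((lft w) default) hxB
  have hfin := finite_lifts W.hom ξ' A hA B hB hAB
  let F : {t : (Scheme.pointSmallEtale ξ').fiber.obj W | Sp ξ ξ' w t} →
      {t : Spec (CommRingCat.of Ω') ⟶ W.left | t ≫ W.hom = ξ' ∧ t default ∈ A} := fun t =>
    ⟨lft t.1, lft_w t.1, t.2.mem_open A.isOpen hwA⟩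
  have hF : Function.Injective F := by
    intro t₁ t₂ h
    apply Subtype.ext
    exact fiber_ext (congrArg Subtype.val h)
  exact Set.finite_coe_iff.1 (@Finite.of_injective _ _ (Set.finite_coe_iff.2 hfin) F hF)

/-- lifting a specializing lift along a morphism of étale neighbourhoods -/
theorem exists_lift_sp {W₁ V : X.Etale} (b : W₁ ⟶ V)
    (w₁ : (Scheme.pointSmallEtale ξ).fiber.obj W₁)
    (v' : (Scheme.pointSmallEtale ξ').fiber.obj V)
    (h : Sp ξ ξ' ((Scheme.pointSmallEtale ξ).fiber.map b w₁) v') :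
    ∃ t₁ : (Scheme.pointSmallEtale ξ').fiber.obj W₁, Sp ξ ξ' w₁ t₁ ∧
      (Scheme.pointSmallEtale ξ').fiber.map b t₁ = v' := by
  have hgen : GeneralizingMap b.left := Flat.generalizingMap b.left
  have h' : (lft v') default ⤳ b.left ((lft w₁) default) := h
  obtain ⟨p, hp, hbp⟩ := hgen h'
  obtain ⟨l, hl₁, hl₂⟩ := Scheme.exists_fac_of_etale_of_isSepClosed b.left (lft v') p hbp
  have hbW : b.left ≫ V.hom = W₁.hom := MorphismProperty.Over.w b
  have hl : l ≫ W₁.hom = ξ' := by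
    rw [← hbW, ← Category.assoc, hl₁]
    exact lft_w v'
  refine ⟨Over.homMk l hl, ?_, fiber_ext hl₁⟩
  change l default ⤳ (lft w₁) default
  rw [hl₂]
  exact hp

/-- two morphisms of étale neighbourhoods that agree on a lift of `ξ` agree on every lift of `ξ'`
specializing to it -/
theorem map_eq_of_sp {W₁ V : X.Etale} (a b : W₁ ⟶ V)
    (w₁ : (Scheme.pointSmallEtale ξ).fiber.obj W₁)
    (hab : (Scheme.pointSmallEtale ξ).fiber.map a w₁ = (Scheme.pointSmallEtale ξ).fiber.map b w₁)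
    (t₁ : (Scheme.pointSmallEtale ξ').fiber.obj W₁) (h : Sp ξ ξ' w₁ t₁) :
    (Scheme.pointSmallEtale ξ').fiber.map a t₁ = (Scheme.pointSmallEtale ξ').fiber.map b t₁ := by
  have : Etale V.hom := V.prop
  have haW : a.left ≫ V.hom = W₁.hom := MorphismProperty.Over.w a
  have hbW : b.left ≫ V.hom = W₁.hom := MorphismProperty.Over.w b
  let d : W₁.left ⟶ pullback V.hom V.hom := pullback.lift a.left b.left (haW.trans hbW.symm)
  have hΔ : IsOpenImmersion (pullback.diagonal V.hom) := inferInstance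
  have hab' : lft w₁ ≫ a.left = lft w₁ ≫ b.left := congrArg (fun z => lft z) hab
  have hd₁ : d ≫ pullback.fst V.hom V.hom = a.left := pullback.lift_fst _ _ _
  have hd₂ : d ≫ pullback.snd V.hom V.hom = b.left := pullback.lift_snd _ _ _
  have hdw : lft w₁ ≫ d = (lft w₁ ≫ a.left) ≫ pullback.diagonal V.hom := by
    apply pullback.hom_ext
    · rw [Category.assoc, hd₁, Category.assoc, pullback.diagonal_fst, Category.comp_id]
    · rw [Category.assoc, hd₂, Category.assoc, pullback.diagonal_snd, Category.comp_id, hab']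
  have hmem : d ((lft w₁) default) ∈ Set.range (pullback.diagonal V.hom) := by
    refine ⟨(lft w₁ ≫ a.left) default, ?_⟩
    have := congrArg (fun (k : Spec (CommRingCat.of Ω) ⟶ pullback V.hom V.hom) => k default) hdw
    exact this.symm
  have hsp : d ((lft t₁) default) ⤳ d ((lft w₁) default) := Specializes.map h d.continuous
  have hmem' : d ((lft t₁) default) ∈ Set.range (pullback.diagonal V.hom) :=
    hsp.mem_open (pullback.diagonal V.hom).isOpenEmbedding.isOpen_range hmem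
  have hr : Set.range (lft t₁ ≫ d) ⊆ Set.range (pullback.diagonal V.hom) := by
    rw [EtSupp.range_eq_singleton]
    exact Set.singleton_subset_iff.2 hmem'
  let k := IsOpenImmersion.lift (pullback.diagonal V.hom) (lft t₁ ≫ d) hr
  have hk : k ≫ pullback.diagonal V.hom = lft t₁ ≫ d := IsOpenImmersion.lift_fac _ _ _
  apply fiber_ext
  change lft t₁ ≫ a.left = lft t₁ ≫ b.left
  have h1 : lft t₁ ≫ a.left = k := by
    have := congrArg (fun z => z ≫ pullback.fst V.hom V.hom) hk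
    simp only [Category.assoc, pullback.diagonal_fst, Category.comp_id, hd₁] at this
    exact this.symm
  have h2 : lft t₁ ≫ b.left = k := by
    have := congrArg (fun z => z ≫ pullback.snd V.hom V.hom) hk
    simp only [Category.assoc, pullback.diagonal_snd, Category.comp_id, hd₂] at this
    exact this.symm
  rw [h1, h2]


variable (ξ ξ') in
/-- the ambient functor: lifts of `ξ'` to the étale neighbourhoods of `ξ` -/
noncomputable abbrev F₀ : (Scheme.pointSmallEtale ξ).fiber.Elements ⥤ Type u :=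
  CategoryOfElements.π (Scheme.pointSmallEtale ξ).fiber ⋙ (Scheme.pointSmallEtale ξ').fiber

/-- the lifts of `ξ'` that are compatible, through a common refinement and a specializing lift, with
a prescribed lift `v'` on `V` -/
noncomputable def ctrl {V : X.Etale} (v : (Scheme.pointSmallEtale ξ).fiber.obj V)
    (v' : (Scheme.pointSmallEtale ξ').fiber.obj V) : Subfunctor (F₀ ξ ξ') where
  obj Ww := {t | ∃ (W₁ : X.Etale) (w₁ : (Scheme.pointSmallEtale ξ).fiber.obj W₁)
      (a : W₁ ⟶ Ww.1) (b : W₁ ⟶ V) (t₁ : (Scheme.pointSmallEtale ξ').fiber.obj W₁),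
      (Scheme.pointSmallEtale ξ).fiber.map a w₁ = Ww.2 ∧
      (Scheme.pointSmallEtale ξ).fiber.map b w₁ = v ∧ Sp ξ ξ' w₁ t₁ ∧
      (Scheme.pointSmallEtale ξ').fiber.map a t₁ = t ∧
      (Scheme.pointSmallEtale ξ').fiber.map b t₁ = v'}
  map := by
    rintro ⟨W, w⟩ ⟨W₂, w₂⟩ ⟨g, hg⟩ t ⟨W₁, w₁, a, b, t₁, h1, h2, h3, h4, h5⟩
    refine ⟨W₁, w₁, a ≫ g, b, t₁, ?_, h2, h3, ?_, h5⟩
    · rw [Functor.map_comp]
      change (Scheme.pointSmallEtale ξ).fiber.map g ((Scheme.pointSmallEtale ξ).fiber.map a w₁) = w₂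
      rw [h1]
      exact hg
    · rw [Functor.map_comp]
      change (Scheme.pointSmallEtale ξ').fiber.map g ((Scheme.pointSmallEtale ξ').fiber.map a t₁) = _
      rw [h4]
      rfl


lemma ctrl_sp {V : X.Etale} {v : (Scheme.pointSmallEtale ξ).fiber.obj V}
    {v' : (Scheme.pointSmallEtale ξ').fiber.obj V} {W : X.Etale}
    {w : (Scheme.pointSmallEtale ξ).fiber.obj W} {t : (Scheme.pointSmallEtale ξ').fiber.obj W}
    (ht : t ∈ (ctrl v v').obj ⟨W, w⟩) : Sp ξ ξ' w t := by
  obtain ⟨W₁, w₁, a, b, t₁, h1, h2, h3, h4, h5⟩ := ht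
  have := h3.map a
  rw [h4] at this
  have h1' : (Scheme.pointSmallEtale ξ).fiber.map a w₁ = w := h1
  rw [h1'] at this
  exact this

/-- **existence of specialization arrows**, with control on one étale neighbourhood -/
theorem exists_arrow {V : X.Etale} (v : (Scheme.pointSmallEtale ξ).fiber.obj V)
    (v' : (Scheme.pointSmallEtale ξ').fiber.obj V) (h : Sp ξ ξ' v v') :
    ∃ φ : Scheme.pointSmallEtale ξ' ⟶ Scheme.pointSmallEtale ξ, φ.hom.app V v = v' ∧
      ∀ (W : X.Etale) (w : (Scheme.pointSmallEtale ξ).fiber.obj W), Sp ξ ξ' w (φ.hom.app W w) := by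
  let G := (ctrl v v').toFunctor
  have hfin : ∀ j, Finite (G.obj j) := by
    rintro ⟨W, w⟩
    exact Set.finite_coe_iff.2 ((finite_sp ξ ξ' w).subset (fun t ht => ctrl_sp ht))
  have hne : ∀ j, Nonempty (G.obj j) := by
    rintro ⟨W, w⟩
    obtain ⟨⟨W₁, w₁⟩, ⟨a, ha⟩, ⟨b, hb⟩, -⟩ := IsCofilteredOrEmpty.cone_objs
      ((Scheme.pointSmallEtale ξ).fiber.elementsMk W w)
      ((Scheme.pointSmallEtale ξ).fiber.elementsMk V v)
    have hb' : (Scheme.pointSmallEtale ξ).fiber.map b w₁ = v := hb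
    obtain ⟨t₁, ht₁, ht₁'⟩ := exists_lift_sp b w₁ v' (by rw [hb']; exact h)
    exact ⟨⟨(Scheme.pointSmallEtale ξ').fiber.map a t₁, W₁, w₁, a, b, t₁, ha, hb', ht₁, rfl, ht₁'⟩⟩
  obtain ⟨s, hs⟩ := nonempty_sections_of_finite_cofiltered_system G
  let φhom : (Scheme.pointSmallEtale ξ).fiber ⟶ (Scheme.pointSmallEtale ξ').fiber :=
    { app := fun W => ↾fun w => (s ⟨W, w⟩).1
      naturality := by
        intro W W₂ g
        ext w
        have := hs (j := ⟨W, w⟩) (j' := ⟨W₂, (Scheme.pointSmallEtale ξ).fiber.map g w⟩) ⟨g, rfl⟩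
        exact (congrArg Subtype.val this).symm }
  refine ⟨⟨φhom⟩, ?_, fun W w => ctrl_sp (s ⟨W, w⟩).2⟩
  obtain ⟨W₁, w₁, a, b, t₁, h1, h2, h3, h4, h5⟩ := (s ⟨V, v⟩).2
  change (s ⟨V, v⟩).1 = v'
  rw [← h4, ← h5]
  exact map_eq_of_sp a b w₁ (h1.trans h2.symm) t₁ h3


variable (ξ ξ') in
/-- specialization arrows exist between geometric points whose centres specialize -/
theorem exists_arrow_of_specializes (h : ξ' default ⤳ ξ default) :
    Nonempty (Scheme.pointSmallEtale ξ' ⟶ Scheme.pointSmallEtale ξ) := by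
  let v : (Scheme.pointSmallEtale ξ).fiber.obj (EtCoh.top X) := Over.homMk ξ (Category.comp_id ξ)
  let v' : (Scheme.pointSmallEtale ξ').fiber.obj (EtCoh.top X) :=
    Over.homMk ξ' (Category.comp_id ξ')
  obtain ⟨φ, -, -⟩ := exists_arrow v v' h
  exact ⟨φ⟩

end Arrow

end Groth.Agent.Lib.Helper43.EtSpecArrow
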