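import Mathlib
import Groth.Prelude
import Groth.Agent.Lib.Helper43.CardSet
import Groth.Agent.Lib.Helper43.EtSpecArrow

set_option autoImplicit false
universe u
open CategoryTheory CategoryTheory.Limits AlgebraicGeometry Opposite Topology

namespace Groth.Agent.Lib.Helper43.CardSpec

open Groth.Agent.Lib.Helper43 Groth.Agent.Lib.Helper43.EtSupp Groth.Agent.Lib.Helper43.EtConstr
  Groth.Agent.Lib.Helper43.StrataLib Groth.Agent.Lib.Helper43.ConstrCover
  Groth.Agent.Lib.Helper43.CardSet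

/-- the stalks do not grow under specialization -/
def CardMono {Y : Scheme.{u}} (G : EtCoh.Ab Y) : Prop :=
  ∀ (Ω Ω' : Type u) [Field Ω] [IsSepClosed Ω] [Field Ω'] [IsSepClosed Ω']
    (ξ : Spec (CommRingCat.of Ω) ⟶ Y) (ξ' : Spec (CommRingCat.of Ω') ⟶ Y),
    ξ' default ⤳ ξ default →
      Nat.card ((EtCoh.stalk ξ).obj G) ≤ Nat.card ((EtCoh.stalk ξ').obj G)

/-- the stratum through a point, when stalks do not grow under specialization -/
theorem exists_stratum_at {Y : Scheme.{u}} [IsNoetherian Y] (G : EtCoh.Ab Y)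
    (hfin : ∀ (Ω : Type u) [Field Ω] [IsSepClosed Ω] (ξ : Spec (CommRingCat.of Ω) ⟶ Y),
      Finite ((EtCoh.stalk ξ).obj G))
    (hle : CardMono G) (y : Y) :
    ∃ (T : Scheme.{u}) (g : T ⟶ Y), IsImmersion g ∧ y ∈ Set.range g ∧
      IsConstructible (Set.range g) ∧ EtConstr.P G T g := by
  obtain ⟨Ω₀, _, _, ξy, hξy⟩ := exists_geomPt y
  have hL : IsLocallyClosed (closure {y}) := isClosed_closure.isLocallyClosed
  obtain ⟨T, g, hg, hr⟩ := exists_immersion_range_eq _ hL
  obtain ⟨z₀, hz₀⟩ : y ∈ Set.range g := by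
    rw [hr]
    exact subset_closure rfl
  obtain ⟨l₀, rfl⟩ := exists_fac_of_isPreimmersion g ξy z₀ (hz₀.trans hξy.symm)
  have hinj : Function.Injective g := (Scheme.Hom.isEmbedding g).injective
  have hl₀ : l₀ default = z₀ := by
    apply hinj
    rw [hz₀, ← hξy]
    rfl
  let H := (EtCoh.pull g).obj G
  have hgen : ∀ O' : Set T, IsOpen O' → O'.Nonempty → l₀ default ∈ O' := by
    intro O' hO' ⟨z, hz⟩
    obtain ⟨O'', hO'', rfl⟩ := (Scheme.Hom.isEmbedding g).isInducing.isOpen_iff.1 hO'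
    have hgz : g z ∈ closure {y} := by
      rw [← hr]
      exact ⟨z, rfl⟩
    have hsp : y ⤳ g z := specializes_iff_mem_closure.2 hgz
    have hy'' : y ∈ O'' := hsp.mem_open hO'' hz
    change g (l₀ default) ∈ O''
    rw [hl₀, hz₀]
    exact hy''
  have hfinH : ∀ {Ω : Type u} [Field Ω] [IsSepClosed Ω] (l : Spec (CommRingCat.of Ω) ⟶ T),
      Finite ((EtCoh.stalk l).obj H) := fun l => by
    have := hfin _ (l ≫ g)
    exact Finite.of_equiv _ (stalkPullIso g G l).addCommGroupIsoToAddEquiv.toEquiv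
  have hcardH : ∀ {Ω : Type u} [Field Ω] [IsSepClosed Ω] (l : Spec (CommRingCat.of Ω) ⟶ T),
      Nat.card ((EtCoh.stalk l).obj H) = Nat.card ((EtCoh.stalk (l ≫ g)).obj G) := fun l =>
    Nat.card_congr (stalkPullIso g G l).symm.addCommGroupIsoToAddEquiv.toEquiv
  have hfin₀ : Finite ((EtCoh.stalk l₀).obj H) := hfinH l₀
  have hcard : ∀ t : T, ∃ (Ω : Type u) (_ : Field Ω) (_ : IsSepClosed Ω)
      (ξ : Spec (CommRingCat.of Ω) ⟶ T), ξ default = t ∧ Finite ((EtCoh.stalk ξ).obj H) ∧
        Nat.card ((EtCoh.stalk ξ).obj H) ≤ Nat.card ((EtCoh.stalk l₀).obj H) := by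
    intro t
    obtain ⟨Ω, _, _, l, hl⟩ := exists_geomPt t
    refine ⟨Ω, inferInstance, inferInstance, l, hl, hfinH l, ?_⟩
    rw [hcardH l, hcardH l₀]
    apply hle
    have hgt : g t ∈ closure {y} := by
      rw [← hr]
      exact ⟨t, rfl⟩
    have hsp : y ⤳ g t := specializes_iff_mem_closure.2 hgt
    change g (l₀ default) ⤳ g (l default)
    rw [hl₀, hz₀, hl]
    exact hsp
  obtain ⟨W, hzW, hflc⟩ := EtGenericFLC.exists_opens_isFLC H l₀ hgen hcard
  refine ⟨W.toScheme, W.ι ≫ g, inferInstance, ?_, ?_, ?_⟩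
  · obtain ⟨w, hw⟩ : l₀ default ∈ Set.range W.ι := by
      rw [Scheme.Opens.range_ι]
      exact hzW
    refine ⟨w, ?_⟩
    change g (W.ι w) = y
    rw [hw, hl₀, hz₀]
  · have : TopologicalSpace.NoetherianSpace Y := inferInstance
    exact isConstructible_of_isLocallyClosed (W.ι ≫ g).isLocallyClosed_range
  · intro _
    exact isFLC_of_iso ((pullComp g W.ι).app G).symm hflc

/-- on a Noetherian scheme, a sheaf with finite stalks not growing under specialization is
constructible -/
theorem constructible_of_cardMono {Y : Scheme.{u}} [IsNoetherian Y] (G : EtCoh.Ab Y)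
    (hfin : ∀ (Ω : Type u) [Field Ω] [IsSepClosed Ω] (ξ : Spec (CommRingCat.of Ω) ⟶ Y),
      Finite ((EtCoh.stalk ξ).obj G))
    (hle : CardMono G) : EtPBC.IsConstructible G := by
  rw [constructible_iff_strata_univ, adaptedStrata_iff]
  choose T g h1 h2 h3 h4 using exists_stratum_at G hfin hle
  refine Strata.of_constructible_cover (P_comp G) T g h1 h3 ?_ ?_
  · ext y
    simp only [Set.mem_iUnion, Set.mem_univ, iff_true]
    exact ⟨y, h2 y⟩
  · intro y
    refine Strata.of_finite Unit (fun _ => T y) (fun _ => 𝟙 (T y)) (fun _ => inferInstance)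
      (fun _ => ?_) ?_ ?_ (fun _ => P_comp G (𝟙 _) (g y) (h4 y))
    · have : Set.range (𝟙 (T y) : T y ⟶ T y) = Set.univ := by
        ext t
        simp
      rw [this, Set.preimage_univ]
      exact IsConstructible.univ
    · intro a b hab
      exact (hab (Subsingleton.elim a b)).elim
    · ext t
      simp

/-- locally Noetherian version -/
theorem constructible_of_cardMono_locally {X : Scheme.{u}} [IsLocallyNoetherian X]
    (F : EtCoh.Ab X)
    (hfin : ∀ (Ω : Type u) [Field Ω] [IsSepClosed Ω] (ξ : Spec (CommRingCat.of Ω) ⟶ X),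
      Finite ((EtCoh.stalk ξ).obj F))
    (hle : CardMono F) : EtPBC.IsConstructible F := by
  refine constructible_of_open_cover F (ι := X.affineOpens) (fun U => U.1)
    (iSup_affineOpens_eq_top X) (fun U => ?_)
  have : IsAffine U.1.toScheme := U.2
  have : IsNoetherian U.1.toScheme := {}
  apply constructible_of_cardMono
  · intro Ω _ _ l
    have := hfin _ (l ≫ U.1.ι)
    exact Finite.of_equiv _ (stalkPullIso U.1.ι F l).addCommGroupIsoToAddEquiv.toEquiv
  · intro Ω Ω' _ _ _ _ l l' hsp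
    rw [Nat.card_congr (stalkPullIso U.1.ι F l).symm.addCommGroupIsoToAddEquiv.toEquiv,
      Nat.card_congr (stalkPullIso U.1.ι F l').symm.addCommGroupIsoToAddEquiv.toEquiv]
    apply hle
    exact Specializes.map hsp U.1.ι.continuous

/-- injective specialization maps force the stalks not to grow under specialization -/
theorem cardMono_of_mono {X : Scheme.{u}} (F : EtCoh.Ab X)
    (hfin : ∀ (Ω : Type u) [Field Ω] [IsSepClosed Ω] (ξ : Spec (CommRingCat.of Ω) ⟶ X),
      Finite ((EtCoh.stalk ξ).obj F))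
    (hmono : ∀ (Ω Ω' : Type u) [Field Ω] [IsSepClosed Ω] [Field Ω'] [IsSepClosed Ω']
        (ξ : Spec (CommRingCat.of Ω) ⟶ X) (ξ' : Spec (CommRingCat.of Ω') ⟶ X)
        (φ : Scheme.pointSmallEtale ξ' ⟶ Scheme.pointSmallEtale ξ),
        Mono ((GrothendieckTopology.Point.Hom.sheafFiber (A := AddCommGrpCat.{u + 1}) φ).app F)) :
    CardMono F := by
  intro Ω Ω' _ _ _ _ ξ ξ' hsp
  obtain ⟨φ⟩ := EtSpecArrow.exists_arrow_of_specializes ξ ξ' hsp
  have hm := hmono Ω Ω' ξ ξ' φ
  have hinj := (AddCommGrpCat.mono_iff_injective _).1 hm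
  have := hfin Ω' ξ'
  exact Nat.card_le_card_of_injective _ hinj

end Groth.Agent.Lib.Helper43.CardSpec
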