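import Mathlib
import Groth.Prelude
import Groth.Agent.S3508
import Groth.Agent.Lib.Helper43.EtConstrTorsion

/-!
# Torsion abelian étale sheaves on a qcqs scheme are filtered colimits of constructible sheaves
-/

set_option autoImplicit false
set_option linter.unusedSectionVars false
universe u
open CategoryTheory CategoryTheory.Limits AlgebraicGeometry Opposite

namespace Groth.Agent.Lib.Helper43.ConstrColim

open Groth.Agent.Lib.Helper43 Groth.Agent.Lib.Helper43.EtConstrStalk
  Groth.Agent.Lib.Helper43.EtConstrSerre Groth.Agent.Lib.Helper43.JShriekGen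

variable {X : Scheme.{u}} [CompactSpace X] [QuasiSeparatedSpace X]

variable (X) in
/-- presentation data of a constructible sheaf -/
structure Pres where
  a : ℕ
  b : ℕ
  U : Fin a → X.Etale
  V : Fin b → X.Etale
  n : Fin a → ℕ
  m : Fin b → ℕ
  hU : ∀ i, 0 < n i ∧ IsAffine (U i).left
  hV : ∀ j, 0 < m j ∧ IsAffine (V j).left
  φ : (⨁ fun j => EtPBC.extZeroConst (V j) (ZMod (m j))) ⟶
    (⨁ fun i => EtPBC.extZeroConst (U i) (ZMod (n i)))

/-- the sheaf presented -/
noncomputable def Pres.obj (P : Pres X) : EtCoh.Ab X := cokernel P.φ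

lemma Pres.constructible (P : Pres X) : EtPBC.IsConstructible P.obj :=
  (Groth.Agent.S3508.result X P.obj).2
    ⟨P.a, P.b, P.U, P.V, P.n, P.m, P.hU, P.hV, P.φ, ⟨Iso.refl _⟩⟩

lemma exists_pres (C : EtCoh.Ab X) (hC : EtPBC.IsConstructible C) :
    ∃ P : Pres X, Nonempty (C ≅ P.obj) := by
  obtain ⟨a, b, U, V, n, m, hU, hV, φ, ⟨e⟩⟩ := (Groth.Agent.S3508.result X C).1 hC
  exact ⟨⟨a, b, U, V, n, m, hU, hV, φ⟩, ⟨e⟩⟩

lemma constructible_biprod {A B : EtCoh.Ab X} (hA : EtPBC.IsConstructible A)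
    (hB : EtPBC.IsConstructible B) : EtPBC.IsConstructible (A ⊞ B) :=
  constructible_extension _ (ShortComplex.Splitting.ofHasBinaryBiproduct A B).shortExact hA hB

variable (F : EtCoh.Ab X)

/-- presentations over `F` -/
structure PO where
  P : Pres X
  f : P.obj ⟶ F

variable {F}

/-- morphisms of presentations over `F` -/
@[ext]
structure PO.Hom (p p' : PO F) where
  g : p.P.obj ⟶ p'.P.obj
  w : g ≫ p'.f = p.f

noncomputable instance : Category (PO F) where
  Hom := PO.Hom
  id p := ⟨𝟙 _, Category.id_comp _⟩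
  comp a b := ⟨a.g ≫ b.g, by rw [Category.assoc, b.w, a.w]⟩
  id_comp a := PO.Hom.ext (Category.id_comp _)
  comp_id a := PO.Hom.ext (Category.comp_id _)
  assoc a b c := PO.Hom.ext (Category.assoc _ _ _)

@[simp] lemma PO.comp_g {p p' p'' : PO F} (a : p ⟶ p') (b : p' ⟶ p'') : (a ≫ b).g = a.g ≫ b.g := rfl
@[simp] lemma PO.id_g (p : PO F) : PO.Hom.g (𝟙 p) = 𝟙 _ := rfl

/-- every constructible sheaf over `F` is isomorphic to a presentation over `F` -/
lemma exists_po (C : EtCoh.Ab X) (hC : EtPBC.IsConstructible C) (f : C ⟶ F) :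
    ∃ (p : PO F) (e : C ≅ p.P.obj), e.hom ≫ p.f = f := by
  obtain ⟨P, ⟨e⟩⟩ := exists_pres C hC
  exact ⟨⟨P, e.inv ≫ f⟩, e, by simp⟩

instance : IsFiltered (PO F) where
  nonempty := by
    obtain ⟨p, -, -⟩ := exists_po (F := F) (⨁ fun i : Fin 0 => (i.elim0 : EtCoh.Ab X))
      (constructible_biproduct_fin 0 _ (fun j => j.elim0)) 0
    exact ⟨p⟩
  cocone_objs p p' := by
    have hC : EtPBC.IsConstructible (p.P.obj ⊞ p'.P.obj) :=
      constructible_biprod p.P.constructible p'.P.constructible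
    obtain ⟨p'', e, he⟩ := exists_po (p.P.obj ⊞ p'.P.obj) hC (biprod.desc p.f p'.f)
    refine ⟨p'', ⟨biprod.inl ≫ e.hom, ?_⟩, ⟨biprod.inr ≫ e.hom, ?_⟩, trivial⟩
    · rw [Category.assoc, he, biprod.inl_desc]
    · rw [Category.assoc, he, biprod.inr_desc]
  cocone_maps {p p'} a b := by
    have hC : EtPBC.IsConstructible (cokernel (a.g - b.g)) :=
      (constructible_kernel_cokernel _ p.P.constructible p'.P.constructible).2
    have hw : (a.g - b.g) ≫ p'.f = 0 := by
      rw [Preadditive.sub_comp, a.w, b.w, sub_self]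
    obtain ⟨p'', e, he⟩ := exists_po (cokernel (a.g - b.g)) hC (cokernel.desc _ p'.f hw)
    refine ⟨p'', ⟨cokernel.π _ ≫ e.hom, ?_⟩, ?_⟩
    · rw [Category.assoc, he, cokernel.π_desc]
    · apply PO.Hom.ext
      change a.g ≫ cokernel.π _ ≫ e.hom = b.g ≫ cokernel.π _ ≫ e.hom
      rw [← sub_eq_zero, ← Preadditive.sub_comp, ← Category.assoc, cokernel.condition, zero_comp]

/-! ### Sections killed by `n` -/

section Sigma'

open Groth.Agent.Lib.Helper43.ConstSheaf Groth.Agent.Lib.Helper43.LCHom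

variable {n : ℕ} {G : EtCoh.Ab X} (U : X.Etale) (s : G.obj.obj (op U)) (h : n • s = 0)

/-- the homomorphism `ℤ/n → G(U)`, `1 ↦ s` for a section with `n • s = 0` -/
noncomputable def zHom' : ZMod n →+ G.obj.obj (op U) :=
  ZMod.lift n ⟨zmultiplesHom (G.obj.obj (op U)) s, by simpa using h⟩

lemma zHom'_one : zHom' U s h 1 = s := by
  have h' := ZMod.lift_coe n ⟨zmultiplesHom (G.obj.obj (op U)) s, by simpa using h⟩ 1
  simpa [zHom'] using h'

/-- the homomorphism `ℤ/n → G(U)`, `1 ↦ s`, on the lifted group -/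
noncomputable def tHom' : Nn.{u} n ⟶ (G.over U).obj.obj (op (Over.mk (𝟙 U))) :=
  AddCommGrpCat.ofHom ((zHom' U s h).comp AddEquiv.ulift.toAddMonoidHom)

lemma tHom'_one : tHom' U s h ⟨1⟩ = s := zHom'_one U s h

/-- the map `j_! ℤ/n → G` attached to a section `s ∈ G(U)` with `n • s = 0` -/
noncomputable def σ' : EtPBC.extZeroConst U (ZMod n) ⟶ G :=
  ((EtPBC.extZeroAdj U).homEquiv (EtPBC.constOver U (ZMod n)) G).symm
    (K_desc (X.smallEtaleTopology.over U) Over.mkIdTerminal (M := Nn.{u} n) (G := G.over U)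
      (tHom' U s h))

lemma σ'_taut : (σ' U s h).hom.app (op U) (taut (n := n) U) = s := by
  have h1 : (EtPBC.extZeroAdj U).unit.app (EtPBC.constOver U (ZMod n)) ≫
      (X.smallEtaleTopology.overPullback AddCommGrpCat.{u + 1} U).map (σ' U s h) =
      K_desc (X.smallEtaleTopology.over U) Over.mkIdTerminal (tHom' U s h) := by
    have h0 := ((EtPBC.extZeroAdj U).homEquiv (EtPBC.constOver U (ZMod n)) G).apply_symm_apply
      (K_desc (X.smallEtaleTopology.over U) Over.mkIdTerminal (M := Nn.{u} n) (G := G.over U)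
        (tHom' U s h))
    rw [Adjunction.homEquiv_unit] at h0
    exact h0
  have h2 := congrArg (fun k => k.hom.app (op (Over.mk (𝟙 U)))
    (cst (X.smallEtaleTopology.over U) (Nn.{u} n) (Over.mk (𝟙 U)) ⟨1⟩)) h1
  have h3 := K_desc_cst (X.smallEtaleTopology.over U) Over.mkIdTerminal (tHom' U s h) ⟨1⟩
  exact (h2.trans h3).trans (tHom'_one U s h)

lemma Nn_hom_ext {A : AddCommGrpCat.{u + 1}} (φ ψ : Nn.{u} n ⟶ A) (h1 : φ ⟨1⟩ = ψ ⟨1⟩) (m : Nn.{u} n) :
    φ m = ψ m := by
  obtain ⟨k⟩ := m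
  obtain ⟨z, rfl⟩ := ZMod.intCast_surjective k
  have hz : (⟨(z : ZMod n)⟩ : ULift.{u + 1} (ZMod n)) = z • (⟨1⟩ : ULift.{u + 1} (ZMod n)) := by
    apply ULift.ext
    simp
  change φ.hom (⟨(z : ZMod n)⟩ : ULift.{u + 1} (ZMod n)) = ψ.hom ⟨(z : ZMod n)⟩
  rw [hz, map_zsmul, map_zsmul]
  exact congrArg (fun t => z • t) h1

/-- maps out of `j_! ℤ/n` are determined by the image of the tautological section -/
lemma extZeroConst_hom_ext (a b : EtPBC.extZeroConst U (ZMod n) ⟶ G)
    (hab : a.hom.app (op U) (taut (n := n) U) = b.hom.app (op U) (taut (n := n) U)) : a = b := by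
  apply ((EtPBC.extZeroAdj U).homEquiv (EtPBC.constOver U (ZMod n)) G).injective
  rw [Adjunction.homEquiv_unit, Adjunction.homEquiv_unit]
  apply K_hom_ext (X.smallEtaleTopology.over U) Over.mkIdTerminal (M := Nn.{u} n) (G := G.over U)
  intro m
  exact Nn_hom_ext
    (cst (X.smallEtaleTopology.over U) (Nn.{u} n) (Over.mk (𝟙 U)) ≫
      ((EtPBC.extZeroAdj U).unit.app (EtPBC.constOver U (ZMod n)) ≫
        (X.smallEtaleTopology.overPullback AddCommGrpCat.{u + 1} U).map a).hom.app
          (op (Over.mk (𝟙 U))))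
    (cst (X.smallEtaleTopology.over U) (Nn.{u} n) (Over.mk (𝟙 U)) ≫
      ((EtPBC.extZeroAdj U).unit.app (EtPBC.constOver U (ZMod n)) ≫
        (X.smallEtaleTopology.overPullback AddCommGrpCat.{u + 1} U).map b).hom.app
          (op (Over.mk (𝟙 U)))) hab m

end Sigma'

/-! ### The colimit -/

section Colim

open Groth.Agent.Lib.Helper43.EtStalk

variable (F) in
/-- the diagram of presentations over `F` -/
noncomputable def D : PO F ⥤ EtCoh.Ab X where
  obj p := p.P.obj
  map a := a.g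

variable (F) in
/-- the tautological cocone -/
noncomputable def coconeF : Cocone (D F) where
  pt := F
  ι :=
    { app := fun p => p.f
      naturality := fun p p' a => by
        change a.g ≫ p'.f = p.f ≫ 𝟙 _
        rw [a.w, Category.comp_id] }

/-- the colimit inclusion, with the expected source -/
noncomputable def ιp (p : PO F) : p.P.obj ⟶ colimit (D F) := colimit.ι (D F) p

lemma ιp_desc (p : PO F) : ιp p ≫ colimit.desc (D F) (coconeF F) = p.f :=
  colimit.ι_desc (coconeF F) p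

lemma ιp_w {p p' : PO F} (a : p ⟶ p') : a.g ≫ ιp p' = ιp p :=
  colimit.w (D F) a

lemma stalk_comp_apply {A B C : EtCoh.Ab X} (f : A ⟶ B) (g : B ⟶ C)
    {Ω : Type u} [Field Ω] [IsSepClosed Ω]
    (ξ : Spec (CommRingCat.of Ω) ⟶ X) (w : (EtCoh.stalk ξ).obj A) :
    (EtCoh.stalk ξ).map (f ≫ g) w = (EtCoh.stalk ξ).map g ((EtCoh.stalk ξ).map f w) := by
  rw [CategoryTheory.Functor.map_comp]
  rfl

lemma torsion_refine (hF : EtCoh.IsTorsion F) {Ω : Type u} [Field Ω] [IsSepClosed Ω]
    (ξ : Spec (CommRingCat.of Ω) ⟶ X) (U : X.Etale)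
    (y : (Scheme.pointSmallEtale ξ).fiber.obj U) (t : F.obj.obj (op U)) :
    ∃ (U' : X.Etale) (_ : IsAffine U'.left) (f : U' ⟶ U)
      (y' : (Scheme.pointSmallEtale ξ).fiber.obj U') (n : ℕ),
      0 < n ∧ (Scheme.pointSmallEtale ξ).fiber.map f y' = y ∧ n • F.obj.map f.op t = 0 := by
  let yl : Spec (CommRingCat.of Ω) ⟶ U.left := y.left
  have hyl : yl ≫ U.hom = ξ := Over.w y
  obtain ⟨V, g, ⟨v, hv⟩, hfin⟩ := hF U t (yl.base default)
  obtain ⟨l, hl₁, hl₂⟩ := Scheme.exists_fac_of_etale_of_isSepClosed g.left yl v hv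
  have hg : g.left ≫ U.hom = V.hom := MorphismProperty.Over.w g
  let y₁ : (Scheme.pointSmallEtale ξ).fiber.obj V := Over.homMk l (by
    change l ≫ V.hom = ξ
    rw [← hg, ← Category.assoc, hl₁]
    exact hyl)
  have hy₁ : (Scheme.pointSmallEtale ξ).fiber.map g y₁ = y := Over.OverMorphism.ext hl₁
  obtain ⟨U', hU', f, y', hy'⟩ := exists_affine_refinement ξ V y₁
  obtain ⟨n, hn, hnt⟩ := hfin.exists_nsmul_eq_zero
  refine ⟨U', hU', f ≫ g, y', n, hn, ?_, ?_⟩
  · rw [CategoryTheory.Functor.map_comp]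
    change (Scheme.pointSmallEtale ξ).fiber.map g ((Scheme.pointSmallEtale ξ).fiber.map f y') = y
    rw [hy', hy₁]
  · have : F.obj.map (f ≫ g).op t = F.obj.map f.op (F.obj.map g.op t) := by
      rw [op_comp, CategoryTheory.Functor.map_comp]
      rfl
    rw [this, ← map_nsmul, hnt, map_zero]

theorem epi_desc (hF : EtCoh.IsTorsion F) : Epi (colimit.desc (D F) (coconeF F)) := by
  apply epi_of_stalks_ab
  intro Ω _ _ ξ z
  obtain ⟨U, y, t, rfl⟩ := (Scheme.pointSmallEtale ξ).toPresheafFiber_jointly_surjective z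
  obtain ⟨U', hU', f, y', n, hn, rfl, hnt⟩ := torsion_refine hF ξ U y t
  have : NeZero n := ⟨hn.ne'⟩
  obtain ⟨p, e, he⟩ := exists_po (F := F) (EtPBC.extZeroConst U' (ZMod n))
    (Groth.Agent.S0133.result X U' (ZMod n)) (σ' U' (F.obj.map f.op t) hnt)
  let w₀ := (Scheme.pointSmallEtale ξ).toPresheafFiber U' y' (EtPBC.extZeroConst U' (ZMod n)).obj
    (taut (n := n) U')
  have hk : (e.hom ≫ ιp p) ≫ colimit.desc (D F) (coconeF F) =
      σ' U' (F.obj.map f.op t) hnt := by
    rw [Category.assoc, ιp_desc]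
    exact he
  refine ⟨(EtCoh.stalk ξ).map (e.hom ≫ ιp p) w₀, ?_⟩
  have h0 : (EtCoh.stalk ξ).map (colimit.desc (D F) (coconeF F))
      ((EtCoh.stalk ξ).map (e.hom ≫ ιp p) w₀) =
      (EtCoh.stalk ξ).map (σ' U' (F.obj.map f.op t) hnt) w₀ := by
    rw [← hk]
    exact (stalk_comp_apply _ _ ξ w₀).symm
  refine h0.trans ?_
  have h1 := (Scheme.pointSmallEtale ξ).toPresheafFiber_naturality_apply
    (σ' U' (F.obj.map f.op t) hnt).hom U' y' (taut (n := n) U')
  refine h1.trans ?_
  rw [σ'_taut]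
  exact (Scheme.pointSmallEtale ξ).toPresheafFiber_w_apply f y' F.obj t

/-- a section of a presentation over an affine étale scheme which dies in `F` dies in a later
presentation -/
lemma exists_kill (p : PO F) (W : X.Etale) [IsAffine W.left] (c : p.P.obj.obj.obj (op W))
    (hc : p.f.hom.app (op W) c = 0) :
    ∃ (p' : PO F) (a : p ⟶ p'), a.g.hom.app (op W) c = 0 := by
  obtain ⟨n, hn, hk⟩ := EtConstrTorsion.exists_killedBy p.P.obj p.P.constructible
  have : NeZero n := ⟨hn.ne'⟩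
  have hσ : σ' W c (hk W c) ≫ p.f = 0 := by
    apply extZeroConst_hom_ext
    change p.f.hom.app (op W) ((σ' W c (hk W c)).hom.app (op W) (taut (n := n) W)) = 0
    rw [σ'_taut, hc]
  have hC : EtPBC.IsConstructible (cokernel (σ' W c (hk W c))) :=
    (constructible_kernel_cokernel _ (Groth.Agent.S0133.result X W (ZMod n)) p.P.constructible).2
  obtain ⟨p', e, he⟩ := exists_po (cokernel (σ' W c (hk W c))) hC (cokernel.desc _ p.f hσ)
  refine ⟨p', ⟨cokernel.π _ ≫ e.hom, ?_⟩, ?_⟩
  · rw [Category.assoc, he, cokernel.π_desc]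
  · change e.hom.hom.app (op W) ((cokernel.π (σ' W c (hk W c))).hom.app (op W) c) = 0
    have h1 : (cokernel.π (σ' W c (hk W c))).hom.app (op W) c =
        (σ' W c (hk W c) ≫ cokernel.π (σ' W c (hk W c))).hom.app (op W) (taut (n := n) W) := by
      change _ = (cokernel.π (σ' W c (hk W c))).hom.app (op W)
        ((σ' W c (hk W c)).hom.app (op W) (taut (n := n) W))
      rw [σ'_taut]
    rw [h1, cokernel.condition]
    exact map_zero _

theorem mono_desc : Mono (colimit.desc (D F) (coconeF F)) := by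
  apply mono_of_stalks_ab
  intro Ω _ _ ξ
  refine (injective_iff_map_eq_zero ((EtCoh.stalk ξ).map (colimit.desc (D F) (coconeF F))).hom).2 ?_
  intro w hw
  obtain ⟨p, wp, rfl⟩ := Concrete.isColimit_exists_rep (D F ⋙ EtCoh.stalk ξ)
    (isColimitOfPreserves (EtCoh.stalk ξ) (colimit.isColimit (D F))) w
  change (EtCoh.stalk ξ).map (colimit.desc (D F) (coconeF F)) ((EtCoh.stalk ξ).map (ιp p) wp) = 0 at hw
  change (EtCoh.stalk ξ).map (ιp p) wp = 0
  rw [← stalk_comp_apply, ιp_desc] at hw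
  obtain ⟨W, y, c, rfl⟩ := (Scheme.pointSmallEtale ξ).toPresheafFiber_jointly_surjective wp
  have h1 := (Scheme.pointSmallEtale ξ).toPresheafFiber_naturality_apply p.f.hom W y c
  have h2 : (Scheme.pointSmallEtale ξ).toPresheafFiber W y F.obj (p.f.hom.app (op W) c) =
      (Scheme.pointSmallEtale ξ).toPresheafFiber W y F.obj 0 := by
    rw [map_zero]
    exact h1.symm.trans hw
  obtain ⟨W', f, y', hy', hf⟩ := ((Scheme.pointSmallEtale ξ).toPresheafFiber_eq_iff' W y _ _).1 h2
  obtain ⟨W'', hW'', f', y'', hy''⟩ := exists_affine_refinement ξ W' y'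
  let c'' : p.P.obj.obj.obj (op W'') := p.P.obj.obj.map (f' ≫ f).op c
  have hc'' : p.f.hom.app (op W'') c'' = 0 := by
    have hn := congrArg (fun k => k.hom c) (p.f.hom.naturality (f' ≫ f).op)
    refine hn.trans ?_
    change F.obj.map (f' ≫ f).op (p.f.hom.app (op W) c) = 0
    have : F.obj.map (f' ≫ f).op (p.f.hom.app (op W) c) =
        F.obj.map f'.op (F.obj.map f.op (p.f.hom.app (op W) c)) := by
      rw [op_comp, CategoryTheory.Functor.map_comp]
      rfl
    rw [this, hf, map_zero, map_zero]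
  obtain ⟨p', a, ha⟩ := exists_kill p W'' c'' hc''
  rw [← ιp_w a, stalk_comp_apply]
  have h3 := (Scheme.pointSmallEtale ξ).toPresheafFiber_naturality_apply a.g.hom W y c
  have h4 : (Scheme.pointSmallEtale ξ).toPresheafFiber W y p'.P.obj.obj (a.g.hom.app (op W) c) = 0 := by
    have h5 := (Scheme.pointSmallEtale ξ).toPresheafFiber_w_apply (f' ≫ f) y'' p'.P.obj.obj
      (a.g.hom.app (op W) c)
    have h6 : (Scheme.pointSmallEtale ξ).fiber.map (f' ≫ f) y'' = y := by
      rw [CategoryTheory.Functor.map_comp]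
      change (Scheme.pointSmallEtale ξ).fiber.map f ((Scheme.pointSmallEtale ξ).fiber.map f' y'') = y
      rw [hy'', hy']
    rw [h6] at h5
    rw [← h5]
    have hn := congrArg (fun k => k.hom c) (a.g.hom.naturality (f' ≫ f).op)
    have h7 : p'.P.obj.obj.map (f' ≫ f).op (a.g.hom.app (op W) c) = 0 := hn.symm.trans ha
    rw [h7, map_zero]
  have h8 : (EtCoh.stalk ξ).map a.g ((Scheme.pointSmallEtale ξ).toPresheafFiber W y p.P.obj.obj c) = 0 :=
    h3.trans h4
  change (EtCoh.stalk ξ).map (ιp p')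
    ((EtCoh.stalk ξ).map a.g ((Scheme.pointSmallEtale ξ).toPresheafFiber W y p.P.obj.obj c)) = 0
  rw [h8, map_zero]

variable (F) in
/-- a torsion sheaf is the colimit of the presentations over it -/
noncomputable def isColimitCoconeF (hF : EtCoh.IsTorsion F) : IsColimit (coconeF F) := by
  have h1 := epi_desc hF
  have h2 := mono_desc (F := F)
  have : IsIso ((colimit.isColimit (D F)).desc (coconeF F)) :=
    isIso_of_mono_of_epi (colimit.desc (D F) (coconeF F))
  exact IsColimit.ofPointIso (colimit.isColimit (D F))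

end Colim

end Groth.Agent.Lib.Helper43.ConstrColim
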