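import Mathlib
import Groth.Prelude
import Groth.Agent.Lib.Helper43.ConstrColim

/-!
# Filtered colimits of constructible sheaves with extra properties

`exists_colimit_sub`: if every presentation over a torsion sheaf `F` maps to one with property `Pq`,
then `F` is the filtered colimit of the presentations with property `Pq`.
-/

set_option autoImplicit false
set_option linter.unusedSectionVars false
universe u
open CategoryTheory CategoryTheory.Limits AlgebraicGeometry Opposite Topology

namespace Groth.Agent.Lib.Helper43.ConstrColimSub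

open Groth.Agent.Lib.Helper43 Groth.Agent.Lib.Helper43.EtConstrStalk
  Groth.Agent.Lib.Helper43.EtConstrSerre Groth.Agent.Lib.Helper43.JShriekGen
  Groth.Agent.Lib.Helper43.ConstrColim Groth.Agent.Lib.Helper43.EtStalk
  Groth.Agent.Lib.Helper43.EtSupp

variable {X : Scheme.{u}} [CompactSpace X] [QuasiSeparatedSpace X] {F : EtCoh.Ab X}

/-- a germ of a presentation which dies in `F` dies in a later presentation -/
lemma exists_kill_germ (p : PO F) {Ω : Type u} [Field Ω] [IsSepClosed Ω]
    (ξ : Spec (CommRingCat.of Ω) ⟶ X) (x : (EtCoh.stalk ξ).obj p.P.obj)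
    (hx : (EtCoh.stalk ξ).map p.f x = 0) :
    ∃ (p' : PO F) (a : p ⟶ p'), (EtCoh.stalk ξ).map a.g x = 0 := by
  obtain ⟨W, y, c, rfl⟩ := (Scheme.pointSmallEtale ξ).toPresheafFiber_jointly_surjective x
  have h1 := (Scheme.pointSmallEtale ξ).toPresheafFiber_naturality_apply p.f.hom W y c
  have h2 : (Scheme.pointSmallEtale ξ).toPresheafFiber W y F.obj (p.f.hom.app (op W) c) =
      (Scheme.pointSmallEtale ξ).toPresheafFiber W y F.obj 0 := by
    rw [map_zero]
    exact h1.symm.trans hx
  obtain ⟨W', f, y', hy', hf⟩ := ((Scheme.pointSmallEtale ξ).toPresheafFiber_eq_iff' W y _ _).1 h2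
  obtain ⟨W'', hW'', f', y'', hy''⟩ := exists_affine_refinement ξ W' y'
  let c'' : p.P.obj.obj.obj (op W'') := p.P.obj.obj.map (f' ≫ f).op c
  have hc'' : p.f.hom.app (op W'') c'' = 0 := by
    have hn := congrArg (fun k => k.hom c) (p.f.hom.naturality (f' ≫ f).op)
    refine hn.trans ?_
    change F.obj.map (f' ≫ f).op (p.f.hom.app (op W) c) = 0
    have : F.obj.map (f' ≫ f).op (p.f.hom.app (op W) c) =
        F.obj.map f'.op (F.obj.map f.op (p.f.hom.app (op W) c)) := by
      rw [op_comp, CategoryTheory.Functor.map_comp]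
      rfl
    rw [this, hf, map_zero, map_zero]
  obtain ⟨p', a, ha⟩ := exists_kill p W'' c'' hc''
  refine ⟨p', a, ?_⟩
  have h3 := (Scheme.pointSmallEtale ξ).toPresheafFiber_naturality_apply a.g.hom W y c
  have h4 : (Scheme.pointSmallEtale ξ).toPresheafFiber W y p'.P.obj.obj (a.g.hom.app (op W) c) = 0 := by
    have h5 := (Scheme.pointSmallEtale ξ).toPresheafFiber_w_apply (f' ≫ f) y'' p'.P.obj.obj
      (a.g.hom.app (op W) c)
    have h6 : (Scheme.pointSmallEtale ξ).fiber.map (f' ≫ f) y'' = y := by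
      rw [CategoryTheory.Functor.map_comp]
      change (Scheme.pointSmallEtale ξ).fiber.map f ((Scheme.pointSmallEtale ξ).fiber.map f' y'') = y
      rw [hy'', hy']
    rw [h6] at h5
    rw [← h5]
    have hn := congrArg (fun k => k.hom c) (a.g.hom.naturality (f' ≫ f).op)
    have h7 : p'.P.obj.obj.map (f' ≫ f).op (a.g.hom.app (op W) c) = 0 := hn.symm.trans ha
    rw [h7, map_zero]
  exact h3.trans h4

lemma exists_kill_finset (p : PO F) {Ω : Type u} [Field Ω] [IsSepClosed Ω]
    (ξ : Spec (CommRingCat.of Ω) ⟶ X) (hz : IsZero ((EtCoh.stalk ξ).obj F))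
    (S : Finset ((EtCoh.stalk ξ).obj p.P.obj)) :
    ∃ (p' : PO F) (a : p ⟶ p'), ∀ x ∈ S, (EtCoh.stalk ξ).map a.g x = 0 := by
  classical
  induction S using Finset.induction_on with
  | empty => exact ⟨p, 𝟙 p, fun x hx => (Finset.notMem_empty x hx).elim⟩
  | insert x S _ ih =>
    obtain ⟨p', a, ha⟩ := ih
    have := AddCommGrpCat.subsingleton_of_isZero hz
    obtain ⟨p'', b, hb⟩ := exists_kill_germ p' ξ ((EtCoh.stalk ξ).map a.g x)
      (Subsingleton.elim _ _)
    refine ⟨p'', a ≫ b, fun z hzS => ?_⟩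
    change (EtCoh.stalk ξ).map (a.g ≫ b.g) z = 0
    rw [stalk_comp_apply]
    rcases Finset.mem_insert.1 hzS with rfl | hzS
    · exact hb
    · rw [ha z hzS, map_zero]

lemma exists_kill_stalk (p : PO F) {Ω : Type u} [Field Ω] [IsSepClosed Ω]
    (ξ : Spec (CommRingCat.of Ω) ⟶ X) (hz : IsZero ((EtCoh.stalk ξ).obj F)) :
    ∃ (p' : PO F) (a : p ⟶ p'), (EtCoh.stalk ξ).map a.g = 0 := by
  have hfin : Finite ((EtCoh.stalk ξ).obj p.P.obj) := finite_stalk p.P.obj p.P.constructible ξ
  have := Fintype.ofFinite ((EtCoh.stalk ξ).obj p.P.obj)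
  obtain ⟨p', a, ha⟩ := exists_kill_finset p ξ hz Finset.univ
  refine ⟨p', a, ?_⟩
  ext x
  exact ha x (Finset.mem_univ x)

lemma supp_subset_of_epi {A B : EtCoh.Ab X} (π : A ⟶ B) [Epi π] :
    EtPBC.supp B ⊆ EtPBC.supp A := by
  intro x hx
  rw [mem_supp_iff] at hx ⊢
  obtain ⟨Ω, _, _, ξ, hξ, hnz⟩ := hx
  refine ⟨Ω, inferInstance, inferInstance, ξ, hξ, fun hzA => hnz ?_⟩
  have hs := (epi_iff_stalks_ab π).1 inferInstance Ω ξ
  have h1 : Subsingleton ((EtCoh.stalk ξ).obj A) := AddCommGrpCat.subsingleton_of_isZero hzA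
  have h2 : Subsingleton ((EtCoh.stalk ξ).obj B) := by
    refine ⟨fun a b => ?_⟩
    obtain ⟨a', rfl⟩ := hs a
    obtain ⟨b', rfl⟩ := hs b
    rw [Subsingleton.elim a' b']
  exact AddCommGrpCat.isZero_of_subsingleton _

lemma supp_eq_of_iso {A B : EtCoh.Ab X} (e : A ≅ B) : EtPBC.supp A = EtPBC.supp B :=
  Set.Subset.antisymm (supp_subset_of_epi e.inv) (supp_subset_of_epi e.hom)

/-- the image of a morphism of presentations, as a presentation -/
lemma exists_image (p p' : PO F) (a : p ⟶ p') :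
    ∃ (q : PO F) (b : p ⟶ q) (_ : Epi b.g), Nonempty (q.P.obj ≅ Abelian.image a.g) := by
  have hI : EtPBC.IsConstructible (Abelian.image a.g) :=
    (constructible_kernel_cokernel (cokernel.π a.g) p'.P.constructible
      (constructible_kernel_cokernel a.g p.P.constructible p'.P.constructible).2).1
  obtain ⟨q, e, he⟩ := exists_po (Abelian.image a.g) hI (Abelian.image.ι a.g ≫ p'.f)
  refine ⟨q, ⟨Abelian.factorThruImage a.g ≫ e.hom, ?_⟩, ?_, ⟨e.symm⟩⟩
  · rw [Category.assoc, he, ← Category.assoc, Abelian.image.fac, a.w]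
  · change Epi (Abelian.factorThruImage a.g ≫ e.hom)
    infer_instance

/-- constructible sets not containing the generic point miss a neighbourhood of it -/
lemma nhds_genericPoint_of_isConstructible {T : Type*} [TopologicalSpace T] [IrreducibleSpace T]
    [QuasiSober T] {s : Set T} (hs : IsConstructible s) :
    (genericPoint T ∈ s → s ∈ 𝓝 (genericPoint T)) ∧
      (genericPoint T ∉ s → sᶜ ∈ 𝓝 (genericPoint T)) := by
  induction hs using IsConstructible.empty_union_induction with
  | open_retrocompact U hU _ =>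
    refine ⟨fun h => hU.mem_nhds h, fun h => ?_⟩
    have hU' : U = ∅ := by
      by_contra hne
      apply h
      rw [(genericPoint_spec T).mem_open_set_iff hU]
      simpa [Set.nonempty_iff_ne_empty] using hne
    rw [hU', Set.compl_empty]
    exact Filter.univ_mem
  | union s _ t _ hs' ht' =>
    refine ⟨fun h => ?_, fun h => ?_⟩
    · rcases h with h | h
      · exact Filter.mem_of_superset (hs'.1 h) Set.subset_union_left
      · exact Filter.mem_of_superset (ht'.1 h) Set.subset_union_right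
    · rw [Set.compl_union]
      exact Filter.inter_mem (hs'.2 fun h' => h (Or.inl h')) (ht'.2 fun h' => h (Or.inr h'))
  | compl s _ hs' =>
    refine ⟨fun h => hs'.2 h, fun h => ?_⟩
    rw [compl_compl]
    exact hs'.1 (by simpa using h)

section Sub

variable (F)

/-- the full subcategory of presentations with property `Pq` -/
abbrev POsub (Pq : ObjectProperty (PO F)) := Pq.FullSubcategory

variable {F}

theorem exists_colimit_sub (hF : EtCoh.IsTorsion F) (Pq : ObjectProperty (PO F))
    (h : ∀ p : PO F, ∃ q : PO F, Pq q ∧ Nonempty (p ⟶ q)) :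
    ∃ (J : Type (u + 1)) (_ : SmallCategory J) (_ : IsFiltered J) (D' : J ⥤ EtCoh.Ab X)
      (c : Cocone D') (_ : IsColimit c), Nonempty (c.pt ≅ F) ∧
      ∀ j, ∃ q : PO F, Pq q ∧ D'.obj j = q.P.obj := by
  have h' : ∀ d : PO F, ∃ c : Pq.FullSubcategory, Nonempty (d ⟶ Pq.ι.obj c) := by
    intro d
    obtain ⟨q, hq, ⟨f⟩⟩ := h d
    exact ⟨⟨q, hq⟩, ⟨f⟩⟩
  have hfil : IsFiltered Pq.FullSubcategory :=
    IsFiltered.of_exists_of_isFiltered_of_fullyFaithful Pq.ι h'
  have hfin : Pq.ι.Final := Functor.final_of_exists_of_isFiltered_of_fullyFaithful Pq.ι h'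
  exact ⟨Pq.FullSubcategory, inferInstance, hfil, Pq.ι ⋙ D F, (coconeF F).whisker Pq.ι,
    (Functor.Final.isColimitWhiskerEquiv Pq.ι (coconeF F)).symm (isColimitCoconeF F hF),
    ⟨Iso.refl _⟩, fun j => ⟨j.obj, j.property, rfl⟩⟩

end Sub

end Groth.Agent.Lib.Helper43.ConstrColimSub
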