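import Mathlib

/-!
# Epimorphisms of schemes from injectivity on sections (helper43)

* `epi_of_surjective_of_app_injective`: a morphism of schemes that is surjective on points and injective
  on sections over every open is an epimorphism in the category of schemes.
* `app_injective_SpecMap`: `Spec.map f` is injective on all sections when `f` is injective.
* `epi_SpecMap`: `Spec.map f` is an epimorphism when `f` is injective and surjective on spectra.
-/

set_option autoImplicit false
universe u
open CategoryTheory AlgebraicGeometry Opposite TopologicalSpace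

namespace Groth.Agent.Lib.Helper43
namespace SchemeEpi

lemma epi_of_surjective_of_app_injective {Y Z : Scheme.{u}} (φ : Y ⟶ Z)
    (hs : Function.Surjective φ) (hi : ∀ W : Z.Opens, Function.Injective (φ.app W)) : Epi φ := by
  constructor
  intro X a b e
  have hbase : a.base = b.base := by
    ext z
    obtain ⟨y, rfl⟩ := hs z
    have := congrArg (fun ψ : Y ⟶ X => ψ y) e
    simpa using this
  refine Scheme.Hom.ext hbase (fun U => ?_)
  have : Mono (φ.app (b ⁻¹ᵁ U)) := ConcreteCategory.mono_of_injective _ (hi _)
  rw [← cancel_mono (φ.app (b ⁻¹ᵁ U)), Category.assoc, ← Scheme.Hom.comp_app,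
    Scheme.Hom.congr_app e.symm U, Scheme.Hom.comp_app, φ.naturality]
  exact (Category.assoc _ _ _).symm

lemma appTop_injective_SpecMap {R S : CommRingCat.{u}} (f : R ⟶ S) (hf : Function.Injective f.hom) :
    Function.Injective (Spec.map f).appTop.hom := by
  have h1 : (Spec.map f).appTop = (Scheme.ΓSpecIso R).hom ≫ f ≫ (Scheme.ΓSpecIso S).inv := by
    rw [← Category.assoc, ← Scheme.ΓSpecIso_naturality, Category.assoc, Iso.hom_inv_id, Category.comp_id]
  rw [h1]
  intro x y hxy
  have h2 : Function.Injective (Scheme.ΓSpecIso S).inv.hom :=
    (ConcreteCategory.bijective_of_isIso (Scheme.ΓSpecIso S).inv).1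
  have h3 : Function.Injective (Scheme.ΓSpecIso R).hom.hom :=
    (ConcreteCategory.bijective_of_isIso (Scheme.ΓSpecIso R).hom).1
  exact h3 (hf (h2 hxy))

lemma app_injective_SpecMap {R S : CommRingCat.{u}} (f : R ⟶ S) (hf : Function.Injective f.hom)
    (W : (Spec R).Opens) : Function.Injective ((Spec.map f).app W) := by
  have : IsSchemeTheoreticallyDominant (Spec.map f) := by
    rw [isSchemeTheoreticallyDominant_iff, Scheme.ker_of_isAffine]
    have h0 : RingHom.ker (Spec.map f).appTop.hom = ⊥ :=
      (RingHom.injective_iff_ker_eq_bot _).1 (appTop_injective_SpecMap f hf)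
    rw [h0]
    exact map_bot (Scheme.IdealSheafData.equivOfIsAffine (X := Spec R)).symm
  exact (Spec.map f).app_injective W

/-- Spec of an injective ring map that is surjective on spectra is an epimorphism of schemes -/
lemma epi_SpecMap {R S : CommRingCat.{u}} (f : R ⟶ S) (hf : Function.Injective f.hom)
    (hs : Function.Surjective (PrimeSpectrum.comap f.hom)) : Epi (Spec.map f) :=
  epi_of_surjective_of_app_injective _ hs (app_injective_SpecMap f hf)

end SchemeEpi
end Groth.Agent.Lib.Helper43
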