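import Groth.Prelude.Def_LieS
import Groth.Agent.Lib.Helper43.SchemeEpi
import Mathlib

/-!
# Points with values in trivial square-zero extensions and the additivity of tangent vectors (helper43)

For an affine `S`-scheme `T = Spec B` and a `B`-module `M` we consider `Spec (B ⊕ M)` over `S`
(`tpt B f M`), contravariantly functorial in `M` (`tmap`).  The scheme `Spec (B ⊕ (B × B))` is the
push-out of two copies of the dual numbers over `T` along `T`; in particular morphisms out of it are
determined by their restrictions to the two copies (`tpt_prod_hom_ext`).  As a consequence, for a monoid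
scheme `X` over `S` and a dual-number point `w` of `X` restricting to the unit section,
`b ↦ w(bε)` is additive (`scale_add`).
-/

set_option autoImplicit false
universe u
open CategoryTheory AlgebraicGeometry Opposite TopologicalSpace Limits

namespace Groth.Agent.Lib.Helper43
namespace SchemeEpi

/-- two ring maps out of `R` that are jointly injective and (the first one) surjective on spectra induce
a jointly epimorphic pair of morphisms of schemes -/
lemma hom_ext_of_pair {R A₁ A₂ : Type u} [CommRing R] [CommRing A₁] [CommRing A₂]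
    (j₁ : R →+* A₁) (j₂ : R →+* A₂)
    (hinj : ∀ x, j₁ x = 0 → j₂ x = 0 → x = 0)
    (hsurj : ∀ p : PrimeSpectrum R, ∃ q, PrimeSpectrum.comap j₁ q = p)
    {X : Scheme.{u}} (a b : Spec (CommRingCat.of R) ⟶ X)
    (h₁ : Spec.map (CommRingCat.ofHom j₁) ≫ a = Spec.map (CommRingCat.ofHom j₁) ≫ b)
    (h₂ : Spec.map (CommRingCat.ofHom j₂) ≫ a = Spec.map (CommRingCat.ofHom j₂) ≫ b) : a = b := by
  let j : R →+* A₁ × A₂ := j₁.prod j₂
  have hepi : Epi (Spec.map (CommRingCat.ofHom j)) := by
    apply epi_SpecMap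
    · intro x y hxy
      have hxy' : j x = j y := hxy
      have h0 : j (x - y) = 0 := by rw [map_sub, hxy', sub_self]
      have h1 : j₁ (x - y) = 0 := congrArg Prod.fst h0
      have h2 : j₂ (x - y) = 0 := congrArg Prod.snd h0
      exact sub_eq_zero.1 (hinj _ h1 h2)
    · intro p
      obtain ⟨q, hq⟩ := hsurj p
      refine ⟨PrimeSpectrum.comap (RingHom.fst A₁ A₂) q, ?_⟩
      rw [← hq]
      rfl
  have e1 : Spec.map (CommRingCat.ofHom (RingHom.fst A₁ A₂)) ≫ Spec.map (CommRingCat.ofHom j) =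
      Spec.map (CommRingCat.ofHom j₁) := by
    rw [← Spec.map_comp]; rfl
  have e2 : Spec.map (CommRingCat.ofHom (RingHom.snd A₁ A₂)) ≫ Spec.map (CommRingCat.ofHom j) =
      Spec.map (CommRingCat.ofHom j₂) := by
    rw [← Spec.map_comp]; rfl
  rw [← cancel_epi (Spec.map (CommRingCat.ofHom j)), ← cancel_epi (coprodSpec A₁ A₂)]
  apply coprod.hom_ext
  · simp only [coprodSpec_inl_assoc]
    rw [← Category.assoc, e1, ← Category.assoc, e1]
    exact h₁
  · simp only [coprodSpec_inr_assoc]
    rw [← Category.assoc, e2, ← Category.assoc, e2]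
    exact h₂

end SchemeEpi

namespace DualPush

open LieS

noncomputable section

section Rings

variable {B : Type u} [CommRing B] {M N P : Type u} [AddCommGroup M] [Module B M]
  [Module Bᵐᵒᵖ M] [IsCentralScalar B M]
  [AddCommGroup N] [Module B N] [Module Bᵐᵒᵖ N] [IsCentralScalar B N]
  [AddCommGroup P] [Module B P] [Module Bᵐᵒᵖ P] [IsCentralScalar B P]

/-- an endomorphism `map ℓ` of `B ⊕ M` induces the identity on the prime spectrum -/
lemma comap_map_eq (ℓ : M →ₗ[B] M) (p : PrimeSpectrum (TrivSqZeroExt B M)) :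
    PrimeSpectrum.comap (TrivSqZeroExt.map ℓ).toRingHom p = p := by
  apply PrimeSpectrum.ext
  ext x
  have hn : ∀ m : M, (TrivSqZeroExt.inr m : TrivSqZeroExt B M) ∈ p.asIdeal := by
    intro m
    apply p.isPrime.mem_of_pow_mem 2
    rw [pow_two, TrivSqZeroExt.inr_mul_inr]
    exact p.asIdeal.zero_mem
  have hx : TrivSqZeroExt.map ℓ x = x + TrivSqZeroExt.inr (ℓ x.snd - x.snd) := by
    apply TrivSqZeroExt.ext
    · simp
    · simp
  change TrivSqZeroExt.map ℓ x ∈ p.asIdeal ↔ x ∈ p.asIdeal
  constructor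
  · intro h
    have : x = TrivSqZeroExt.map ℓ x - TrivSqZeroExt.inr (ℓ x.snd - x.snd) := by
      rw [hx]; ring
    rw [this]
    exact p.asIdeal.sub_mem h (hn _)
  · intro h
    rw [hx]
    exact p.asIdeal.add_mem h (hn _)

end Rings

section Schemes

variable {S : Scheme.{u}} (B : Type u) [CommRing B] (f : Spec (CommRingCat.of B) ⟶ S)

/-- `Spec (B ⊕ M)` as a scheme over `S` -/
def tpt (M : Type u) [AddCommGroup M] [Module B M] [Module Bᵐᵒᵖ M] [IsCentralScalar B M] : Over S :=
  Over.mk (Spec.map (CommRingCat.ofHom (algebraMap B (TrivSqZeroExt B M))) ≫ f)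

variable {M N P : Type u} [AddCommGroup M] [Module B M]
  [Module Bᵐᵒᵖ M] [IsCentralScalar B M]
  [AddCommGroup N] [Module B N] [Module Bᵐᵒᵖ N] [IsCentralScalar B N]
  [AddCommGroup P] [Module B P] [Module Bᵐᵒᵖ P] [IsCentralScalar B P]

/-- the morphism `Spec (B ⊕ N) ⟶ Spec (B ⊕ M)` over `S` induced by a linear map `M → N` -/
def tmap (ℓ : M →ₗ[B] N) : tpt B f N ⟶ tpt B f M :=
  Over.homMk (Spec.map (CommRingCat.ofHom (TrivSqZeroExt.map ℓ).toRingHom)) (by
    change Spec.map _ ≫ Spec.map _ ≫ f = Spec.map _ ≫ f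
    rw [← Category.assoc, specMap_comp]
    congr 3
    exact (TrivSqZeroExt.map ℓ).comp_algebraMap)

lemma tmap_left (ℓ : M →ₗ[B] N) :
    (tmap B f ℓ).left = Spec.map (CommRingCat.ofHom (TrivSqZeroExt.map ℓ).toRingHom) := rfl

lemma tmap_comp (ℓ : M →ₗ[B] N) (k : N →ₗ[B] P) :
    tmap B f k ≫ tmap B f ℓ = tmap B f (k ∘ₗ ℓ) := by
  ext
  change Spec.map _ ≫ Spec.map _ = Spec.map _
  rw [specMap_comp]
  congr 2
  exact (congrArg AlgHom.toRingHom (TrivSqZeroExt.map_comp_map ℓ k)).symm

lemma tmap_id : tmap B f (LinearMap.id : M →ₗ[B] M) = 𝟙 _ := by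
  ext
  change Spec.map _ = 𝟙 _
  rw [TrivSqZeroExt.map_id]
  exact Spec.map_id _

/-- morphisms out of `Spec (B ⊕ (M × N))` are determined by their restrictions to `Spec (B ⊕ M)`
and `Spec (B ⊕ N)` -/
lemma tpt_prod_hom_ext {X : Over S} (a b : tpt B f (M × N) ⟶ X)
    (h₁ : tmap B f (LinearMap.fst B M N) ≫ a = tmap B f (LinearMap.fst B M N) ≫ b)
    (h₂ : tmap B f (LinearMap.snd B M N) ≫ a = tmap B f (LinearMap.snd B M N) ≫ b) : a = b := by
  ext
  apply SchemeEpi.hom_ext_of_pair (TrivSqZeroExt.map (LinearMap.fst B M N)).toRingHom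
    (TrivSqZeroExt.map (LinearMap.snd B M N)).toRingHom
  · intro x hx1 hx2
    have e1 : x.fst = 0 := by
      have := congrArg TrivSqZeroExt.fst hx1
      simpa using this
    have e2 : x.snd.1 = 0 := by
      have := congrArg TrivSqZeroExt.snd hx1
      simpa using this
    have e3 : x.snd.2 = 0 := by
      have := congrArg TrivSqZeroExt.snd hx2
      simpa using this
    apply TrivSqZeroExt.ext
    · exact e1
    · exact Prod.ext e2 e3
  · intro p
    refine ⟨PrimeSpectrum.comap (TrivSqZeroExt.map (LinearMap.inl B M N)).toRingHom p, ?_⟩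
    have := comap_map_eq ((LinearMap.inl B M N) ∘ₗ (LinearMap.fst B M N)) p
    rw [TrivSqZeroExt.map_comp_map] at this
    exact this
  · exact congrArg CommaMorphism.left h₁
  · exact congrArg CommaMorphism.left h₂

end Schemes

section Monoid

open MonObj

variable {S : Scheme.{u}} (B : Type u) [CommRing B] (f : Spec (CommRingCat.of B) ⟶ S)

/-- `LieS.zeroSec`, with target written as `tpt B f B` -/
def zs : pt B f ⟶ tpt B f B := zeroSec B f

/-- `LieS.proj`, with source written as `tpt B f B` -/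
def pr : tpt B f B ⟶ pt B f := proj B f

/-- `LieS.scale`, as an endomorphism of `tpt B f B` -/
def sc (b : B) : tpt B f B ⟶ tpt B f B := scale B f b

/-- `proj ≫ zeroSec` is induced by the zero endomorphism of the dual coordinate -/
lemma pr_zs : pr B f ≫ zs B f = tmap B f (0 : B →ₗ[B] B) := by
  ext
  change Spec.map _ ≫ Spec.map _ = Spec.map _
  rw [specMap_comp]
  congr 2
  apply RingHom.ext
  intro x
  apply TrivSqZeroExt.ext
  · simp [TrivSqZeroExt.algebraMap_eq_inl]
  · simp [TrivSqZeroExt.algebraMap_eq_inl]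

/-- rescaling the dual coordinate is induced by multiplication by `b` on `ε` -/
lemma sc_eq (b : B) : sc B f b = tmap B f (b • LinearMap.id : B →ₗ[B] B) := by
  ext
  change Spec.map _ = Spec.map _
  congr 2
  apply RingHom.ext
  intro x
  apply TrivSqZeroExt.ext
  · simp [scaleHom, TrivSqZeroExt.algebraMap_eq_inl]
  · simp [scaleHom, TrivSqZeroExt.algebraMap_eq_inl, mul_comm]

variable {M : Type u} [AddCommGroup M] [Module B M] [Module Bᵐᵒᵖ M] [IsCentralScalar B M]
variable {X : Over S} [MonObj X]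

lemma tmap_zero_comp (w : tpt B f B ⟶ X) (hw : zs B f ≫ w = 1) :
    tmap B f (0 : B →ₗ[B] M) ≫ w = 1 := by
  have h0 : (0 : B →ₗ[B] M) = (0 : B →ₗ[B] M) ∘ₗ (0 : B →ₗ[B] B) := by simp
  rw [h0, ← tmap_comp, ← pr_zs, Category.assoc, Category.assoc, hw, comp_one, comp_one]

/-- the two "coordinate" pull-backs of `w` multiply to the pull-back along the sum of coordinates -/
lemma add_lemma (w : tpt B f B ⟶ X) (hw : zs B f ≫ w = 1) :
    (tmap B f (LinearMap.inl B B B) ≫ w) * (tmap B f (LinearMap.inr B B B) ≫ w) =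
      tmap B f (LinearMap.inl B B B + LinearMap.inr B B B) ≫ w := by
  apply tpt_prod_hom_ext
  · rw [comp_mul, ← Category.assoc, ← Category.assoc, ← Category.assoc, tmap_comp, tmap_comp,
      tmap_comp, LinearMap.comp_add, LinearMap.fst_comp_inl, LinearMap.fst_comp_inr, add_zero,
      tmap_id, Category.id_comp, tmap_zero_comp B f w hw, _root_.mul_one]
  · rw [comp_mul, ← Category.assoc, ← Category.assoc, ← Category.assoc, tmap_comp, tmap_comp,
      tmap_comp, LinearMap.comp_add, LinearMap.snd_comp_inl, LinearMap.snd_comp_inr, zero_add,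
      tmap_id, Category.id_comp, tmap_zero_comp B f w hw, _root_.one_mul]

lemma tmap_add (w : tpt B f B ⟶ X) (hw : zs B f ≫ w = 1) (ℓ₁ ℓ₂ : B →ₗ[B] B) :
    (tmap B f ℓ₁ ≫ w) * (tmap B f ℓ₂ ≫ w) = tmap B f (ℓ₁ + ℓ₂) ≫ w := by
  have h := congrArg (fun a => tmap B f (LinearMap.coprod ℓ₁ ℓ₂) ≫ a) (add_lemma B f w hw)
  simp only [comp_mul, ← Category.assoc, tmap_comp, LinearMap.comp_add, LinearMap.coprod_inl,
    LinearMap.coprod_inr] at h
  exact h

lemma sc_mul_sc (w : tpt B f B ⟶ X) (hw : zs B f ≫ w = 1) (b c : B) :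
    (sc B f b ≫ w) * (sc B f c ≫ w) = sc B f (b + c) ≫ w := by
  rw [sc_eq, sc_eq, sc_eq, tmap_add B f w hw, add_smul]

lemma sc_zero_comp (w : tpt B f B ⟶ X) (hw : zs B f ≫ w = 1) : sc B f 0 ≫ w = 1 := by
  rw [sc_eq, zero_smul]
  exact tmap_zero_comp B f w hw

omit [MonObj X] in
lemma sc_one_comp (w : tpt B f B ⟶ X) : sc B f 1 ≫ w = w := by
  rw [sc_eq, one_smul, tmap_id, Category.id_comp]

/-- for a dual-number point `w` of the monoid scheme `X` restricting to the unit section,
`w(bε) * w(cε) = w((b+c)ε)` -/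
lemma scale_mul_scale (w : dpt B f ⟶ X) (hw : zeroSec B f ≫ w = 1) (b c : B) :
    (scale B f b ≫ w) * (scale B f c ≫ w) = scale B f (b + c) ≫ w :=
  sc_mul_sc B f w hw b c

lemma scale_zero_comp (w : dpt B f ⟶ X) (hw : zeroSec B f ≫ w = 1) : scale B f 0 ≫ w = 1 :=
  sc_zero_comp B f w hw

omit [MonObj X] in
lemma scale_one_comp (w : dpt B f ⟶ X) : scale B f 1 ≫ w = w :=
  sc_one_comp B f w

/-- `b ↦ w(bε)`, as a monoid homomorphism from the additive group of `B` -/
def scaleHomMul (w : dpt B f ⟶ X) (hw : zeroSec B f ≫ w = 1) :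
    Multiplicative B →* (dpt B f ⟶ X) where
  toFun b := scale B f (Multiplicative.toAdd b) ≫ w
  map_one' := scale_zero_comp B f w hw
  map_mul' _ _ := (scale_mul_scale B f w hw _ _).symm

end Monoid

end

end DualPush
end Groth.Agent.Lib.Helper43
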