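import Mathlib
import Groth.Prelude
import Groth.Agent.S0099
import Groth.Agent.Lib.Helper43.EtStalk
import Groth.Agent.Lib.Helper43.EtOverEquiv

/-!
# Finitely presentable (compact) objects among abelian étale sheaves
-/

set_option autoImplicit false
universe u
open CategoryTheory CategoryTheory.Limits AlgebraicGeometry Opposite

namespace Groth.Agent.Lib.Helper43.EtCompact

open Groth.Agent.Lib.Helper43 Groth.Agent.Lib.Helper43.EtStalk Cardinal

attribute [local instance] Cardinal.fact_isRegular_aleph0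

section ConstZ

variable (Y : Scheme.{u})

/-- `Hom(ℤ, -)` is degree zero cohomology -/
noncomputable def coyonedaConstIso :
    EtCoh.HF Y 0 ⋙ forget AddCommGrpCat.{u + 1} ≅ coyoneda.obj (op (EtCoh.const Y ℤ)) :=
  NatIso.ofComponents (fun G => Equiv.toIso (Abelian.Ext.homEquiv₀ (X := EtCoh.const Y ℤ) (Y := G)))
    (by
      intro G G' f
      ext x
      exact Sheaf.H.addEquiv₀_map f x)

theorem fp_constZ [CompactSpace Y] [QuasiSeparatedSpace Y] :
    IsFinitelyPresentable.{u} (EtCoh.const Y ℤ) := by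
  rw [isFinitelyPresentable_iff_preservesFilteredColimitsOfSize]
  constructor
  intro J _ _
  have h1 : PreservesColimitsOfShape J (EtCoh.HF Y 0) := Groth.Agent.S0099.result Y 0 J
  have h2 : PreservesColimitsOfShape J (forget AddCommGrpCat.{u + 1}) :=
    forgetPresFiltered.preserves_filtered_colimits J
  exact preservesColimitsOfShape_of_natIso (coyonedaConstIso Y)

end ConstZ

section ZModCokernel

variable (n : ℕ)

/-- `ℤ` in the big universe -/
abbrev Zu : AddCommGrpCat.{u + 1} := AddCommGrpCat.of (ULift.{u + 1} ℤ)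

/-- `ℤ/n` in the big universe -/
abbrev Zn : AddCommGrpCat.{u + 1} := AddCommGrpCat.of (ULift.{u + 1} (ZMod n))

/-- the quotient map `ℤ → ℤ/n` -/
def q : Zu.{u} ⟶ Zn.{u} n :=
  AddCommGrpCat.ofHom (AddEquiv.ulift.symm.toAddMonoidHom.comp
    ((Int.castAddHom (ZMod n)).comp AddEquiv.ulift.toAddMonoidHom))

lemma q_apply (k : ℤ) : q.{u} n ⟨k⟩ = ⟨(k : ZMod n)⟩ := rfl

lemma nsmul_q : (n • 𝟙 Zu.{u}) ≫ q.{u} n = 0 := by
  apply AddCommGrpCat.hom_ext
  apply AddMonoidHom.ext
  rintro ⟨k⟩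
  have h0 : ((n • 𝟙 Zu.{u}) ≫ q.{u} n) ⟨k⟩ = q.{u} n (n • (ULift.up k : ULift.{u + 1} ℤ)) := rfl
  have : n • (ULift.up k : ULift.{u + 1} ℤ) = ⟨n * k⟩ := by
    apply ULift.ext
    simp
  refine h0.trans ?_
  rw [this, q_apply]
  apply ULift.ext
  simp

/-- the argument of `ZMod.lift` -/
def liftArg {A : AddCommGrpCat.{u + 1}} (g : Zu.{u} ⟶ A) (hg : (n • 𝟙 Zu.{u}) ≫ g = 0) :
    {f : ℤ →+ A // f n = 0} :=
  ⟨g.hom.comp AddEquiv.ulift.symm.toAddMonoidHom, by
    have h := congrArg (fun k => k.hom (⟨1⟩ : ULift.{u + 1} ℤ)) hg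
    have h2 : n • (ULift.up 1 : ULift.{u + 1} ℤ) = ⟨(n : ℤ)⟩ := by
      apply ULift.ext
      simp
    change g.hom (n • (ULift.up 1 : ULift.{u + 1} ℤ)) = 0 at h
    rw [h2] at h
    exact h⟩

/-- the induced map out of `ℤ/n` -/
def qDesc {A : AddCommGrpCat.{u + 1}} (g : Zu.{u} ⟶ A) (hg : (n • 𝟙 Zu.{u}) ≫ g = 0) :
    Zn.{u} n ⟶ A :=
  AddCommGrpCat.ofHom ((ZMod.lift n (liftArg n g hg)).comp AddEquiv.ulift.toAddMonoidHom)

lemma qDesc_apply {A : AddCommGrpCat.{u + 1}} (g : Zu.{u} ⟶ A) (hg : (n • 𝟙 Zu.{u}) ≫ g = 0)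
    (x : ZMod n) : qDesc n g hg ⟨x⟩ = ZMod.lift n (liftArg n g hg) x := rfl

lemma q_qDesc {A : AddCommGrpCat.{u + 1}} (g : Zu.{u} ⟶ A) (hg : (n • 𝟙 Zu.{u}) ≫ g = 0) :
    q.{u} n ≫ qDesc n g hg = g := by
  apply AddCommGrpCat.hom_ext
  apply AddMonoidHom.ext
  rintro ⟨k⟩
  have h0 : (q.{u} n ≫ qDesc n g hg) ⟨k⟩ = qDesc n g hg (q.{u} n ⟨k⟩) := rfl
  refine h0.trans ?_
  rw [q_apply, qDesc_apply, ZMod.lift_coe]
  rfl

/-- `ℤ/n` is the cokernel of multiplication by `n` on `ℤ` -/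
def isColimitQ : IsColimit (CokernelCofork.ofπ (q.{u} n) (nsmul_q n)) :=
  CokernelCofork.IsColimit.ofπ _ _ (fun g hg => qDesc n g hg) (fun g hg => q_qDesc n g hg)
    (fun g hg m hm => by
      apply AddCommGrpCat.hom_ext
      apply AddMonoidHom.ext
      rintro ⟨x⟩
      obtain ⟨k, rfl⟩ := ZMod.intCast_surjective x
      have h1 := congrArg (fun t => t.hom (⟨k⟩ : ULift.{u + 1} ℤ)) hm
      have h2 := congrArg (fun t => t.hom (⟨k⟩ : ULift.{u + 1} ℤ)) (q_qDesc n g hg)
      exact h1.trans h2.symm)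

end ZModCokernel

section FP

variable {X : Scheme.{u}}

/-- the constant sheaf functor is a left adjoint -/
noncomputable def constAdj (Y : Scheme.{u}) :
    constantSheaf Y.smallEtaleTopology AddCommGrpCat.{u + 1} ⊣
      (sheafSections Y.smallEtaleTopology AddCommGrpCat.{u + 1}).obj (op (EtCoh.top Y)) :=
  constantSheafAdj Y.smallEtaleTopology AddCommGrpCat.{u + 1} (EtCore.topIsTerminal Y)

theorem fp_const_zmod (Y : Scheme.{u}) [CompactSpace Y] [QuasiSeparatedSpace Y] (n : ℕ) :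
    IsFinitelyPresentable.{u} (EtCoh.const Y (ZMod n)) := by
  have : (constantSheaf Y.smallEtaleTopology AddCommGrpCat.{u + 1}).IsLeftAdjoint :=
    (constAdj Y).isLeftAdjoint
  have hc := isColimitOfPreserves (constantSheaf Y.smallEtaleTopology AddCommGrpCat.{u + 1})
    (isColimitQ.{u} n)
  have hk : ∀ k, IsCardinalPresentable
      ((parallelPair (n • 𝟙 Zu.{u}) 0 ⋙
        constantSheaf Y.smallEtaleTopology AddCommGrpCat.{u + 1}).obj k) (ℵ₀ : Cardinal.{u}) := by
    intro k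
    cases k <;> exact fp_constZ Y
  exact isCardinalPresentable_of_isColimit' _ hc (ℵ₀ : Cardinal.{u})
    (by rw [hasCardinalLT_aleph0_iff]; infer_instance)

/-- `j_! ℤ/n` is finitely presentable for `U` quasi-compact quasi-separated -/
theorem fp_extZeroConst (U : X.Etale) [CompactSpace U.left] [QuasiSeparatedSpace U.left] (n : ℕ) :
    IsFinitelyPresentable.{u} (EtPBC.extZeroConst U (ZMod n)) := by
  have : EtShriek.JCont (EtOverEquiv.jU U) := Groth.Agent.Lib.Helper4.EtRestr.jCont _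
  have h1 : IsCardinalPresentable (EtCoh.const U.left (ZMod n)) (ℵ₀ : Cardinal.{u}) :=
    fp_const_zmod U.left n
  have : (EtShriek.restrAlong (EtOverEquiv.jU U)).IsLeftAdjoint :=
    (Groth.Agent.Lib.Helper4.EtRestr.adjR (EtOverEquiv.jU U)).isLeftAdjoint
  have h2 := (EtShriek.extZeroAdj (EtOverEquiv.jU U)).isCardinalPresentable_leftAdjoint_obj
    (ℵ₀ : Cardinal.{u}) (EtCoh.const U.left (ZMod n))
  exact isCardinalPresentable_of_iso (EtOverEquiv.extZeroConstIso U (ZMod n)).symm _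

/-- finite direct sums of finitely presentable objects -/
theorem fp_biproduct {b : ℕ} (A : Fin b → EtCoh.Ab X)
    (h : ∀ i, IsFinitelyPresentable.{u} (A i)) : IsFinitelyPresentable.{u} (⨁ A) := by
  have hk : ∀ k, IsCardinalPresentable ((Discrete.functor A).obj k) (ℵ₀ : Cardinal.{u}) :=
    fun k => h k.as
  exact isCardinalPresentable_of_isColimit' _ (biproduct.isColimit A) (ℵ₀ : Cardinal.{u})
    (by rw [hasCardinalLT_aleph0_iff]; infer_instance)

/-- cokernels of maps between finitely presentable objects -/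
theorem fp_cokernel {A B : EtCoh.Ab X} (φ : A ⟶ B) (hA : IsFinitelyPresentable.{u} A)
    (hB : IsFinitelyPresentable.{u} B) : IsFinitelyPresentable.{u} (cokernel φ) := by
  have hk : ∀ k, IsCardinalPresentable ((parallelPair φ 0).obj k) (ℵ₀ : Cardinal.{u}) := by
    intro k
    cases k
    · exact hA
    · exact hB
  exact isCardinalPresentable_of_isColimit' _ (cokernelIsCokernel φ) (ℵ₀ : Cardinal.{u})
    (by rw [hasCardinalLT_aleph0_iff]; infer_instance)

end FP

end Groth.Agent.Lib.Helper43.EtCompact
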