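import Mathlib
import Groth.Prelude
import Groth.Agent.S0099
import Groth.Agent.Lib.Helper43.EtCompact
import Groth.Agent.S3508
import Groth.Agent.Lib.Helper43.EtStalk
import Groth.Agent.Lib.Helper43.EtOverEquiv

/-!
# Finitely presentable (compact) objects among abelian étale sheaves, for index categories in `Type (u+1)`
-/

set_option autoImplicit false
universe u
open CategoryTheory CategoryTheory.Limits AlgebraicGeometry Opposite

namespace Groth.Agent.Lib.Helper43.EtCompact1

open Groth.Agent.Lib.Helper43 Groth.Agent.Lib.Helper43.EtStalk Cardinal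

attribute [local instance] Cardinal.fact_isRegular_aleph0

open Groth.Agent.Lib.Helper43.EtCompact (Zu Zn q nsmul_q isColimitQ coyonedaConstIso constAdj)

section ConstZ

variable (Y : Scheme.{u})

theorem fp_constZ [CompactSpace Y] [QuasiSeparatedSpace Y] :
    IsFinitelyPresentable.{u + 1} (EtCoh.const Y ℤ) := by
  rw [isFinitelyPresentable_iff_preservesFilteredColimitsOfSize]
  constructor
  intro J _ _
  have h1 : PreservesColimitsOfShape J (EtCoh.HF Y 0) :=
    Groth.Agent.Lib.Helper4.EtaleTransfer.preservesColimitsOfShape_functorH Y 0 J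
  have h2 : PreservesColimitsOfShape J (forget AddCommGrpCat.{u + 1}) := inferInstance
  exact preservesColimitsOfShape_of_natIso (coyonedaConstIso Y)

end ConstZ


section FP

variable {X : Scheme.{u}}

theorem fp_const_zmod (Y : Scheme.{u}) [CompactSpace Y] [QuasiSeparatedSpace Y] (n : ℕ) :
    IsFinitelyPresentable.{u + 1} (EtCoh.const Y (ZMod n)) := by
  have : (constantSheaf Y.smallEtaleTopology AddCommGrpCat.{u + 1}).IsLeftAdjoint :=
    (constAdj Y).isLeftAdjoint
  have hc := isColimitOfPreserves (constantSheaf Y.smallEtaleTopology AddCommGrpCat.{u + 1})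
    (isColimitQ.{u} n)
  have hk : ∀ k, IsCardinalPresentable
      ((parallelPair (n • 𝟙 Zu.{u}) 0 ⋙
        constantSheaf Y.smallEtaleTopology AddCommGrpCat.{u + 1}).obj k) (ℵ₀ : Cardinal.{u + 1}) := by
    intro k
    cases k <;> exact fp_constZ Y
  exact isCardinalPresentable_of_isColimit' _ hc (ℵ₀ : Cardinal.{u + 1})
    (by rw [hasCardinalLT_aleph0_iff]; infer_instance)

/-- `j_! ℤ/n` is finitely presentable for `U` quasi-compact quasi-separated -/
theorem fp_extZeroConst (U : X.Etale) [CompactSpace U.left] [QuasiSeparatedSpace U.left] (n : ℕ) :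
    IsFinitelyPresentable.{u + 1} (EtPBC.extZeroConst U (ZMod n)) := by
  have : EtShriek.JCont (EtOverEquiv.jU U) := Groth.Agent.Lib.Helper4.EtRestr.jCont _
  have h1 : IsCardinalPresentable (EtCoh.const U.left (ZMod n)) (ℵ₀ : Cardinal.{u + 1}) :=
    fp_const_zmod U.left n
  have : (EtShriek.restrAlong (EtOverEquiv.jU U)).IsLeftAdjoint :=
    (Groth.Agent.Lib.Helper4.EtRestr.adjR (EtOverEquiv.jU U)).isLeftAdjoint
  have h2 := (EtShriek.extZeroAdj (EtOverEquiv.jU U)).isCardinalPresentable_leftAdjoint_obj
    (ℵ₀ : Cardinal.{u + 1}) (EtCoh.const U.left (ZMod n))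
  exact isCardinalPresentable_of_iso (EtOverEquiv.extZeroConstIso U (ZMod n)).symm _

/-- finite direct sums of finitely presentable objects -/
theorem fp_biproduct {b : ℕ} (A : Fin b → EtCoh.Ab X)
    (h : ∀ i, IsFinitelyPresentable.{u + 1} (A i)) : IsFinitelyPresentable.{u + 1} (⨁ A) := by
  have hk : ∀ k, IsCardinalPresentable ((Discrete.functor A).obj k) (ℵ₀ : Cardinal.{u + 1}) :=
    fun k => h k.as
  exact isCardinalPresentable_of_isColimit' _ (biproduct.isColimit A) (ℵ₀ : Cardinal.{u + 1})
    (by rw [hasCardinalLT_aleph0_iff]; infer_instance)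

/-- cokernels of maps between finitely presentable objects -/
theorem fp_cokernel {A B : EtCoh.Ab X} (φ : A ⟶ B) (hA : IsFinitelyPresentable.{u + 1} A)
    (hB : IsFinitelyPresentable.{u + 1} B) : IsFinitelyPresentable.{u + 1} (cokernel φ) := by
  have hk : ∀ k, IsCardinalPresentable ((parallelPair φ 0).obj k) (ℵ₀ : Cardinal.{u + 1}) := by
    intro k
    cases k
    · exact hA
    · exact hB
  exact isCardinalPresentable_of_isColimit' _ (cokernelIsCokernel φ) (ℵ₀ : Cardinal.{u + 1})
    (by rw [hasCardinalLT_aleph0_iff]; infer_instance)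

end FP

/-- a constructible abelian sheaf on a qcqs scheme is finitely presentable w.r.t. filtered
categories in `Type (u+1)` -/
theorem isFinitelyPresentable (X : Scheme.{u}) [CompactSpace X] [QuasiSeparatedSpace X]
    (F : EtCoh.Ab X) (hF : EtPBC.IsConstructible F) : IsFinitelyPresentable.{u + 1} F := by
  obtain ⟨a, b, U, V, n, m, hU, hV, φ, ⟨e⟩⟩ := (Groth.Agent.S3508.result X F).1 hF
  have hc : IsCardinalPresentable (cokernel φ) (ℵ₀ : Cardinal.{u + 1}) := by
    apply fp_cokernel
    · apply fp_biproduct
      intro j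
      have := (hV j).2
      exact fp_extZeroConst (V j) (m j)
    · apply fp_biproduct
      intro i
      have := (hU i).2
      exact fp_extZeroConst (U i) (n i)
  exact isCardinalPresentable_of_iso e.symm _

/-- `Hom(F, -)` commutes with filtered colimits indexed by `J : Type (u+1)` -/
theorem preservesColimitsOfShape_coyoneda (X : Scheme.{u}) [CompactSpace X] [QuasiSeparatedSpace X]
    (F : EtCoh.Ab X) (hF : EtPBC.IsConstructible F) (J : Type (u + 1)) [SmallCategory J]
    [IsFiltered J] : PreservesColimitsOfShape J (coyoneda.obj (op F)) := by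
  have h := isFinitelyPresentable X F hF
  rw [isFinitelyPresentable_iff_preservesFilteredColimitsOfSize] at h
  exact h.preserves_filtered_colimits J

end Groth.Agent.Lib.Helper43.EtCompact1
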