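import Mathlib
import Groth.Prelude
import Groth.Agent.Lib.Helper43.EtSubFLC
import Groth.Agent.Lib.Helper43.EtSurjDescent
import Groth.Agent.Lib.Helper43.EtConstr
import Groth.Agent.Lib.Helper43.EtConstrStalk
import Groth.Agent.Lib.Helper6.EtPullExact

/-!
# Ascending chains of subsheaves of a constructible sheaf on a Noetherian scheme
-/

set_option autoImplicit false
set_option linter.unusedSectionVars false
universe u
open CategoryTheory CategoryTheory.Limits AlgebraicGeometry Opposite TopologicalSpace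

namespace Groth.Agent.Lib.Helper43.EtNoethACC

open Groth.Agent.Lib.Helper43 Groth.Agent.Lib.Helper43.EtSupp Groth.Agent.Lib.Helper43.EtStalk
  Groth.Agent.Lib.Helper43.EtSubFLC Groth.Agent.Lib.Helper43.EtConstrStalk
  Groth.Agent.Lib.Helper43.EtSurjDescent

/-- the stalk at `ξ` has at least `c` elements -/
def HasCard {T : Scheme.{u}} (G : EtCoh.Ab T) {Ω : Type u} [Field Ω] [IsSepClosed Ω]
    (ξ : Spec (CommRingCat.of Ω) ⟶ T) (c : ℕ) : Prop :=
  ∃ x : Fin c → (EtCoh.stalk ξ).obj G, Function.Injective x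

lemma HasCard.of_mono {T : Scheme.{u}} {G G' : EtCoh.Ab T} (τ : G ⟶ G') [Mono τ]
    {Ω : Type u} [Field Ω] [IsSepClosed Ω] {ξ : Spec (CommRingCat.of Ω) ⟶ T} {c : ℕ}
    (h : HasCard G ξ c) : HasCard G' ξ c := by
  obtain ⟨x, hx⟩ := h
  exact ⟨fun a => (EtCoh.stalk ξ).map τ (x a),
    ((mono_iff_stalks_ab τ).1 inferInstance Ω ξ).comp hx⟩

lemma HasCard.of_iso {A B : AddCommGrpCat.{u + 1}} (e : A ≅ B) {c : ℕ}
    (h : ∃ x : Fin c → A, Function.Injective x) : ∃ x : Fin c → B, Function.Injective x := by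
  obtain ⟨x, hx⟩ := h
  exact ⟨fun a => e.hom (x a), e.addCommGroupIsoToAddEquiv.injective.comp hx⟩

/-- the set of points where the stalks have at least `c` elements -/
def cardGe {T : Scheme.{u}} (G : EtCoh.Ab T) (c : ℕ) : Set T :=
  {t | ∃ (Ω : Type u) (_ : Field Ω) (_ : IsSepClosed Ω) (ξ : Spec (CommRingCat.of Ω) ⟶ T),
    ξ default = t ∧ HasCard G ξ c}

section Stratum

variable {T : Scheme.{u}} (Q : EtCoh.Ab T) (hQ : EtCoh.IsFiniteLocallyConstant Q)

include hQ in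
lemma isOpen_cardGe {G : EtCoh.Ab T} (ι : G ⟶ Q) [Mono ι] (c : ℕ) : IsOpen (cardGe G c) := by
  rw [isOpen_iff_forall_mem_open]
  rintro t ⟨Ω, _, _, ξ, rfl, x, hx⟩
  obtain ⟨W, hW, hξW, h⟩ := lsc Q G ι hQ ξ c x hx
  refine ⟨W, ?_, hW, hξW⟩
  intro t' ht'
  obtain ⟨Ω', _, _, ξ', hξ'⟩ := exists_geomPt t'
  exact ⟨Ω', inferInstance, inferInstance, ξ', hξ', h Ω' ξ' (hξ' ▸ ht')⟩

include hQ in
lemma cardGe_spec {G : EtCoh.Ab T} (ι : G ⟶ Q) [Mono ι] (c : ℕ)
    {Ω : Type u} [Field Ω] [IsSepClosed Ω] (ξ : Spec (CommRingCat.of Ω) ⟶ T)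
    (h : ξ default ∈ cardGe G c) : HasCard G ξ c := by
  obtain ⟨Ω', _, _, ξ', hξ', x, hx⟩ := h
  obtain ⟨W, -, hξW, h⟩ := lsc Q G ι hQ ξ' c x hx
  exact h Ω ξ (hξ' ▸ hξW)

include hQ in
/-- stalk cardinalities of a finite locally constant sheaf on a quasi-compact scheme are bounded -/
lemma exists_bound [CompactSpace T] : ∃ B : ℕ, ∀ (Ω : Type u) [Field Ω] [IsSepClosed Ω]
    (ξ : Spec (CommRingCat.of Ω) ⟶ T) (c : ℕ), HasCard Q ξ c → c ≤ B := by
  obtain ⟨κ, U, hcov, hU⟩ := hQ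
  choose M iM fM hα using hU
  have hopen : ∀ i, IsOpen (Set.range (U i).hom) := fun i => by
    have : Etale (U i).hom := (U i).prop
    exact (U i).hom.isOpenMap.isOpen_range
  have hcover : (Set.univ : Set T) ⊆ ⋃ i, Set.range (U i).hom := by
    intro t _
    obtain ⟨i, y, hy⟩ := hcov t
    exact Set.mem_iUnion.2 ⟨i, y, hy⟩
  obtain ⟨s, hs⟩ := isCompact_univ.elim_finite_subcover _ hopen hcover
  refine ⟨s.sup (fun i => Nat.card (M i)), ?_⟩
  intro Ω _ _ ξ c ⟨x, hx⟩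
  obtain ⟨i, his, y, hy⟩ := Set.mem_iUnion₂.1 (hs (Set.mem_univ (ξ default)))
  obtain ⟨α⟩ := hα i
  obtain ⟨e⟩ := stalk_iso_of_triv Q (U i) (AddCommGrpCat.of (ULift.{u + 1} (M i))) α ξ y hy
  have hfin : Finite (ULift.{u + 1} (M i)) := inferInstance
  have h1 : c ≤ Nat.card (ULift.{u + 1} (M i)) := by
    have := Nat.card_le_card_of_injective (fun a => e.hom (x a))
      (e.addCommGroupIsoToAddEquiv.injective.comp hx)
    simpa using this
  have h2 : Nat.card (ULift.{u + 1} (M i)) = Nat.card (M i) := Nat.card_congr Equiv.ulift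
  rw [h2] at h1
  exact h1.trans (Finset.le_sup (f := fun i => Nat.card (M i)) his)

include hQ in
/-- ascending chain condition on a Noetherian stratum -/
theorem acc_stratum [NoetherianSpace T] (G : ℕ → EtCoh.Ab T) (ι : ∀ k, G k ⟶ Q)
    [∀ k, Mono (ι k)] (hle : ∀ k m, k ≤ m → ∃ τ : G k ⟶ G m, τ ≫ ι m = ι k) :
    ∃ N, ∀ m, N ≤ m → ∀ (Ω : Type u) [Field Ω] [IsSepClosed Ω]
      (ξ : Spec (CommRingCat.of Ω) ⟶ T) (c : ℕ), HasCard (G m) ξ c → HasCard (G N) ξ c := by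
  obtain ⟨B, hB⟩ := exists_bound Q hQ
  have hmono : ∀ k m, k ≤ m → ∀ c, cardGe (G k) c ⊆ cardGe (G m) c := by
    intro k m hkm c t ⟨Ω, _, _, ξ, hξ, h⟩
    obtain ⟨τ, hτ⟩ := hle k m hkm
    have : Mono τ := mono_of_mono_fac hτ
    exact ⟨Ω, inferInstance, inferInstance, ξ, hξ, h.of_mono τ⟩
  let O : ℕ → ℕ →o Opens T := fun c =>
    ⟨fun k => ⟨cardGe (G k) c, isOpen_cardGe Q hQ (ι k) c⟩, fun k m hkm => hmono k m hkm c⟩
  have hstab : ∀ c, ∃ n, ∀ m, n ≤ m → O c n = O c m := fun c =>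
    WellFoundedGT.monotone_chain_condition (O c)
  choose Nc hNc using hstab
  refine ⟨(Finset.range (B + 1)).sup Nc, ?_⟩
  intro m hm Ω _ _ ξ c hc
  have hcB : c ≤ B := hB Ω ξ c (hc.of_mono (ι m))
  have hNcle : Nc c ≤ (Finset.range (B + 1)).sup Nc :=
    Finset.le_sup (f := Nc) (Finset.mem_range.2 (Nat.lt_succ_of_le hcB))
  have h1 : ξ default ∈ cardGe (G m) c := ⟨Ω, inferInstance, inferInstance, ξ, rfl, hc⟩
  have h2 : O c (Nc c) = O c m := hNc c m (hNcle.trans hm)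
  have h3 : O c (Nc c) = O c ((Finset.range (B + 1)).sup Nc) := hNc c _ hNcle
  have h4 : ξ default ∈ cardGe (G ((Finset.range (B + 1)).sup Nc)) c := by
    have : ξ default ∈ (O c m : Set T) := h1
    rw [← h2, h3] at this
    exact this
  exact cardGe_spec Q hQ (ι _) c ξ h4

end Stratum

section Global

variable {X : Scheme.{u}} [IsNoetherian X] (F : EtCoh.Ab X) (hF : EtPBC.IsConstructible F)

lemma hasCard_pull_iff {T : Scheme.{u}} (g : T ⟶ X) [EtCoh.BCCont g] (G : EtCoh.Ab X)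
    {Ω : Type u} [Field Ω] [IsSepClosed Ω] (l : Spec (CommRingCat.of Ω) ⟶ T) (c : ℕ) :
    HasCard ((EtCoh.pull g).obj G) l c ↔ HasCard G (l ≫ g) c :=
  ⟨fun h => HasCard.of_iso (stalkPullIso g G l).symm h, fun h => HasCard.of_iso (stalkPullIso g G l) h⟩

include hF in
/-- ascending chains of subsheaves of a constructible sheaf on a Noetherian scheme: eventually the
stalk cardinalities do not grow -/
theorem acc_card (G : ℕ → EtCoh.Ab X) (ι : ∀ k, G k ⟶ F) [∀ k, Mono (ι k)]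
    (hle : ∀ k m, k ≤ m → ∃ τ : G k ⟶ G m, τ ≫ ι m = ι k) :
    ∃ N, ∀ m, N ≤ m → ∀ (Ω : Type u) [Field Ω] [IsSepClosed Ω]
      (ξ : Spec (CommRingCat.of Ω) ⟶ X) (c : ℕ), HasCard (G m) ξ c → HasCard (G N) ξ c := by
  obtain ⟨n, T, g, h1, h2, h3, h4, h5⟩ :=
    (EtConstr.adaptedStrata_iff F _).1 ((EtConstr.constructible_iff_strata_univ X F).1 hF)
  have key : ∀ i : Fin n, ∃ N, ∀ m, N ≤ m → ∀ (Ω : Type u) [Field Ω] [IsSepClosed Ω]
      (l : Spec (CommRingCat.of Ω) ⟶ T i) (c : ℕ),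
      HasCard (G m) (l ≫ g i) c → HasCard (G N) (l ≫ g i) c := by
    intro i
    have := h1 i
    have hNoeth : NoetherianSpace (T i) :=
      (Scheme.Hom.isEmbedding (g i)).isInducing.noetherianSpace
    have hex := Groth.Agent.Lib.Helper6.EtPullExact.preservesFiniteLimits_pull (g i)
    have hmono : ∀ k, Mono ((EtCoh.pull (g i)).map (ι k)) := fun k => inferInstance
    obtain ⟨N, hN⟩ := acc_stratum ((EtCoh.pull (g i)).obj F) (h5 i)
      (fun k => (EtCoh.pull (g i)).obj (G k)) (fun k => (EtCoh.pull (g i)).map (ι k))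
      (fun k m hkm => by
        obtain ⟨τ, hτ⟩ := hle k m hkm
        exact ⟨(EtCoh.pull (g i)).map τ, by rw [← Functor.map_comp, hτ]⟩)
    refine ⟨N, fun m hm Ω _ _ l c hc => ?_⟩
    rw [← hasCard_pull_iff] at hc ⊢
    exact hN m hm Ω l c hc
  choose Ni hNi using key
  refine ⟨Finset.univ.sup Ni, ?_⟩
  intro m hm Ω _ _ ξ c hc
  have hx : ξ default ∈ ⋃ i, Set.range (g i) := by
    rw [h4]
    trivial
  obtain ⟨i, t, ht⟩ := Set.mem_iUnion.1 hx
  have := h1 i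
  obtain ⟨l, rfl⟩ := exists_fac_of_isPreimmersion (g i) ξ t ht
  have hle' : Ni i ≤ Finset.univ.sup Ni := Finset.le_sup (f := Ni) (Finset.mem_univ i)
  have h6 := hNi i m (hle'.trans hm) Ω l c hc
  obtain ⟨τ, hτ⟩ := hle (Ni i) (Finset.univ.sup Ni) hle'
  have : Mono τ := mono_of_mono_fac hτ
  exact h6.of_mono τ

include hF in
/-- ascending chains of subsheaves of a constructible sheaf on a Noetherian scheme stabilize -/
theorem acc_iso (G : ℕ → EtCoh.Ab X) (ι : ∀ k, G k ⟶ F) [∀ k, Mono (ι k)]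
    (hle : ∀ k m, k ≤ m → ∃ τ : G k ⟶ G m, τ ≫ ι m = ι k) :
    ∃ N, ∀ m, N ≤ m → ∀ τ : G N ⟶ G m, τ ≫ ι m = ι N → IsIso τ := by
  obtain ⟨N, hN⟩ := acc_card F hF G ι hle
  refine ⟨N, fun m hm τ hτ => ?_⟩
  have hmono : Mono τ := mono_of_mono_fac hτ
  have hepi : Epi τ := by
    apply epi_of_stalks_ab
    intro Ω _ _ ξ
    have hinj := (mono_iff_stalks_ab τ).1 inferInstance Ω ξ
    have hfinF : Finite ((EtCoh.stalk ξ).obj F) := finite_stalk F hF ξ
    have hfinB : Finite ((EtCoh.stalk ξ).obj (G m)) :=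
      Finite.of_injective _ ((mono_iff_stalks_ab (ι m)).1 inferInstance Ω ξ)
    have hfinA : Finite ((EtCoh.stalk ξ).obj (G N)) :=
      Finite.of_injective _ ((mono_iff_stalks_ab (ι N)).1 inferInstance Ω ξ)
    have hcard : HasCard (G m) ξ (Nat.card ((EtCoh.stalk ξ).obj (G m))) :=
      ⟨fun a => (Finite.equivFin _).symm a, (Finite.equivFin _).symm.injective⟩
    obtain ⟨x, hx⟩ := hN m hm Ω ξ _ hcard
    have hle2 : Nat.card ((EtCoh.stalk ξ).obj (G m)) ≤ Nat.card ((EtCoh.stalk ξ).obj (G N)) := by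
      have := Nat.card_le_card_of_injective x hx
      simpa using this
    exact (Function.Injective.bijective_of_nat_card_le hinj hle2).2
  exact isIso_of_mono_of_epi τ

end Global

end Groth.Agent.Lib.Helper43.EtNoethACC
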