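import Mathlib
import Groth.Prelude
import Groth.Agent.Lib.Helper43.EtSpecArrow
import Groth.Agent.Lib.Helper43.EtGenericFLC
import Groth.Agent.Lib.Helper43.EtSubFLC
import Groth.Agent.Lib.Helper43.EtConstrStalk
import Groth.Agent.Lib.Helper43.ConstrCover
import Groth.Agent.S8526

set_option autoImplicit false
set_option linter.unusedSectionVars false
universe u
open CategoryTheory CategoryTheory.Limits AlgebraicGeometry Opposite

namespace Groth.Agent.Lib.Helper43.EtSpecIso

open Groth.Agent.Lib.Helper43 Groth.Agent.Lib.Helper43.ConstSheaf Groth.Agent.Lib.Helper43.LCHom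
  Groth.Agent.Lib.Helper43.EtLCHom Groth.Agent.Lib.Helper43.EtSupp Groth.Agent.Lib.Helper43.EtStalk
  Groth.Agent.Lib.Helper43.EtSubFLC

variable {X : Scheme.{u}}

/-- the specialization map on germs -/
lemma sp_germ {Φ Φ' : GrothendieckTopology.Point.{u} X.smallEtaleTopology} (φ : Φ' ⟶ Φ)
    (F : EtCoh.Ab X) (W : X.Etale) (w : Φ.fiber.obj W) (s : F.obj.obj (op W)) :
    (GrothendieckTopology.Point.Hom.sheafFiber (A := AddCommGrpCat.{u + 1}) φ).app F
      (Φ.toPresheafFiber W w F.obj s) = Φ'.toPresheafFiber W (φ.hom.app W w) F.obj s := by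
  have : Φ.toPresheafFiber W w F.obj ≫
      (GrothendieckTopology.Point.Hom.presheafFiber (A := AddCommGrpCat.{u + 1}) φ).app F.obj =
      Φ'.toPresheafFiber W (φ.hom.app W w) F.obj := by
    simp
  exact congrArg (fun k => k.hom s) this


/-- local description of finitely many sections of a sheaf trivialized near a point -/
theorem exists_local_const' (Q : EtCoh.Ab X) (U₀ : X.Etale) (M : AddCommGrpCat.{u + 1})
    (e : Q.over U₀ ≅ K.{u + 1} (X.smallEtaleTopology.over U₀) M)
    (V : X.Etale) (v : V.left) (y : U₀.left) (hy : U₀.hom y = V.hom v)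
    {ι : Type*} [Finite ι] (s : ι → Q.obj.obj (op V)) :
    ∃ (W : X.Etale) (g : W ⟶ V) (z : W.left) (n : ι → M),
      g.left z = v ∧
      (∀ a b, n a = n b → Q.obj.map g.op (s a) = Q.obj.map g.op (s b)) ∧
      (∀ (W₂ : X.Etale) (h : W₂ ⟶ W), Nonempty W₂.left → ∀ a b,
        Q.obj.map h.op (Q.obj.map g.op (s a)) = Q.obj.map h.op (Q.obj.map g.op (s b)) →
          n a = n b) := by
  obtain ⟨W₀, a, b, z₀, hz₀⟩ := EtOpenSub.exists_refinement V U₀ v y hy
  let α := transport X.smallEtaleTopology AddCommGrpCat.{u + 1} Q b M e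
  let t : ι → (K.{u + 1} (X.smallEtaleTopology.over W₀) M).obj.obj (op (Over.mk (𝟙 W₀))) :=
    fun j => α.hom.hom.app (op (Over.mk (𝟙 W₀))) (Q.obj.map a.op (s j))
  obtain ⟨W, g, z, hz, n, hn⟩ := exists_const W₀ z₀ M t
  let α₁ := transport X.smallEtaleTopology AddCommGrpCat.{u + 1} Q g M α
  have key : ∀ j, Q.obj.map g.op (Q.obj.map a.op (s j)) =
      α₁.inv.hom.app (op (Over.mk (𝟙 W))) (cst.{u + 1} (X.smallEtaleTopology.over W) M
        (Over.mk (𝟙 W)) (n j)) := fun j =>
    restrict_eq_of_const X.smallEtaleTopology g α (Q.obj.map a.op (s j)) (n j) (hn j)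
  have hcomp : ∀ j, Q.obj.map (g ≫ a).op (s j) = Q.obj.map g.op (Q.obj.map a.op (s j)) := by
    intro j
    rw [op_comp, CategoryTheory.Functor.map_comp]
    rfl
  refine ⟨W, g ≫ a, z, n, ?_, ?_, ?_⟩
  · change a.left (g.left z) = v
    rw [hz, hz₀]
  · intro j j' hjj'
    rw [hcomp, hcomp, key, key, hjj']
  · intro W₂ h hne j j' hjj'
    rw [hcomp, hcomp, key, key] at hjj'
    have r1 := restrict_inv_cst X.smallEtaleTopology h α₁ (n j)
    have r2 := restrict_inv_cst X.smallEtaleTopology h α₁ (n j')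
    rw [r1, r2] at hjj'
    have hinj2 := cst_injective_over W₂ M (Over.mk (𝟙 W₂)) hne
    exact hinj2 (iso_inv_app_injective
      (transport X.smallEtaleTopology AddCommGrpCat.{u + 1} Q h M α₁) _ hjj')

section Forward

variable (F : EtCoh.Ab X) {Ω Ω' : Type u} [Field Ω] [IsSepClosed Ω] [Field Ω'] [IsSepClosed Ω']
  {ξ : Spec (CommRingCat.of Ω) ⟶ X} {ξ' : Spec (CommRingCat.of Ω') ⟶ X}
  (φ : Scheme.pointSmallEtale ξ' ⟶ Scheme.pointSmallEtale ξ)

/-- specialization maps are injective on a sheaf trivialized around the special point -/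
theorem sp_injective_of_triv (U₀ : X.Etale) (M : AddCommGrpCat.{u + 1})
    (e : F.over U₀ ≅ K.{u + 1} (X.smallEtaleTopology.over U₀) M) (y : U₀.left)
    (hy : U₀.hom y = ξ default) :
    Function.Injective ((GrothendieckTopology.Point.Hom.sheafFiber
      (A := AddCommGrpCat.{u + 1}) φ).app F) := by
  intro g₁ g₂ hg
  obtain ⟨V, v, s₁, s₂, h1, h2⟩ :=
    (Scheme.pointSmallEtale ξ).toPresheafFiber_jointly_surjective₂ (P := F.obj) g₁ g₂
  have h1' : (Scheme.pointSmallEtale ξ).toPresheafFiber V v F.obj s₁ = g₁ := h1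
  have h2' : (Scheme.pointSmallEtale ξ).toPresheafFiber V v F.obj s₂ = g₂ := h2
  rw [← h1', ← h2'] at hg ⊢
  clear h1 h2 h1' h2'
  let vl : Spec (CommRingCat.of Ω) ⟶ V.left := v.left
  have hvl : vl ≫ V.hom = ξ := Over.w v
  have hy' : U₀.hom y = V.hom (vl default) := by
    rw [hy, ← hvl]
    rfl
  obtain ⟨W, g, z, n, hz, hn1, hn2⟩ := exists_local_const' F U₀ M e V (vl default) y hy'
    (fun i : Fin 2 => if i = 0 then s₁ else s₂)
  obtain ⟨l, hl₁, hl₂⟩ := Scheme.exists_fac_of_etale_of_isSepClosed g.left vl z hz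
  have hgW : g.left ≫ V.hom = W.hom := MorphismProperty.Over.w g
  have hlW : l ≫ W.hom = ξ := by
    rw [← hgW, ← Category.assoc, hl₁]
    exact hvl
  let w : (Scheme.pointSmallEtale ξ).fiber.obj W := Over.homMk l hlW
  have hw : (Scheme.pointSmallEtale ξ).fiber.map g w = v := Over.OverMorphism.ext hl₁
  have e1 : ∀ s : F.obj.obj (op V), (Scheme.pointSmallEtale ξ).toPresheafFiber V v F.obj s =
      (Scheme.pointSmallEtale ξ).toPresheafFiber W w F.obj (F.obj.map g.op s) := by
    intro s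
    have := (Scheme.pointSmallEtale ξ).toPresheafFiber_w_apply g w F.obj s
    rw [this, hw]
  rw [e1 s₁, e1 s₂, sp_germ, sp_germ] at hg
  obtain ⟨W₂, h, w₂, -, hh⟩ :=
    ((Scheme.pointSmallEtale ξ').toPresheafFiber_eq_iff' W _ _ _).1 hg
  let wl₂ : Spec (CommRingCat.of Ω') ⟶ W₂.left := w₂.left
  have h01 := hn2 W₂ h ⟨wl₂ default⟩ 0 1 (by simpa using hh)
  have := hn1 0 1 h01
  have this' : F.obj.map g.op s₁ = F.obj.map g.op s₂ := by simpa using this
  rw [e1 s₁, e1 s₂]
  exact congrArg (fun s => (Scheme.pointSmallEtale ξ).toPresheafFiber W w F.obj s) this'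

/-- specialization maps are bijective on a sheaf trivialized (with finite value) around the special
point -/
theorem sp_bijective_of_triv (U₀ : X.Etale) (M : AddCommGrpCat.{u + 1}) [Finite M]
    (e : F.over U₀ ≅ K.{u + 1} (X.smallEtaleTopology.over U₀) M) (y : U₀.left)
    (hy : U₀.hom y = ξ default) :
    Function.Bijective ((GrothendieckTopology.Point.Hom.sheafFiber
      (A := AddCommGrpCat.{u + 1}) φ).app F) := by
  have hinj := sp_injective_of_triv F φ U₀ M e y hy
  have : Etale U₀.hom := U₀.prop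
  obtain ⟨l, hl₁, hl₂⟩ := Scheme.exists_fac_of_etale_of_isSepClosed U₀.hom ξ y hy
  let v : (Scheme.pointSmallEtale ξ).fiber.obj U₀ := Over.homMk l hl₁
  let v' : (Scheme.pointSmallEtale ξ').fiber.obj U₀ := φ.hom.app U₀ v
  let vl' : Spec (CommRingCat.of Ω') ⟶ U₀.left := v'.left
  have hvl' : vl' ≫ U₀.hom = ξ' := Over.w v'
  have hy' : U₀.hom (vl' default) = ξ' default := by
    rw [← hvl']
    rfl
  obtain ⟨a⟩ := stalk_iso_of_triv F U₀ M e ξ y hy
  obtain ⟨a'⟩ := stalk_iso_of_triv F U₀ M e ξ' (vl' default) hy'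
  have hfin' : Finite ((EtCoh.stalk ξ').obj F) :=
    Finite.of_equiv M a'.symm.addCommGroupIsoToAddEquiv.toEquiv
  have hfin : Finite ((EtCoh.stalk ξ).obj F) :=
    Finite.of_equiv M a.symm.addCommGroupIsoToAddEquiv.toEquiv
  apply hinj.bijective_of_nat_card_le
  rw [Nat.card_congr a'.addCommGroupIsoToAddEquiv.toEquiv,
    Nat.card_congr a.addCommGroupIsoToAddEquiv.toEquiv]

end Forward


open Groth.Agent.Lib.Helper43.EtFLCLocal Groth.Agent.Lib.Helper43.EtOverEquiv in
/-- a trivialization around `x` of a sheaf that is finite locally constant near `x` -/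
theorem exists_triv_of_isFLC_near (F : EtCoh.Ab X) (x : X) (U : X.Opens) (hxU : x ∈ U)
    (hflc : EtCoh.IsFiniteLocallyConstant ((EtCoh.pull U.ι).obj F)) :
    ∃ (U₀ : X.Etale) (M : AddCommGrpCat.{u + 1}) (_ : Finite M)
      (_ : F.over U₀ ≅ K.{u + 1} (X.smallEtaleTopology.over U₀) M) (y : U₀.left),
      U₀.hom y = x := by
  obtain ⟨u, hu⟩ : x ∈ Set.range U.ι := by
    rw [Scheme.Opens.range_ι]
    exact hxU
  obtain ⟨V₀, j₀, hj₀, v₀, hv₀, M₀, iM₀, fM₀, ⟨e⟩⟩ := (isFLC_iff_locTriv _).1 hflc u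
  let U₀ : X.Etale := MorphismProperty.Over.mk ⊤ (j₀ ≫ U.ι) inferInstance
  have : EtShriek.JCont (jU U₀) := Groth.Agent.Lib.Helper4.EtRestr.jCont _
  have iso : (EtShriek.restrAlong (jU U₀)).obj F ≅
      (constantSheaf U₀.left.smallEtaleTopology AddCommGrpCat.{u + 1}).obj (val M₀) :=
    (Groth.Agent.Lib.Helper4.EtRestr.pullIsoRestr (jU U₀)).symm.app F ≪≫
      (EtConstr.pullComp U.ι j₀).app F ≪≫ e
  obtain ⟨e'⟩ := (over_iso_const_iff U₀ F (val M₀)).2 ⟨iso⟩
  refine ⟨U₀, val M₀, inferInstanceAs (Finite (ULift.{u + 1} M₀)), e', v₀, ?_⟩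
  change U.ι (j₀ v₀) = x
  rw [hv₀, hu]

section Top

open Topology Groth.Agent.Lib.Helper43.ConstrCover

/-- in a spectral space, a constructible set missing all generizations of a point misses a
neighbourhood of it -/
lemma exists_nhd_disjoint_of_isConstructible {Z : Type*} [TopologicalSpace Z] [CompactSpace Z]
    [QuasiSober Z] [PrespectralSpace Z] [QuasiSeparatedSpace Z] {S : Set Z}
    (hS : IsConstructible S) (a₀ : Z) (h : ∀ a, a ⤳ a₀ → a ∉ S) :
    ∃ O : Set Z, IsOpen O ∧ a₀ ∈ O ∧ Disjoint O S := by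
  classical
  -- the index type: `none` for the complement of `S`, `some O` for the complement of a qc open nbhd
  let I := Option {O : Set Z // IsOpen O ∧ IsCompact O ∧ a₀ ∈ O}
  let R : I → Set Z := fun i => match i with
    | none => Sᶜ
    | some O => (O.1)ᶜ
  have hR : ∀ i, IsConstructible (R i) := by
    rintro (_ | O)
    · exact hS.compl
    · exact (O.2.2.1.isConstructible O.2.1).compl
  have hcov : ⋃ i, R i = Set.univ := by
    rw [Set.eq_univ_iff_forall]
    intro a
    by_cases haS : a ∈ S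
    · have hna : ¬ a ⤳ a₀ := fun hsp => h a hsp haS
      rw [specializes_iff_forall_open] at hna
      push Not at hna
      obtain ⟨O', hO', ha₀, haO'⟩ := hna
      obtain ⟨O, ⟨hO1, hO2⟩, ha₀O, hOO'⟩ :=
        PrespectralSpace.isTopologicalBasis.mem_nhds_iff.mp (hO'.mem_nhds ha₀)
      exact Set.mem_iUnion.2 ⟨some ⟨O, hO1, hO2, ha₀O⟩, fun haO => haO' (hOO' haO)⟩
    · exact Set.mem_iUnion.2 ⟨none, haS⟩
  obtain ⟨t, ht⟩ := exists_finite_subcover_of_isConstructible R hR hcov
  -- intersect the finitely many opens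
  let Os : Finset {O : Set Z // IsOpen O ∧ IsCompact O ∧ a₀ ∈ O} := t.preimage some
    (fun _ _ _ _ h => Option.some.inj h)
  refine ⟨⋂ O ∈ Os, O.1, ?_, ?_, ?_⟩
  · exact isOpen_biInter_finset (fun O _ => O.2.1)
  · exact Set.mem_iInter₂.2 (fun O _ => O.2.2.2)
  · rw [Set.disjoint_left]
    intro a ha haS
    obtain ⟨i, hit, hai⟩ := ht a
    cases i with
    | none => exact hai haS
    | some O =>
      have hO : O ∈ Os := by simpa [Os] using hit
      exact hai (Set.mem_iInter₂.1 ha O hO)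


/-- a locally constructible subset of a scheme missing all generizations of a point misses an open
neighbourhood of it -/
lemma exists_opens_disjoint {Y : Scheme.{u}} {S : Set Y} (hS : IsLocallyConstructible S) (v₀ : Y)
    (h : ∀ v, v ⤳ v₀ → v ∉ S) : ∃ O : Y.Opens, v₀ ∈ O ∧ Disjoint (O : Set Y) S := by
  obtain ⟨A, hA, hvA, -⟩ := Groth.Agent.Lib.Helper43.EtConstr.exists_affine_nhd_le (⊤ : Y.Opens) v₀ trivial
  have : IsAffine A.toScheme := hA
  have hSA : IsConstructible (A.ι ⁻¹' S) :=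
    (hS.preimage_of_isOpenEmbedding A.ι.isOpenEmbedding).isConstructible
  obtain ⟨a₀, ha₀⟩ : v₀ ∈ Set.range A.ι := by
    rw [Scheme.Opens.range_ι]
    exact hvA
  obtain ⟨O', hO', ha₀O', hdisj⟩ := exists_nhd_disjoint_of_isConstructible hSA a₀ (fun a hsp => by
    have h1 : A.ι a ⤳ A.ι a₀ := Specializes.map hsp A.ι.continuous
    rw [ha₀] at h1
    exact h _ h1)
  refine ⟨A.ι ''ᵁ ⟨O', hO'⟩, ⟨a₀, ha₀O', ha₀⟩, ?_⟩
  rw [Set.disjoint_left]
  rintro y ⟨a, haO', rfl⟩ hyS
  exact Set.disjoint_left.1 hdisj haO' hyS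

end Top


section Backward

open Groth.Agent.Lib.Helper43.EtGenericFLC Groth.Agent.Lib.Helper43.EtConstStalk
  Groth.Agent.Lib.Helper43.EtConstr Groth.Agent.Lib.Helper43.StrataLib

attribute [local instance] Groth.Agent.Lib.Helper4.EtRestr.jCont

/-- finite locally constant sheaves are constructible -/
theorem constructible_of_isFLC (F : EtCoh.Ab X) (h : EtCoh.IsFiniteLocallyConstant F) :
    EtPBC.IsConstructible F := by
  intro U hU
  rw [adaptedStrata_iff]
  refine Strata.of_finite Unit (fun _ => U.toScheme) (fun _ => U.ι) (fun _ => inferInstance)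
    (fun _ => ?_) ?_ ?_ (fun _ => fun [_] => isFLC_pull U.ι F h)
  · rw [Scheme.Opens.range_ι]
    have : (Subtype.val : ((U : Set X) : Type u) → X) ⁻¹' (U : Set X) = Set.univ := by
      ext x
      simp
    rw [this]
    exact Topology.IsConstructible.univ
  · intro a b hab
    exact (hab (Subsingleton.elim a b)).elim
  · ext x
    simp [Scheme.Opens.range_ι]

variable (F : EtCoh.Ab X) {Ω : Type u} [Field Ω] [IsSepClosed Ω]
  (ξ : Spec (CommRingCat.of Ω) ⟶ X) (V : X.Etale)
  (t : (EtCoh.stalk ξ).obj F →+ F.obj.obj (op V))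

/-- the map from the constant sheaf on `V` attached to an additive lift of the stalk -/
noncomputable def ψ : K.{u + 1} V.left.smallEtaleTopology ((EtCoh.stalk ξ).obj F) ⟶ G' F V :=
  K_desc.{u + 1} V.left.smallEtaleTopology (EtCore.topIsTerminal V.left) (tY F ξ V t)

/-- the germs of the lifted sections at a geometric point of `V` -/
noncomputable def γ {Ω' : Type u} [Field Ω'] [IsSepClosed Ω']
    (l : Spec (CommRingCat.of Ω') ⟶ V.left) :
    (EtCoh.stalk ξ).obj F → (EtCoh.stalk l).obj (G' F V) := fun m =>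
  (Scheme.pointSmallEtale l).toPresheafFiber (EtCoh.top V.left)
    (Over.homMk l (Category.comp_id l)) (G' F V).obj (tY F ξ V t m)

lemma stalk_ψ_bijective {Ω' : Type u} [Field Ω'] [IsSepClosed Ω']
    (l : Spec (CommRingCat.of Ω') ⟶ V.left) (h : Function.Bijective (γ F ξ V t l)) :
    Function.Bijective ((EtCoh.stalk l).map (ψ F ξ V t)) := by
  let M : AddCommGrpCat.{u + 1} := (EtCoh.stalk ξ).obj F
  let yY : (Scheme.pointSmallEtale l).fiber.obj (EtCoh.top V.left) :=
    Over.homMk l (Category.comp_id l)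
  have hcg := cstGerm_bijective M (Scheme.pointSmallEtale l) (EtCoh.top V.left) yY
  have hcomp : (fun m : M => ((Scheme.pointSmallEtale l).sheafFiber
      (A := AddCommGrpCat.{u + 1})).map (ψ F ξ V t)
        ((Scheme.pointSmallEtale l).toPresheafFiber (EtCoh.top V.left) yY
          (K.{u + 1} V.left.smallEtaleTopology M).obj
          (cst.{u + 1} V.left.smallEtaleTopology M (EtCoh.top V.left) m))) = γ F ξ V t l := by
    funext m
    have h1 := (Scheme.pointSmallEtale l).toPresheafFiber_naturality_apply (ψ F ξ V t).hom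
      (EtCoh.top V.left) yY (cst.{u + 1} V.left.smallEtaleTopology M (EtCoh.top V.left) m)
    refine h1.trans ?_
    exact congrArg (fun z => (Scheme.pointSmallEtale l).toPresheafFiber (EtCoh.top V.left) yY
      (G' F V).obj z)
      (K_desc_cst.{u + 1} V.left.smallEtaleTopology (EtCore.topIsTerminal V.left) (tY F ξ V t) m)
  rw [← hcomp] at h
  exact (Function.Bijective.of_comp_iff _ hcg).1 h

/-- the stalk of the restriction to `V` is the stalk of `F` -/
lemma nonempty_stalk_G'_iso {Ω' : Type u} [Field Ω'] [IsSepClosed Ω']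
    (l : Spec (CommRingCat.of Ω') ⟶ V.left) :
    Nonempty ((EtCoh.stalk l).obj (G' F V) ≅ (EtCoh.stalk (l ≫ V.hom)).obj F) := by
  have : Etale V.hom := V.prop
  exact ⟨(EtCoh.stalk l).mapIso ((Groth.Agent.Lib.Helper4.EtRestr.pullIsoRestr
    (EtOverEquiv.jU V)).symm.app F) ≪≫ (stalkPullIso V.hom F l).symm⟩


/-- injectivity of the germs at a generization, from an arrow hitting the given lift and the
injectivity of the specialization map -/
theorem γ_injective_of_arrow (yl : Spec (CommRingCat.of Ω) ⟶ V.left) (hyl : yl ≫ V.hom = ξ)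
    (ht : ∀ m, (Scheme.pointSmallEtale ξ).toPresheafFiber V (Over.homMk yl hyl) F.obj (t m) = m)
    {Ω' : Type u} [Field Ω'] [IsSepClosed Ω'] (l : Spec (CommRingCat.of Ω') ⟶ V.left)
    (φ : Scheme.pointSmallEtale (l ≫ V.hom) ⟶ Scheme.pointSmallEtale ξ)
    (hφ : φ.hom.app V (Over.homMk yl hyl) = Over.homMk l rfl)
    (hinj : Function.Injective ((GrothendieckTopology.Point.Hom.sheafFiber
      (A := AddCommGrpCat.{u + 1}) φ).app F)) :
    Function.Injective (γ F ξ V t l) := by
  intro m m' hmm'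
  obtain ⟨W, f, w, hw, hf⟩ := ((Scheme.pointSmallEtale l).toPresheafFiber_eq_iff' _ _ _ _).1 hmm'
  have : Etale W.hom := W.prop
  have : Etale V.hom := V.prop
  let wl : Spec (CommRingCat.of Ω') ⟶ W.left := w.left
  have hfl : f.left = W.hom :=
    (Category.comp_id f.left).symm.trans (MorphismProperty.Over.w f)
  have hwl : wl ≫ W.hom = l := by
    have h1 := congrArg (fun z => EtSpecArrow.lft z) hw
    have h2 : wl ≫ f.left = l := h1
    rw [← hfl]
    exact h2
  let WT : X.Etale := (EtShriek.compEtale (EtOverEquiv.jU V)).obj W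
  have hwl' : wl ≫ WT.hom = l ≫ V.hom := by
    change wl ≫ W.hom ≫ V.hom = l ≫ V.hom
    rw [← Category.assoc, hwl]
  let b : WT ⟶ V := (EtShriek.compEtale (EtOverEquiv.jU V)).map f ≫ aTop V
  have hb : (Scheme.pointSmallEtale (l ≫ V.hom)).fiber.map b (Over.homMk wl hwl') =
      Over.homMk l rfl := by
    apply Over.OverMorphism.ext
    change wl ≫ (f.left ≫ 𝟙 _) = l
    rw [Category.comp_id, hfl]
    exact hwl
  have key : ∀ m, F.obj.map b.op (t m) = (G' F V).obj.map f.op (tY F ξ V t m) := by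
    intro m
    change F.obj.map ((EtShriek.compEtale (EtOverEquiv.jU V)).map f ≫ aTop V).op (t m) = _
    rw [op_comp, Functor.map_comp]
    rfl
  have e1 : ∀ m, (GrothendieckTopology.Point.Hom.sheafFiber (A := AddCommGrpCat.{u + 1}) φ).app F m =
      (Scheme.pointSmallEtale (l ≫ V.hom)).toPresheafFiber WT (Over.homMk wl hwl') F.obj
        ((G' F V).obj.map f.op (tY F ξ V t m)) := by
    intro m
    have h1 := sp_germ φ F V (Over.homMk yl hyl) (t m)
    rw [ht, hφ] at h1
    have h2 := (Scheme.pointSmallEtale (l ≫ V.hom)).toPresheafFiber_w_apply b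
      (Over.homMk wl hwl') F.obj (t m)
    rw [hb] at h2
    rw [h1, ← h2, key]
  apply hinj
  rw [e1, e1, hf]


lemma isZero_stalk_kernel_iff {Y : Scheme.{u}} {A B : EtCoh.Ab Y} (ψ : A ⟶ B) {Ω' : Type u}
    [Field Ω'] [IsSepClosed Ω'] (l : Spec (CommRingCat.of Ω') ⟶ Y) :
    IsZero ((EtCoh.stalk l).obj (kernel ψ)) ↔ Function.Injective ((EtCoh.stalk l).map ψ) := by
  rw [← AddCommGrpCat.mono_iff_injective, Preadditive.mono_iff_isZero_kernel]
  exact (PreservesKernel.iso (EtCoh.stalk l) ψ).isZero_iff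

lemma isZero_stalk_cokernel_iff {Y : Scheme.{u}} {A B : EtCoh.Ab Y} (ψ : A ⟶ B) {Ω' : Type u}
    [Field Ω'] [IsSepClosed Ω'] (l : Spec (CommRingCat.of Ω') ⟶ Y) :
    IsZero ((EtCoh.stalk l).obj (cokernel ψ)) ↔ Function.Surjective ((EtCoh.stalk l).map ψ) := by
  rw [← AddCommGrpCat.epi_iff_surjective, Preadditive.epi_iff_isZero_cokernel]
  exact (PreservesCokernel.iso (EtCoh.stalk l) ψ).isZero_iff

open Groth.Agent.Lib.Helper43.EtConstrStalk Groth.Agent.Lib.Helper43.EtConstrSerre
  Groth.Agent.Lib.Helper43.EtFLCLocal Groth.Agent.Lib.Helper43.EtSurjDescent in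
/-- a morphism of sheaves which is bijective on the stalks over an open subscheme restricts to an
isomorphism there -/
theorem isIso_pull_of_stalks {Y : Scheme.{u}} {A B : EtCoh.Ab Y} (ψ : A ⟶ B) (O : Y.Opens)
    (h : ∀ (Ω' : Type u) [Field Ω'] [IsSepClosed Ω'] (l : Spec (CommRingCat.of Ω') ⟶ Y),
      l default ∈ O → Function.Bijective ((EtCoh.stalk l).map ψ)) :
    IsIso ((EtCoh.pull O.ι).map ψ) := by
  have key : ∀ (Ω' : Type u) [Field Ω'] [IsSepClosed Ω'] (l : Spec (CommRingCat.of Ω') ⟶ O.toScheme),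
      Function.Bijective ((EtCoh.stalk l).map ((EtCoh.pull O.ι).map ψ)) := by
    intro Ω' _ _ l
    have hl : (l ≫ O.ι) default ∈ O := by
      have : (l ≫ O.ι) default ∈ Set.range O.ι := ⟨l default, rfl⟩
      rwa [Scheme.Opens.range_ι] at this
    have hb := h Ω' (l ≫ O.ι) hl
    have hnat := pullStalkMap_naturality (f := O.ι) ψ l
    have hA := (ConcreteCategory.isIso_iff_bijective _).1
      (inferInstance : IsIso (stalkPullIso O.ι A l).hom)
    have hB := (ConcreteCategory.isIso_iff_bijective _).1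
      (inferInstance : IsIso (stalkPullIso O.ι B l).hom)
    have h1 : Function.Bijective (fun a => (EtCoh.stalk l).map ((EtCoh.pull O.ι).map ψ)
        (PullStalk.pullStalkMap O.ι A l a)) := by
      have : (fun a => (EtCoh.stalk l).map ((EtCoh.pull O.ι).map ψ)
          (PullStalk.pullStalkMap O.ι A l a)) =
          fun a => PullStalk.pullStalkMap O.ι B l ((EtCoh.stalk (l ≫ O.ι)).map ψ a) := by
        funext a
        exact (congrArg (fun k => k.hom a) hnat).symm
      rw [this]
      exact hB.comp hb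
    exact (Function.Bijective.of_comp_iff _ hA).1 h1
  have hmono : Mono ((EtCoh.pull O.ι).map ψ) := mono_of_stalks_ab _ (fun Ω' _ _ l => (key Ω' l).1)
  have hepi : Epi ((EtCoh.pull O.ι).map ψ) := epi_of_stalks_ab _ (fun Ω' _ _ l => (key Ω' l).2)
  exact isIso_of_mono_of_epi _


open Groth.Agent.Lib.Helper43.EtConstrStalk Groth.Agent.Lib.Helper43.EtConstrSerre
  Groth.Agent.Lib.Helper43.EtFLCLocal in
/-- **(⟸)**: a constructible sheaf all of whose specialization maps into `ξ` are isomorphisms is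
finite locally constant on an open neighbourhood of the centre of `ξ` -/
theorem exists_opens_isFLC_of_sp_iso (hF : EtPBC.IsConstructible F)
    (hsp : ∀ (Ω' : Type u) [Field Ω'] [IsSepClosed Ω'] (ξ' : Spec (CommRingCat.of Ω') ⟶ X)
      (φ : Scheme.pointSmallEtale ξ' ⟶ Scheme.pointSmallEtale ξ),
      IsIso ((GrothendieckTopology.Point.Hom.sheafFiber (A := AddCommGrpCat.{u + 1}) φ).app F)) :
    ∃ U : X.Opens, ξ default ∈ U ∧ EtCoh.IsFiniteLocallyConstant ((EtCoh.pull U.ι).obj F) := by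
  have hfinM : Finite ((EtCoh.stalk ξ).obj F) := finite_stalk F hF ξ
  obtain ⟨V, yl, hyl, t, ht, -⟩ := exists_good_nbhd F ξ
  have hV : Etale V.hom := V.prop
  let M : AddCommGrpCat.{u + 1} := (EtCoh.stalk ξ).obj F
  have hG' : EtPBC.IsConstructible (G' F V) :=
    constructible_of_iso ((Groth.Agent.Lib.Helper4.EtRestr.pullIsoRestr (EtOverEquiv.jU V)).app F)
      (pullback_constructible V.hom F hF)
  have hMfin : Finite M := hfinM
  have hKM : EtPBC.IsConstructible (K.{u + 1} V.left.smallEtaleTopology M) :=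
    constructible_of_isFLC _ (isFLC_of_iso_const' _ M (Iso.refl _))
  obtain ⟨hker, hcoker⟩ := constructible_kernel_cokernel (ψ F ξ V t) hKM hG'
  -- bijectivity at generizations
  have hgen : ∀ {Ω' : Type u} [Field Ω'] [IsSepClosed Ω'] (l : Spec (CommRingCat.of Ω') ⟶ V.left),
      l default ⤳ yl default → Function.Bijective ((EtCoh.stalk l).map (ψ F ξ V t)) := by
    intro Ω' _ _ l hl
    apply stalk_ψ_bijective
    let v : (Scheme.pointSmallEtale ξ).fiber.obj V := Over.homMk yl hyl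
    let v'' : (Scheme.pointSmallEtale (l ≫ V.hom)).fiber.obj V := Over.homMk l rfl
    obtain ⟨φ, hφ, -⟩ := EtSpecArrow.exists_arrow (ξ := ξ) (ξ' := l ≫ V.hom) v v'' hl
    have hiso := hsp Ω' (l ≫ V.hom) φ
    have hbij := (ConcreteCategory.isIso_iff_bijective _).1 hiso
    have hinj := γ_injective_of_arrow F ξ V t yl hyl ht l φ hφ hbij.1
    obtain ⟨e⟩ := nonempty_stalk_G'_iso F V l
    have hfin'' : Finite ((EtCoh.stalk (l ≫ V.hom)).obj F) := finite_stalk F hF _
    have hfinG : Finite ((EtCoh.stalk l).obj (G' F V)) :=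
      Finite.of_equiv _ e.symm.addCommGroupIsoToAddEquiv.toEquiv
    have hcard : Nat.card ((EtCoh.stalk l).obj (G' F V)) ≤ Nat.card M := by
      rw [Nat.card_congr e.addCommGroupIsoToAddEquiv.toEquiv,
        ← Nat.card_congr (Equiv.ofBijective _ hbij)]
    exact hinj.bijective_of_nat_card_le hcard
  -- the bad locus
  let S : Set V.left := EtPBC.supp (kernel (ψ F ξ V t)) ∪ EtPBC.supp (cokernel (ψ F ξ V t))
  have hS : Topology.IsLocallyConstructible S :=
    (Groth.Agent.S8526.result _ hker).union (Groth.Agent.S8526.result _ hcoker)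
  have hmiss : ∀ v, v ⤳ yl default → v ∉ S := by
    intro v hv
    obtain ⟨Ω', _, _, l, hl⟩ := exists_geomPt v
    have hb := hgen l (by rw [hl]; exact hv)
    rintro (hmem | hmem)
    · exact (hl ▸ not_mem_supp_of_isZero_stalk _ hker l
        ((isZero_stalk_kernel_iff _ l).2 hb.1)) hmem
    · exact (hl ▸ not_mem_supp_of_isZero_stalk _ hcoker l
        ((isZero_stalk_cokernel_iff _ l).2 hb.2)) hmem
  obtain ⟨O, hvO, hdisj⟩ := exists_opens_disjoint hS (yl default) hmiss
  -- `ψ` is an isomorphism over `O`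
  have hiso : IsIso ((EtCoh.pull O.ι).map (ψ F ξ V t)) := by
    apply isIso_pull_of_stalks
    intro Ω' _ _ l hl
    have hnS : l default ∉ S := fun h => Set.disjoint_left.1 hdisj hl h
    constructor
    · rw [← isZero_stalk_kernel_iff]
      by_contra hnz
      exact hnS (Or.inl ((mem_supp_iff _ _).2 ⟨Ω', inferInstance, inferInstance, l, rfl, hnz⟩))
    · rw [← isZero_stalk_cokernel_iff]
      by_contra hnz
      exact hnS (Or.inr ((mem_supp_iff _ _).2 ⟨Ω', inferInstance, inferInstance, l, rfl, hnz⟩))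
  have hflcO : EtCoh.IsFiniteLocallyConstant ((EtCoh.pull O.ι).obj (G' F V)) :=
    isFLC_of_iso (asIso ((EtCoh.pull O.ι).map (ψ F ξ V t)))
      (isFLC_pull O.ι _ (isFLC_of_iso_const' _ M (Iso.refl _)))
  -- descend to the image of `O` in `X`
  let jO : O.toScheme ⟶ X := O.ι ≫ V.hom
  let U : X.Opens := ⟨Set.range jO, jO.isOpenMap.isOpen_range⟩
  have hxU : ξ default ∈ U := by
    obtain ⟨o, ho⟩ : yl default ∈ Set.range O.ι := by
      rw [Scheme.Opens.range_ι]
      exact hvO
    refine ⟨o, ?_⟩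
    change V.hom (O.ι o) = ξ default
    rw [ho, ← hyl]
    rfl
  refine ⟨U, hxU, ?_⟩
  have hr : Set.range jO ⊆ Set.range U.ι := by
    rw [Scheme.Opens.range_ι]
    exact subset_rfl
  let j' : O.toScheme ⟶ U.toScheme := IsOpenImmersion.lift U.ι jO hr
  have hj' : j' ≫ U.ι = jO := IsOpenImmersion.lift_fac U.ι jO hr
  have hetj' : Etale j' := by
    have : Etale (j' ≫ U.ι) := by rw [hj']; infer_instance
    exact Etale.of_comp j' U.ι
  apply isFLC_of_local
  intro u
  obtain ⟨o, ho⟩ : U.ι u ∈ Set.range jO := by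
    have h1 : U.ι u ∈ Set.range U.ι := ⟨u, rfl⟩
    rw [Scheme.Opens.range_ι U] at h1
    exact h1
  have hjo : j' o = u := by
    apply (Scheme.Hom.isOpenEmbedding U.ι).injective
    rw [← ho, ← hj']
    rfl
  refine ⟨O.toScheme, j', hetj', o, hjo, ?_⟩
  have e1 : (EtCoh.pull j').obj ((EtCoh.pull U.ι).obj F) ≅ (EtCoh.pull (j' ≫ U.ι)).obj F :=
    ((pullComp U.ι j').app F).symm
  have e2 : ∀ (k : O.toScheme ⟶ X) (_ : k = O.ι ≫ V.hom),
      (EtCoh.pull k).obj F ≅ (EtCoh.pull (O.ι ≫ V.hom)).obj F := by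
    rintro k rfl
    exact Iso.refl _
  have e3 : (EtCoh.pull (O.ι ≫ V.hom)).obj F ≅ (EtCoh.pull O.ι).obj (G' F V) :=
    (pullComp V.hom O.ι).app F ≪≫ (EtCoh.pull O.ι).mapIso
      ((Groth.Agent.Lib.Helper4.EtRestr.pullIsoRestr (EtOverEquiv.jU V)).app F)
  exact isFLC_of_iso (e1 ≪≫ e2 _ hj' ≪≫ e3).symm hflcO

end Backward

end Groth.Agent.Lib.Helper43.EtSpecIso
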