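import Mathlib
import Groth.Prelude.Def_NonAbH2
import Groth.Agent.Lib.Helper43.DSChar

set_option autoImplicit false
universe u

open CategoryTheory MonoidalCategory CartesianMonoidalCategory MonObj Limits AlgebraicGeometry
open scoped TensorProduct

namespace Groth.Agent.Lib.Helper43

section Cover
open Polynomial

/-- the Laurent polynomial ring `ℤ[T, T⁻¹]` -/
abbrev LZ : Type u := MonoidAlgebra (ULift.{u} ℤ) (Multiplicative ℤ)

/-- `X^n - T` -/
noncomputable def kumPoly (n : ℕ) : LZ.{u}[X] := X ^ n - C gmT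

lemma kumPoly_monic (n : ℕ) (hn : 0 < n) : (kumPoly.{u} n).Monic := monic_X_pow_sub_C _ hn.ne'

/-- `ℤ[T, T⁻¹][X]/(X^n - T)` -/
abbrev KumRing (n : ℕ) : Type u := AdjoinRoot (kumPoly.{u} n)

lemma kumRing_root_pow (n : ℕ) : (AdjoinRoot.root (kumPoly.{u} n)) ^ n = algebraMap LZ (KumRing n) gmT := by
  have h := AdjoinRoot.eval₂_root (kumPoly.{u} n)
  unfold kumPoly at h
  rw [eval₂_sub, eval₂_pow, eval₂_X, eval₂_C, sub_eq_zero] at h
  exact h

lemma isUnit_kumRing_root (n : ℕ) (hn : 0 < n) : IsUnit (AdjoinRoot.root (kumPoly.{u} n)) := by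
  have : IsUnit ((AdjoinRoot.root (kumPoly.{u} n)) ^ n) := by
    rw [kumRing_root_pow]
    exact isUnit_gmT.map _
  exact (isUnit_pow_iff hn.ne').1 this

lemma kumRing_nontrivial (n : ℕ) (hn : 0 < n) : Nontrivial (KumRing.{u} n) := by
  have h : AdjoinRoot.mk (kumPoly.{u} n) 1 ≠ 0 := by
    apply AdjoinRoot.mk_ne_zero_of_natDegree_lt (kumPoly_monic n hn) one_ne_zero
    rw [natDegree_one]
    unfold kumPoly
    rw [natDegree_X_pow_sub_C]
    exact hn
  exact nontrivial_of_ne _ _ h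

lemma kumRing_faithfullyFlat (n : ℕ) (hn : 0 < n) : Module.FaithfullyFlat LZ.{u} (KumRing.{u} n) := by
  have := kumRing_nontrivial.{u} n hn
  have := (kumPoly_monic.{u} n hn).free_adjoinRoot
  infer_instance

/-- the Kummer cover of `Spec ℤ[T,T⁻¹]` -/
noncomputable abbrev kumMap (n : ℕ) : Spec (CommRingCat.of (KumRing.{u} n)) ⟶ Spec (CommRingCat.of LZ.{u}) :=
  Spec.map (CommRingCat.ofHom (algebraMap LZ.{u} (KumRing.{u} n)))

lemma kumMap_flat_surj (n : ℕ) (hn : 0 < n) : Flat (kumMap.{u} n) ∧ Surjective (kumMap.{u} n) := by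
  rw [flat_and_surjective_SpecMap_iff]
  exact RingHom.faithfullyFlat_algebraMap_iff.mpr (kumRing_faithfullyFlat n hn)

lemma kumMap_lfp (n : ℕ) : LocallyOfFinitePresentation (kumMap.{u} n) := by
  rw [LocallyOfFinitePresentation.SpecMap_iff]
  exact RingHom.finitePresentation_algebraMap.mpr inferInstance

end Cover

end Groth.Agent.Lib.Helper43
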