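import Mathlib
import Groth.Prelude.Def_NonAbH2
import Groth.Agent.Lib.Helper43.DSMap
import Groth.Agent.Lib.Helper43.KumCover

set_option autoImplicit false
universe u

open CategoryTheory MonoidalCategory CartesianMonoidalCategory MonObj GrpObj Limits AlgebraicGeometry
open scoped TensorProduct

namespace Groth.Agent.Lib.Helper43

section KumExact

variable {S : Scheme.{u}}

lemma kummer_comp (n : ℕ) :
    Red.DSmap S (Int.castAddHom (ZMod n)) ≫ Red.chi S (n : ℤ) = 1 := by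
  apply gmFn_injective
  rw [gmFn_chi, gmFn_one, ← Category.id_comp (Red.DSmap S (Int.castAddHom (ZMod n))), chr_DSmap]
  have : AddMonoidHom.toMultiplicative (Int.castAddHom (ZMod n)) (Multiplicative.ofAdd (n : ℤ)) = 1 := by
    simp
  rw [this, chr_one_arg]

instance isMonHom_chi {M : Type} [AddCommGroup M] (m : M) : IsMonHom (Red.chi S m) := by
  unfold Red.chi
  infer_instance

/-- the translation map in terms of points -/
lemma comp_whiskerLeft_mul {G G' : Over S} [GrpObj G] [GrpObj G'] (u : G' ⟶ G) {W : Over S}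
    (l : W ⟶ G ⊗ G') : l ≫ (G ◁ u) ≫ μ[G] = (l ≫ fst _ _) * (l ≫ snd _ _ ≫ u) := by
  rw [Hom.mul_def, ← Category.assoc]
  congr 1
  apply CartesianMonoidalCategory.hom_ext <;> simp


lemma kummer_key (n : ℕ) (W : Over S) (a b : W ⟶ Red.Gm S)
    (hab : a ≫ Red.chi S (n : ℤ) = b ≫ Red.chi S (n : ℤ)) :
    ∃ z : W ⟶ Red.DS S (ZMod n), a * (z ≫ Red.DSmap S (Int.castAddHom (ZMod n))) = b := by
  have hpow : Red.gmFn a ^ n = Red.gmFn b ^ n := by
    rw [← gmFn_chi_natCast, ← gmFn_chi_natCast, hab]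
  let w : Γ(W.left, ⊤)ˣ := gmHom b / gmHom a
  have hw : w ^ n = 1 := by
    apply Units.ext
    rw [div_pow, Units.val_one]
    have h1 : gmHom a ^ n = gmHom b ^ n := by
      apply Units.ext
      rw [Units.val_pow_eq_pow_val, Units.val_pow_eq_pow_val]
      exact hpow
    rw [h1, div_self']
    rfl
  let χ₀ : ZMod n →+ Additive Γ(W.left, ⊤)ˣ :=
    ZMod.lift n ⟨zmultiplesHom _ (Additive.ofMul w), by
      change (n : ℤ) • Additive.ofMul w = 0
      rw [natCast_zsmul, ← ofMul_pow, hw]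
      rfl⟩
  let χ : Multiplicative (ZMod n) →* Γ(W.left, ⊤) :=
    (Units.coeHom _).comp (AddMonoidHom.toMultiplicativeLeft χ₀)
  have hχ : χ (Multiplicative.ofAdd ((1 : ℤ) : ZMod n)) = (w : Γ(W.left, ⊤)) := by
    change ((Additive.toMul (χ₀ ((1 : ℤ) : ZMod n)) : Γ(W.left, ⊤)ˣ) : Γ(W.left, ⊤)) = _
    rw [ZMod.lift_coe]
    simp
  obtain ⟨z, hz⟩ := chr_surjective χ
  refine ⟨z, ?_⟩
  apply gmFn_injective
  rw [gmFn_mul, gmFn_eq_chr (z ≫ _), chr_DSmap, hz]
  have : AddMonoidHom.toMultiplicative (Int.castAddHom (ZMod n)) (Multiplicative.ofAdd (1 : ℤ)) =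
      Multiplicative.ofAdd ((1 : ℤ) : ZMod n) := rfl
  rw [this, hχ]
  change ((gmHom a : Γ(W.left, ⊤)ˣ) : Γ(W.left, ⊤)) * ((gmHom b / gmHom a : Γ(W.left, ⊤)ˣ) : Γ(W.left, ⊤)) = (gmHom b : Γ(W.left, ⊤)ˣ)
  rw [← Units.val_mul, mul_div_cancel]

lemma kummer_isPullback (n : ℕ) :
    IsPullback (fst (Red.Gm S) (Red.DS S (ZMod n)))
      ((Red.Gm S ◁ Red.DSmap S (Int.castAddHom (ZMod n))) ≫ μ[Red.Gm S])
      (Red.chi S (n : ℤ)) (Red.chi S (n : ℤ)) := by
  have hmono : Mono (Red.DSmap S (Int.castAddHom (ZMod n))) :=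
    mono_DSmap_of_surjective _ (ZMod.intCast_surjective)
  have hcomp : Red.DSmap S (Int.castAddHom (ZMod n)) ≫ Red.chi S (n : ℤ) = 1 := kummer_comp n
  have w : fst (Red.Gm S) (Red.DS S (ZMod n)) ≫ Red.chi S (n : ℤ) =
      ((Red.Gm S ◁ Red.DSmap S (Int.castAddHom (ZMod n))) ≫ μ[Red.Gm S]) ≫ Red.chi S (n : ℤ) := by
    have h := comp_whiskerLeft_mul (Red.DSmap S (Int.castAddHom (ZMod n))) (𝟙 (Red.Gm S ⊗ Red.DS S (ZMod n)))
    rw [Category.id_comp, Category.id_comp, Category.id_comp] at h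
    rw [h, MonObj.mul_comp _ _ (Red.chi S (n : ℤ)), Category.assoc, hcomp, MonObj.comp_one, _root_.mul_one]
  refine IsPullback.mk ⟨w⟩ ⟨PullbackCone.IsLimit.mk w
    (fun s => lift s.fst (kummer_key n _ s.fst s.snd s.condition).choose) ?_ ?_ ?_⟩
  · intro s
    simp
  · intro s
    rw [comp_whiskerLeft_mul]
    simp only [lift_fst, lift_snd_assoc]
    exact (kummer_key n _ s.fst s.snd s.condition).choose_spec
  · intro s m h1 h2
    apply CartesianMonoidalCategory.hom_ext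
    · simp [h1]
    · rw [lift_snd]
      rw [← cancel_mono (Red.DSmap S (Int.castAddHom (ZMod n)))]
      have h3 := (kummer_key n _ s.fst s.snd s.condition).choose_spec
      rw [comp_whiskerLeft_mul, h1] at h2
      rw [← h3] at h2
      have h4 := congrArg (fun t => s.fst⁻¹ * t) h2
      simpa using h4


lemma kummer_locTriv (n : ℕ) (hn : 0 < n) :
    NonAbH1.IsLocallyTrivialFor Scheme.fppfPrecoverage
      (Over.mk (Red.chi S (n : ℤ)).left : Over (Red.Gm S).left) := by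
  let p₁ : (Red.Gm S).left ⟶ Spec (CommRingCat.of LZ.{u}) := pullback.fst _ _
  let f : pullback p₁ (kumMap.{u} n) ⟶ (Red.Gm S).left := pullback.fst p₁ (kumMap.{u} n)
  have h1 : Flat (kumMap.{u} n) := (kumMap_flat_surj n hn).1
  have h2 : Surjective (kumMap.{u} n) := (kumMap_flat_surj n hn).2
  have h3 : LocallyOfFinitePresentation (kumMap.{u} n) := kumMap_lfp n
  have h1' : Flat f := inferInstance
  have h2' : Surjective f := inferInstance
  have h3' : LocallyOfFinitePresentation f := inferInstance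
  refine ⟨Presieve.singleton f, f.singleton_mem_fppfPrecoverage, ?_⟩
  intro T g hg
  cases hg
  let W : Over S := Over.mk (f ≫ (Red.Gm S).hom)
  let fW : W ⟶ Red.Gm S := Over.homMk f rfl
  let r : Γ(W.left, ⊤) := ptFn (pullback.snd p₁ (kumMap.{u} n)) (AdjoinRoot.root (kumPoly.{u} n))
  have hr : IsUnit r := (isUnit_kumRing_root n hn).map (ptFnHom (pullback.snd p₁ (kumMap.{u} n)))
  obtain ⟨s, hs⟩ := gmFn_surjective (X := W) hr.unit
  have key : s ≫ Red.chi S (n : ℤ) = fW := by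
    apply gmFn_injective
    rw [gmFn_chi_natCast, hs, IsUnit.unit_spec]
    have e1 : Red.gmFn fW = ptFn (f ≫ p₁) gmT := rfl
    have e2 : f ≫ p₁ = pullback.snd p₁ (kumMap.{u} n) ≫ kumMap.{u} n := pullback.condition
    rw [e1, e2, ptFn_specMap, ← kumRing_root_pow, ← ptFnHom_apply, map_pow]
    rfl
  exact ⟨s.left, congrArg (fun t => t.left) key⟩

theorem kummer_isExactSeq_fppf (n : ℕ) (hn : 0 < n) :
    NonAbH1.IsExactSeq Scheme.fppfPrecoverage
      (Red.DSmap S (Int.castAddHom (ZMod n))) (Red.chi S (n : ℤ)) :=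
  ⟨inferInstance, inferInstance, kummer_comp n, kummer_isPullback n, kummer_locTriv n hn⟩

theorem kummer_isExactSeq_fpqc (n : ℕ) (hn : 0 < n) :
    NonAbH1.IsExactSeq Scheme.fpqcPrecoverage
      (Red.DSmap S (Int.castAddHom (ZMod n))) (Red.chi S (n : ℤ)) := by
  obtain ⟨R, hR, h⟩ := kummer_locTriv (S := S) n hn
  exact ⟨inferInstance, inferInstance, kummer_comp n, kummer_isPullback n,
    ⟨R, Scheme.fppfPrecoverage_le_fpqcPrecoverage _ hR, h⟩⟩

end KumExact

end Groth.Agent.Lib.Helper43
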