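import Mathlib
import Groth.Prelude.Def_EtGm
import Groth.Agent.Lib.Helper43.MuSheaf

set_option autoImplicit false
open CategoryTheory CategoryTheory.Limits AlgebraicGeometry Opposite
universe u

namespace Groth.Agent.Lib.Helper43.MuConst

open Polynomial

/-- the standard étale pair `(X^n - b, 1)` for units `b`, `n`. -/
noncomputable def kummerPair {B : Type u} [CommRing B] (n : ℕ) (hn : 0 < n) (b : Bˣ) (nu : Bˣ)
    (hnu : (nu : B) = n) : StandardEtalePair B where
  f := X ^ n - C (b : B)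
  monic_f := monic_X_pow_sub_C _ hn.ne'
  g := 1
  cond := by
    refine ⟨C ((↑(nu⁻¹) : B) * ↑(b⁻¹)) * X, - C (↑(b⁻¹) : B), 0, ?_⟩
    rw [derivative_sub, derivative_C, sub_zero, derivative_X_pow, pow_zero]
    obtain ⟨m, rfl⟩ : ∃ m, n = m + 1 := ⟨n - 1, by omega⟩
    have h1 : (C (↑(m + 1 : ℕ) : B) : B[X]) = C (nu : B) := by rw [hnu]
    simp only [Nat.add_sub_cancel]
    have e1 : (C ((m + 1 : ℕ) : B) : B[X]) * C ((↑(nu⁻¹) : B) * ↑(b⁻¹)) = C (↑(b⁻¹) : B) := by
      rw [← C_mul, ← hnu, ← mul_assoc, Units.mul_inv, one_mul]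
    have e2 : (C (b : B) : B[X]) * C (↑(b⁻¹) : B) = 1 := by
      rw [← C_mul, Units.mul_inv, C_1]
    calc C ((m + 1 : ℕ) : B) * X ^ m * (C ((↑(nu⁻¹) : B) * ↑(b⁻¹)) * X)
          + (X ^ (m + 1) - C (b : B)) * -C (↑(b⁻¹) : B)
        = (C ((m + 1 : ℕ) : B) * C ((↑(nu⁻¹) : B) * ↑(b⁻¹))) * X ^ (m + 1)
          - X ^ (m + 1) * C (↑(b⁻¹) : B) + C (b : B) * C (↑(b⁻¹) : B) := by ring
      _ = 1 := by rw [e1, e2]; ring

lemma kummerPair_X_pow {B : Type u} [CommRing B] (n : ℕ) (hn : 0 < n) (b : Bˣ) (nu : Bˣ)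
    (hnu : (nu : B) = n) :
    (kummerPair n hn b nu hnu).X ^ n = algebraMap B (kummerPair n hn b nu hnu).Ring (b : B) := by
  have h := (kummerPair n hn b nu hnu).hasMap_X.1
  have hf : (kummerPair n hn b nu hnu).f = X ^ n - C (b : B) := rfl
  rw [hf, map_sub, map_pow, aeval_X, aeval_C] at h
  exact sub_eq_zero.mp h

/-- lying over for the Kummer cover. -/
lemma kummerPair_exists_prime {B : Type u} [CommRing B] (n : ℕ) (hn : 0 < n) (b : Bˣ) (nu : Bˣ)
    (hnu : (nu : B) = n) (p : Ideal B) [p.IsPrime] :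
    ∃ q : Ideal (kummerPair n hn b nu hnu).Ring, q.IsPrime ∧
      q.comap (algebraMap B (kummerPair n hn b nu hnu).Ring) = p := by
  let K := AlgebraicClosure p.ResidueField
  obtain ⟨x, hx⟩ := IsAlgClosed.exists_pow_nat_eq (algebraMap B K (b : B)) hn
  have hmap : (kummerPair n hn b nu hnu).HasMap x := by
    constructor
    · have hf : (kummerPair n hn b nu hnu).f = X ^ n - C (b : B) := rfl
      rw [hf, map_sub, map_pow, aeval_X, aeval_C, hx, sub_self]
    · have hg : (kummerPair n hn b nu hnu).g = 1 := rfl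
      rw [hg, map_one]
      exact isUnit_one
  let φ := (kummerPair n hn b nu hnu).lift x hmap
  refine ⟨RingHom.ker φ.toRingHom, RingHom.ker_isPrime _, ?_⟩
  rw [RingHom.comap_ker]
  have h1 : φ.toRingHom.comp (algebraMap B (kummerPair n hn b nu hnu).Ring) = algebraMap B K :=
    φ.comp_algebraMap
  rw [h1]
  ext y
  rw [RingHom.mem_ker, IsScalarTower.algebraMap_apply B p.ResidueField K, map_eq_zero,
    Ideal.algebraMap_residueField_eq_zero]


variable {S : Scheme.{u}}

lemma Spec_map_appTop {B B' : CommRingCat.{u}} (φ : B ⟶ B') :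
    (Spec.map φ).appTop = (Scheme.ΓSpecIso B).hom ≫ φ ≫ (Scheme.ΓSpecIso B').inv := by
  rw [← Category.assoc, ← Scheme.ΓSpecIso_naturality, Category.assoc, Iso.hom_inv_id, Category.comp_id]

theorem isLocallySurjective_powMap (n : ℕ) (hn : IsUnit (n : Γ(S, ⊤))) :
    Presheaf.IsLocallySurjective S.smallEtaleTopology (EtCoh.powMap S n).hom where
  imageSieve_mem {U} s := by
    have hnU : IsUnit (n : Γ(U.left, ⊤)) := by simpa using hn.map (res S U)
    by_cases hn0 : n = 0
    · subst hn0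
      rw [Nat.cast_zero, isUnit_zero_iff] at hnU
      have : Subsingleton Γ(U.left, ⊤) := subsingleton_of_zero_eq_one hnU
      exact mem_of_isEmpty (isEmpty_of_subsingleton_Γ _) _
    have hnpos : 0 < n := Nat.pos_of_ne_zero hn0
    rw [EtOpenSub.mem_smallEtaleTopology_iff']
    intro x
    let 𝒰 := U.left.affineOpenCover
    obtain ⟨x₀, hx₀⟩ := 𝒰.covers x
    let B : CommRingCat.{u} := 𝒰.X (𝒰.idx x)
    let j : Spec B ⟶ U.left := 𝒰.f (𝒰.idx x)
    let ρ : Γ(U.left, ⊤) →+* B := ((Scheme.ΓSpecIso B).hom.hom).comp (j.appTop).hom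
    let b : Bˣ := Units.map ρ.toMonoidHom (unGm s)
    let nu : Bˣ := (hnU.map ρ).unit
    have hnu : (nu : B) = n := by
      change ρ (n : Γ(U.left, ⊤)) = n
      rw [map_natCast]
    let P := kummerPair n hnpos b nu hnu
    let B' : CommRingCat.{u} := CommRingCat.of P.Ring
    let φ : B ⟶ B' := CommRingCat.ofHom (algebraMap B P.Ring)
    have hφ : Etale (Spec.map φ) :=
      HasRingHomProperty.Spec_iff.mpr (RingHom.etale_algebraMap.mpr inferInstance)
    let V : S.Etale := Scheme.Etale.mk (Spec.map φ ≫ j ≫ U.hom)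
    let g : V ⟶ U := MorphismProperty.Over.homMk (Spec.map φ ≫ j) (Category.assoc _ _ _)
    obtain ⟨q, hq, hqp⟩ := kummerPair_exists_prime n hnpos b nu hnu x₀.asIdeal
    let y : Spec B' := ⟨q, hq⟩
    have hy : (Spec.map φ) y = x₀ := PrimeSpectrum.ext hqp
    refine ⟨V, g, y, ?_, ?_⟩
    · have hXn : P.X ^ n = algebraMap B P.Ring (b : B) := kummerPair_X_pow n hnpos b nu hnu
      have hXu : IsUnit P.X := by
        have : IsUnit (P.X ^ n) := by rw [hXn]; exact b.isUnit.map _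
        exact (isUnit_pow_iff hnpos.ne').1 this
      let t : (Γ(V.left, ⊤))ˣ := Units.map ((Scheme.ΓSpecIso B').inv.hom).toMonoidHom hXu.unit
      refine ⟨mkGm t, ?_⟩
      rw [powMap_app]
      apply unGm_injective
      rw [unGm_nsmul, unGm_mkGm, unGm_Gm_map]
      apply Units.ext
      rw [Units.val_pow_eq_pow_val]
      change ((Scheme.ΓSpecIso B').inv.hom P.X) ^ n = (g.left.appTop).hom ((unGm s : (Γ(U.left, ⊤))ˣ) : Γ(U.left, ⊤))
      have hg : g.left.appTop = j.appTop ≫ (Spec.map φ).appTop := by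
        change (Spec.map φ ≫ j).appTop = _
        rw [Scheme.Hom.comp_appTop]
      rw [hg, Spec_map_appTop, ← map_pow, hXn]
      rfl
    · change (Spec.map φ ≫ j) y = x
      rw [Scheme.Hom.comp_apply, hy, hx₀]

theorem epi_powMap (n : ℕ) (hn : IsUnit (n : Γ(S, ⊤))) : Epi (EtCoh.powMap S n) := by
  have : Sheaf.IsLocallySurjective (EtCoh.powMap S n) := isLocallySurjective_powMap n hn
  exact Sheaf.epi_of_isLocallySurjective _

end Groth.Agent.Lib.Helper43.MuConst
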