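import Mathlib

/-!
# Constructible sets in Noetherian quasi-sober spaces: closures and specializations
-/

set_option autoImplicit false
open Topology TopologicalSpace Set

namespace Groth.Agent.Lib.Helper43.NoethConstr

variable {Y : Type*} [TopologicalSpace Y]

/-- an induction principle for constructible sets: differences of retrocompact opens and unions -/
lemma isConstructible_sdiff_union_induction {P : Set Y → Prop}
    (sdiff : ∀ U V : Set Y, IsOpen U → IsOpen V → P (U \ V))
    (union : ∀ s t, P s → P t → P (s ∪ t))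
    {s : Set Y} (hs : IsConstructible s) : P s := by
  induction s, hs using BooleanSubalgebra.closure_sdiff_sup_induction with
  | isSublattice =>
    exact ⟨fun s hs t ht ↦ ⟨hs.1.union ht.1, hs.2.union ht.2⟩,
      fun s hs t ht ↦ ⟨hs.1.inter ht.1, hs.2.inter_isOpen ht.2 ht.1⟩⟩
  | bot_mem => exact ⟨isOpen_empty, .empty⟩
  | top_mem => exact ⟨isOpen_univ, .univ⟩
  | sdiff U hU V hV => exact sdiff U V hU.1 hV.1
  | sup s _ t _ hs' ht' => exact union _ _ hs' ht'

variable [NoetherianSpace Y] [QuasiSober Y]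

lemma exists_specializes_of_mem_closure_inter {U Z : Set Y} (hU : IsOpen U) (hZ : IsClosed Z)
    {y : Y} (hy : y ∈ closure (U ∩ Z)) : ∃ s ∈ U ∩ Z, s ⤳ y := by
  obtain ⟨S, hfin, hcl, hirr, rfl⟩ := NoetherianSpace.exists_finite_set_isClosed_irreducible hZ
  rw [sUnion_eq_biUnion, inter_iUnion₂, hfin.closure_biUnion] at hy
  obtain ⟨C, hC, hyC⟩ := mem_iUnion₂.1 hy
  obtain ⟨ζ, hζ⟩ := QuasiSober.sober (hirr C hC) (hcl C hC)
  have hne : (U ∩ C).Nonempty := by
    by_contra h
    rw [not_nonempty_iff_eq_empty] at h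
    rw [h, closure_empty] at hyC
    exact hyC
  have hζU : ζ ∈ U := (hζ.mem_open_set_iff hU).2 (by rwa [inter_comm])
  refine ⟨ζ, ⟨hζU, mem_sUnion.2 ⟨C, hC, hζ.mem⟩⟩, ?_⟩
  rw [specializes_iff_mem_closure, hζ.def]
  exact closure_minimal inter_subset_right (hcl C hC) hyC

/-- in a Noetherian quasi-sober space the closure of a constructible set consists of the
specializations of its points -/
theorem exists_specializes_of_mem_closure {S : Set Y} (hS : IsConstructible S) {y : Y}
    (hy : y ∈ closure S) : ∃ s ∈ S, s ⤳ y := by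
  refine isConstructible_sdiff_union_induction
    (P := fun S => ∀ y, y ∈ closure S → ∃ s ∈ S, s ⤳ y) ?_ ?_ hS y hy
  · intro U V hU hV y hy
    rw [Set.sdiff_eq] at hy ⊢
    exact exists_specializes_of_mem_closure_inter hU hV.isClosed_compl hy
  · intro s t hs ht y hy
    rw [closure_union] at hy
    rcases hy with hy | hy
    · obtain ⟨z, hz, hzy⟩ := hs y hy
      exact ⟨z, Or.inl hz, hzy⟩
    · obtain ⟨z, hz, hzy⟩ := ht y hy
      exact ⟨z, Or.inr hz, hzy⟩

theorem closure_subset_of_stableUnderSpecialization {S E : Set Y} (hS : IsConstructible S)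
    (hE : StableUnderSpecialization E) (h : S ⊆ E) : closure S ⊆ E := by
  intro y hy
  obtain ⟨s, hs, hsy⟩ := exists_specializes_of_mem_closure hS hy
  exact hE hsy (h hs)

/-- every point of a closed set is a specialization of a maximal point of that set -/
theorem exists_maximal_point [T0Space Y] {T : Set Y} (hT : IsClosed T) {t : Y} (ht : t ∈ T) :
    ∃ η ∈ T, η ⤳ t ∧ ∀ s ∈ T, s ⤳ η → s = η := by
  obtain ⟨S, hfin, hcl, hirr, rfl⟩ := NoetherianSpace.exists_finite_set_isClosed_irreducible hT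
  obtain ⟨C, hC, htC⟩ := mem_sUnion.1 ht
  obtain ⟨C', hCC', hmax⟩ := hfin.exists_le_maximal hC
  obtain ⟨η, hη⟩ := QuasiSober.sober (hirr C' hmax.prop) (hcl C' hmax.prop)
  refine ⟨η, mem_sUnion.2 ⟨C', hmax.prop, hη.mem⟩, hη.specializes (hCC' htC), ?_⟩
  intro s hs hsη
  obtain ⟨C'', hC'', hsC''⟩ := mem_sUnion.1 hs
  have h1 : η ∈ C'' := (hsη.mem_closed (hcl C'' hC'')) hsC''
  have h2 : C' ⊆ C'' := (hη.mem_closed_set_iff (hcl C'' hC'')).1 h1
  have h3 : C'' ⊆ C' := hmax.le_of_ge hC'' h2
  have h4 : η ⤳ s := hη.specializes (h3 hsC'')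
  exact (hsη.antisymm h4).eq

end Groth.Agent.Lib.Helper43.NoethConstr
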