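import Mathlib
import Groth.Agent.Lib.Helper43.StrataLib

set_option autoImplicit false
universe u
open CategoryTheory Limits Opposite AlgebraicGeometry TopologicalSpace Topology

namespace Groth.Agent.Lib.Helper43.NoethStrata

open StrataLib

variable {X : Scheme.{u}}

/-- A finite stratification of `S ⊆ X` by immersions satisfying `P`, without constructibility. -/
def Strata₀ (P : ∀ (T : Scheme.{u}), (T ⟶ X) → Prop) (S : Set X) : Prop :=
  ∃ (n : ℕ) (T : Fin n → Scheme.{u}) (g : ∀ i, T i ⟶ X),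
    (∀ i, IsImmersion (g i)) ∧
    Pairwise (fun i j => Disjoint (Set.range (g i)) (Set.range (g j))) ∧
    (⋃ i, Set.range (g i)) = S ∧
    ∀ i, P (T i) (g i)

variable {P : ∀ (T : Scheme.{u}), (T ⟶ X) → Prop}

theorem Strata₀.of_finite {S : Set X}
    (ι : Type) [Finite ι] (T : ι → Scheme.{u}) (g : ∀ i, T i ⟶ X)
    (h1 : ∀ i, IsImmersion (g i))
    (h3 : Pairwise (fun i j => Disjoint (Set.range (g i)) (Set.range (g j))))
    (h4 : (⋃ i, Set.range (g i)) = S)
    (h5 : ∀ i, P (T i) (g i)) : Strata₀ P S := by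
  obtain ⟨n, ⟨e⟩⟩ := Finite.exists_equiv_fin ι
  refine ⟨n, fun k => T (e.symm k), fun k => g (e.symm k), fun k => h1 _, ?_, ?_,
    fun k => h5 _⟩
  · intro a b hab
    exact h3 (fun h => hab (e.symm.injective h))
  · rw [← h4]
    ext x
    simp only [Set.mem_iUnion]
    constructor
    · rintro ⟨k, hk⟩
      exact ⟨_, hk⟩
    · rintro ⟨i, hi⟩
      refine ⟨e i, ?_⟩
      have : ∀ j, j = i → x ∈ Set.range (g j) := by
        rintro j rfl
        exact hi
      exact this _ (e.symm_apply_apply i)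

theorem Strata₀.empty : Strata₀ P (∅ : Set X) :=
  Strata₀.of_finite PEmpty (fun i => i.elim) (fun i => i.elim) (fun i => i.elim)
    (fun i => i.elim) (by simp) (fun i => i.elim)

theorem Strata₀.single {T : Scheme.{u}} (g : T ⟶ X) [IsImmersion g] (hg : P T g) :
    Strata₀ P (Set.range g) :=
  Strata₀.of_finite PUnit (fun _ => T) (fun _ => g) (fun _ => inferInstance)
    (fun i j hij => (hij (Subsingleton.elim i j)).elim) (Set.iUnion_const _) (fun _ => hg)

theorem Strata₀.union {S₁ S₂ : Set X} (h₁ : Strata₀ P S₁) (h₂ : Strata₀ P S₂)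
    (hd : Disjoint S₁ S₂) : Strata₀ P (S₁ ∪ S₂) := by
  obtain ⟨n₁, T₁, g₁, a1, a3, a4, a5⟩ := h₁
  obtain ⟨n₂, T₂, g₂, b1, b3, b4, b5⟩ := h₂
  have hs1 : ∀ i, Set.range (g₁ i) ⊆ S₁ := fun i => by
    rw [← a4]; exact Set.subset_iUnion (fun i => Set.range (g₁ i)) i
  have hs2 : ∀ i, Set.range (g₂ i) ⊆ S₂ := fun i => by
    rw [← b4]; exact Set.subset_iUnion (fun i => Set.range (g₂ i)) i
  refine Strata₀.of_finite (Fin n₁ ⊕ Fin n₂) (Sum.elim T₁ T₂)
    (fun i => match i with | Sum.inl i => g₁ i | Sum.inr i => g₂ i) ?_ ?_ ?_ ?_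
  · rintro (i | i)
    · exact a1 i
    · exact b1 i
  · rintro (i | i) (j | j) hij
    · exact a3 (fun h => hij (by rw [h]))
    · exact hd.mono (hs1 i) (hs2 j)
    · exact hd.symm.mono (hs2 i) (hs1 j)
    · exact b3 (fun h => hij (by rw [h]))
  · rw [← a4, ← b4]
    ext x
    simp only [Set.mem_iUnion, Set.mem_union, Sum.exists]
    exact Iff.rfl
  · rintro (i | i)
    · exact a5 i
    · exact b5 i

theorem Strata₀.inter_opens
    (hP : ∀ {T T' : Scheme.{u}} (h : T' ⟶ T) (g : T ⟶ X), P T g → P T' (h ≫ g))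
    {S : Set X} (hS : Strata₀ P S) (O : X.Opens) : Strata₀ P (S ∩ (O : Set X)) := by
  obtain ⟨n, T, g, h1, h3, h4, h5⟩ := hS
  refine ⟨n, fun i => ((g i) ⁻¹ᵁ O).toScheme, fun i => ((g i) ⁻¹ᵁ O).ι ≫ g i,
    fun i => inferInstance, ?_, ?_, fun i => hP _ _ (h5 i)⟩
  · intro a b hab
    simp only [range_ι_comp]
    exact (h3 hab).mono Set.inter_subset_left Set.inter_subset_left
  · simp only [range_ι_comp]
    rw [← Set.iUnion_inter, h4]

theorem isConstructible_of_isLocallyClosed {Y : Type*} [TopologicalSpace Y] [NoetherianSpace Y]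
    {s : Set Y} (hs : IsLocallyClosed s) : IsConstructible s := by
  obtain ⟨U, Z, hU, hZ, rfl⟩ := hs
  have hrc : ∀ V : Set Y, IsOpen V → IsConstructible V := fun V hV =>
    IsRetrocompact.isConstructible hV (fun W _ _ => NoetherianSpace.isCompact _)
  have := (hrc _ hZ.isOpen_compl).compl
  rw [compl_compl] at this
  exact (hrc U hU).inter this

theorem Strata₀.toStrata [NoetherianSpace X] {S : Set X} (h : Strata₀ P S) : Strata P S := by
  obtain ⟨n, T, g, h1, h3, h4, h5⟩ := h
  refine ⟨n, T, g, h1, fun i => ?_, h3, h4, h5⟩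
  haveI := h1 i
  exact isConstructible_of_isLocallyClosed
    ((g i).isLocallyClosed_range.preimage continuous_subtype_val)

/-- Noetherian induction: local triviality on an open part of the closure of each point gives a
finite stratification of every closed subset. -/
theorem strata₀_closeds [NoetherianSpace X]
    (hP : ∀ {T T' : Scheme.{u}} (h : T' ⟶ T) (g : T ⟶ X), P T g → P T' (h ≫ g))
    (hyp : ∀ x : X, ∃ (V : X.Opens) (T : Scheme.{u}) (g : T ⟶ X), IsImmersion g ∧ x ∈ V ∧
      Set.range g = (V : Set X) ∩ closure {x} ∧ P T g) (Z : Closeds X) :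
    Strata₀ P (Z : Set X) := by
  refine wellFounded_lt.induction (C := fun Z : Closeds X => Strata₀ P (Z : Set X)) Z ?_
  intro Z H
  rcases eq_or_ne Z ⊥ with rfl | h₀
  · simpa using (Strata₀.empty (P := P))
  · by_cases h₁ : IsPreirreducible (Z : Set X)
    · have hirr : IsIrreducible (Z : Set X) := ⟨Closeds.coe_nonempty.2 h₀, h₁⟩
      obtain ⟨x, hx⟩ := QuasiSober.sober hirr Z.isClosed
      obtain ⟨V, T, g, himm, hxV, hr, hPg⟩ := hyp x
      rw [hx.def] at hr
      have hxZ : x ∈ (Z : Set X) := hx.mem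
      let Z' : Closeds X := Z ⊓ ⟨(V : Set X)ᶜ, V.isOpen.isClosed_compl⟩
      have hlt : Z' < Z := by
        refine lt_of_le_of_ne inf_le_left (fun heq => ?_)
        have : x ∈ (Z' : Set X) := by rw [heq]; exact hxZ
        exact this.2 hxV
      have h1 := H Z' hlt
      have h2 : Strata₀ P (Set.range g) := Strata₀.single g hPg
      have hd : Disjoint (Z' : Set X) (Set.range g) := by
        rw [hr]
        refine Set.disjoint_left.2 fun y hy hy' => hy.2 hy'.1
      have := h1.union h2 hd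
      convert this using 1
      rw [hr]
      ext y
      simp only [Z', Closeds.coe_inf, Closeds.coe_mk, Set.mem_union, Set.mem_inter_iff,
        Set.mem_compl_iff, SetLike.mem_coe]
      tauto
    · simp only [isPreirreducible_iff_isClosed_union_isClosed, not_forall, not_or] at h₁
      obtain ⟨z₁, z₂, hz₁, hz₂, h, hz₁', hz₂'⟩ := h₁
      lift z₁ to Closeds X using hz₁
      lift z₂ to Closeds X using hz₂
      have h1 := H (Z ⊓ z₁) (inf_lt_left.2 hz₁')
      have h2 := (H (Z ⊓ z₂) (inf_lt_left.2 hz₂')).inter_opens hP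
        ⟨(z₁ : Set X)ᶜ, z₁.isClosed.isOpen_compl⟩
      have hd : Disjoint ((Z ⊓ z₁ : Closeds X) : Set X)
          (((Z ⊓ z₂ : Closeds X) : Set X) ∩ (z₁ : Set X)ᶜ) :=
        Set.disjoint_left.2 fun y hy hy' => hy'.2 hy.2
      have := h1.union h2 hd
      convert this using 1
      ext y
      simp only [Closeds.coe_inf, Set.mem_union, Set.mem_inter_iff, Set.mem_compl_iff,
        SetLike.mem_coe, Opens.coe_mk]
      constructor
      · intro hy
        rcases h hy with h' | h'
        · exact Or.inl ⟨hy, h'⟩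
        · by_cases hy1 : y ∈ z₁
          · exact Or.inl ⟨hy, hy1⟩
          · exact Or.inr ⟨⟨hy, h'⟩, hy1⟩
      · rintro (hy | hy)
        · exact hy.1
        · exact hy.1.1

end Groth.Agent.Lib.Helper43.NoethStrata
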