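import Groth.Prelude.Def_NonAbH1
import Mathlib

/-!
# Non-abelian H¹ (Def_NonAbH1): torsors, sections, trivialisations (helper43)
-/

set_option autoImplicit false
universe w v u

namespace Groth.Agent.Lib.Helper43
namespace NonAbH1Lib

open CategoryTheory Opposite NonAbH1 NonAbH1.GSheaf

variable {C : Type u} [Category.{v} C] {J : GrothendieckTopology C} {G : Sheaf J GrpCat.{w}}

lemma eqvGen_iso {P Q : Torsor G}
    (h : Relation.EqvGen (fun P Q : Torsor G => Nonempty (P.toGSheaf ≅ Q.toGSheaf)) P Q) :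
    Nonempty (P.toGSheaf ≅ Q.toGSheaf) := by
  induction h with
  | rel _ _ h => exact h
  | refl _ => exact ⟨Iso.refl _⟩
  | symm _ _ _ ih => exact ⟨ih.some.symm⟩
  | trans _ _ _ _ _ ih1 ih2 => exact ⟨ih1.some ≪≫ ih2.some⟩

/-- two torsors have the same class iff they are equivariantly isomorphic -/
lemma cl_eq_iff (P Q : Torsor G) : P.cl = Q.cl ↔ Nonempty (P.toGSheaf ≅ Q.toGSheaf) := by
  constructor
  · intro h
    exact eqvGen_iso (Quot.eqvGen_exact h)
  · intro h
    exact Quot.sound h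

/-- an equivariant morphism that is bijective on all sections is an isomorphism of `G`-sheaves -/
lemma isIso_of_bijective {P Q : GSheaf G} (f : P ⟶ Q)
    (h : ∀ U, Function.Bijective (f.hom.hom.app U)) : IsIso f := by
  have h1 : ∀ U, IsIso (f.hom.hom.app U) := fun U => (isIso_iff_bijective _).2 (h U)
  have h2 : IsIso f.hom.hom := NatIso.isIso_of_isIso_app _
  have h3 : IsIso ((sheafToPresheaf J (Type w)).map f.hom) := h2
  have h4 : IsIso f.hom := isIso_of_reflects_iso f.hom (sheafToPresheaf J (Type w))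
  have e1 : ∀ U (q : Q.P.obj.obj U), f.hom.hom.app U ((inv f.hom).hom.app U q) = q := by
    intro U q
    have := congrArg (fun φ : Q.P ⟶ Q.P => φ.hom.app U q) (IsIso.inv_hom_id f.hom)
    exact this
  have e2 : ∀ U (p : P.P.obj.obj U), (inv f.hom).hom.app U (f.hom.hom.app U p) = p := by
    intro U p
    have := congrArg (fun φ : P.P ⟶ P.P => φ.hom.app U p) (IsIso.hom_inv_id f.hom)
    exact this
  let g : Q ⟶ P := ⟨inv f.hom, by
    intro U a q
    apply (h U).1
    rw [e1, f.map_smul, e1]⟩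
  exact ⟨⟨g, GSheaf.hom_ext (IsIso.hom_inv_id f.hom), GSheaf.hom_ext (IsIso.inv_hom_id f.hom)⟩⟩

section Glue

/-! ### Gluing sections defined on a locally covering, restriction-stable class of objects -/

/-- the sieve on `U` of all arrows whose source lies in the class `D` -/
def domSieve (D : C → Prop) (hD : ∀ ⦃V W : C⦄ (_ : W ⟶ V), D V → D W) (U : C) : Sieve U where
  arrows := fun V _ => D V
  downward_closed := fun h f => hD f h

lemma domSieve_mem {D : C → Prop} (hD : ∀ ⦃V W : C⦄ (_ : W ⟶ V), D V → D W)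
    (hcov : ∀ U : C, ∃ S ∈ J U, ∀ ⦃V : C⦄ (f : V ⟶ U), S f → D V) (U : C) :
    domSieve D hD U ∈ J U := by
  obtain ⟨S, hS, h⟩ := hcov U
  exact J.superset_covering (fun V f hf => h f hf) hS

/-- two sections of a sheaf agree if they agree on all members of `D` -/
lemma ext_of_dom {D : C → Prop} (hD : ∀ ⦃V W : C⦄ (_ : W ⟶ V), D V → D W)
    (hcov : ∀ U : C, ∃ S ∈ J U, ∀ ⦃V : C⦄ (f : V ⟶ U), S f → D V)
    (H : Sheaf J (Type w)) {U : C} (x y : H.obj.obj (op U))
    (h : ∀ ⦃V : C⦄ (f : V ⟶ U), D V → H.obj.map f.op x = H.obj.map f.op y) : x = y :=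
  (H.property.isSheafFor _ (domSieve_mem hD hcov U)).isSeparatedFor.ext
    (fun _ f hf => h f hf)

/-- a compatible family of sections over the members of `D` glues to a global section -/
lemma exists_glue {D : C → Prop} (hD : ∀ ⦃V W : C⦄ (_ : W ⟶ V), D V → D W)
    (hcov : ∀ U : C, ∃ S ∈ J U, ∀ ⦃V : C⦄ (f : V ⟶ U), S f → D V)
    (H : Sheaf J (Type w)) (h : ∀ V, D V → H.obj.obj (op V))
    (hcompat : ∀ ⦃V W : C⦄ (f : W ⟶ V) (hV : D V), H.obj.map f.op (h V hV) = h W (hD f hV)) :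
    ∃ g : H.obj.sections, ∀ V (hV : D V), g.1 (op V) = h V hV := by
  have hsh : ∀ U : C, Presieve.IsSheafFor H.obj (domSieve D hD U).arrows :=
    fun U => H.property.isSheafFor _ (domSieve_mem hD hcov U)
  let x : ∀ U : C, Presieve.FamilyOfElements H.obj (domSieve D hD U).arrows :=
    fun U V f hf => h V hf
  have hx : ∀ U, (x U).Compatible := by
    intro U Y₁ Y₂ Z g₁ g₂ f₁ f₂ h₁ h₂ _
    change H.obj.map g₁.op (h Y₁ h₁) = H.obj.map g₂.op (h Y₂ h₂)
    rw [hcompat g₁ h₁, hcompat g₂ h₂]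
  let g : ∀ U : Cᵒᵖ, H.obj.obj U := fun U => (hsh U.unop).amalgamate (x U.unop) (hx U.unop)
  have hg : ∀ (U : C) ⦃V : C⦄ (f : V ⟶ U) (hV : D V), H.obj.map f.op (g (op U)) = h V hV :=
    fun U V f hV => (hsh U).valid_glue (hx U) f hV
  refine ⟨⟨g, ?_⟩, ?_⟩
  · intro U U' a
    apply ext_of_dom hD hcov H
    intro V f hV
    have h1 : H.obj.map f.op (H.obj.map a (g U)) = H.obj.map (f ≫ a.unop).op (g U) := by
      rw [op_comp, Quiver.Hom.op_unop, Functor.map_comp]
      rfl
    rw [h1, hg U.unop (f ≫ a.unop) hV, hg U'.unop f hV]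
  · intro V hV
    have := hg V (𝟙 V) hV
    rw [op_id, Functor.map_id_apply] at this
    exact this

lemma map_app {A B : Sheaf J (Type w)} (φ : A ⟶ B) {U V : Cᵒᵖ} (f : U ⟶ V) (a : A.obj.obj U) :
    φ.hom.app V (A.obj.map f a) = B.obj.map f (φ.hom.app U a) :=
  ConcreteCategory.congr_hom (φ.hom.naturality f) a

/-- a morphism into the target of a sectionwise-injective `ι` lifts through `ι` as soon as it does
so on sections -/
lemma exists_lift_of_injective {A B E : Sheaf J (Type w)} (ι : B ⟶ E)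
    (hinj : ∀ U, Function.Injective (ι.hom.app U)) (ψ : A ⟶ E)
    (h : ∀ U (a : A.obj.obj U), ∃ b, ι.hom.app U b = ψ.hom.app U a) :
    ∃ ψ' : A ⟶ B, ∀ U (a : A.obj.obj U), ι.hom.app U (ψ'.hom.app U a) = ψ.hom.app U a := by
  choose b hb using h
  refine ⟨⟨{ app := fun U => TypeCat.ofHom (b U), naturality := ?_ }⟩, fun U a => hb U a⟩
  intro U V f
  ext a
  apply hinj V
  change ι.hom.app V (b V (A.obj.map f a)) = ι.hom.app V (B.obj.map f (b U a))
  rw [hb, map_app, map_app, hb]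

/-- a section of `E` lying locally in the image of a sectionwise-injective `ι` lies in it -/
lemma mem_image_of_locally {B E : Sheaf J (Type w)} (ι : B ⟶ E)
    (hinj : ∀ U, Function.Injective (ι.hom.app U)) {U : C} (x : E.obj.obj (op U))
    (S : Sieve U) (hS : S ∈ J U)
    (h : ∀ ⦃V : C⦄ (f : V ⟶ U), S f → ∃ b, ι.hom.app (op V) b = E.obj.map f.op x) :
    ∃ b, ι.hom.app (op U) b = x := by
  choose b hb using h
  have hsh := B.property.isSheafFor S hS
  let y : Presieve.FamilyOfElements B.obj S.arrows := fun V f hf => b f hf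
  have hy : y.Compatible := by
    intro Y₁ Y₂ Z g₁ g₂ f₁ f₂ h₁ h₂ e
    apply hinj
    change ι.hom.app (op Z) (B.obj.map g₁.op (b f₁ h₁)) = ι.hom.app (op Z) (B.obj.map g₂.op (b f₂ h₂))
    rw [map_app, map_app, hb, hb, ← Functor.map_comp_apply, ← Functor.map_comp_apply, ← op_comp,
      ← op_comp, e]
  refine ⟨hsh.amalgamate y hy, ?_⟩
  apply (E.property.isSheafFor S hS).isSeparatedFor.ext
  intro V f hf
  rw [← map_app, hsh.valid_glue hy f hf]
  exact hb f hf

end Glue

variable [J.HasSheafCompose (forget GrpCat.{w})]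

/-- the equivariant morphism `G ⟶ P`, `g ↦ g • s`, attached to a global section `s` of `P` -/
def trivHom (P : GSheaf G) (s : P.P.obj.sections) : trivial G ⟶ P where
  hom := ⟨{ app := fun U => TypeCat.ofHom (fun g : (uSh G).obj.obj U => P.smul (toGrp g) (s.1 U))
            naturality := by
              intro U V f
              ext g
              change P.smul (G.obj.map f (toGrp g)) (s.1 V) = P.P.obj.map f (P.smul (toGrp g) (s.1 U))
              rw [P.map_smul, s.2 f] }⟩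
  map_smul := by
    intro U a p
    change P.smul (a * toGrp p) (s.1 U) = P.smul a (P.smul (toGrp p) (s.1 U))
    exact P.mul_smul _ _ _

lemma trivHom_app (P : GSheaf G) (s : P.P.obj.sections) (U : Cᵒᵖ) (g : (uSh G).obj.obj U) :
    (trivHom P s).hom.hom.app U g = P.smul (toGrp g) (s.1 U) := rfl

/-- a global section of a pseudo-torsor trivialises it -/
lemma isTrivial_of_section (P : GSheaf G) (hP : P.IsPseudoTorsor) (s : P.P.obj.sections) :
    P.IsTrivial := by
  have : IsIso (trivHom P s) := by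
    apply isIso_of_bijective
    intro U
    constructor
    · intro g g' hgg
      rw [trivHom_app, trivHom_app] at hgg
      exact (hP U (s.1 U) _).unique hgg rfl
    · intro q
      obtain ⟨g, hg, -⟩ := hP U (s.1 U) q
      exact ⟨ofGrp g, hg⟩
  exact ⟨asIso (trivHom P s)⟩

/-- a trivial `G`-sheaf has a global section -/
def sectionOfTrivial (P : GSheaf G) (e : trivial G ⟶ P) : P.P.obj.sections :=
  ⟨fun U => e.hom.hom.app U (ofGrp 1), by
    intro U V f
    have := ConcreteCategory.congr_hom (e.hom.hom.naturality f) (ofGrp (1 : G.obj.obj U))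
    change e.hom.hom.app V (G.obj.map f 1) = P.P.obj.map f (e.hom.hom.app U (ofGrp 1)) at this
    rw [← this, map_one]⟩

lemma cl_eq_one_iff (T : Torsor G) : T.cl = 1 ↔ T.toGSheaf.IsTrivial := by
  change T.cl = (trivialTorsor G).cl ↔ _
  rw [cl_eq_iff]
  exact ⟨fun ⟨e⟩ => ⟨e.symm⟩, fun ⟨e⟩ => ⟨e.symm⟩⟩

lemma cl_eq_one_iff_hasSection (T : Torsor G) : T.cl = 1 ↔ T.toGSheaf.HasSection := by
  rw [cl_eq_one_iff]
  constructor
  · rintro ⟨e⟩
    exact ⟨sectionOfTrivial _ e.hom, (sectionOfTrivial _ e.hom).2⟩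
  · rintro ⟨s, hs⟩
    exact isTrivial_of_section _ T.isTorsor.1 ⟨s, hs⟩

section Boundary

/-! ### The fibre of `π : G ⟶ Q` over a global section (`IsFibreOver`) -/

variable {F : Sheaf J GrpCat.{w}} (u : F ⟶ G) {Q : GSheaf G} (π : trivial G ⟶ Q)

lemma π_mul (U : Cᵒᵖ) (a b : G.obj.obj U) :
    π.hom.hom.app U (ofGrp (a * b)) = Q.smul a (π.hom.hom.app U (ofGrp b)) :=
  π.map_smul a (ofGrp b)

lemma uSh_map {U V : Cᵒᵖ} (f : U ⟶ V) (x : (uSh G).obj.obj U) :
    toGrp ((uSh G).obj.map f x) = G.obj.map f (toGrp x) := rfl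

variable {u π}

/-- the sheaf of liftings of a section of the quotient `G/F` is a pseudo-torsor under `F` -/
lemma isPseudoTorsor_of_isFibreOver (hu : ∀ U : Cᵒᵖ, Function.Injective (u.hom.app U))
    (hQ : IsQuotientBy u π) {c : Q.P.obj.sections} {T : GSheaf F} (hT : IsFibreOver u π c T) :
    T.IsPseudoTorsor := by
  obtain ⟨ι, hinj, himg, hact⟩ := hT
  intro U t t'
  have h1 : π.hom.hom.app U (ofGrp (toGrp (ι.hom.app U t))) = c.1 U := (himg U _).1 ⟨t, rfl⟩
  have h2 : π.hom.hom.app U (ofGrp (toGrp (ι.hom.app U t'))) = c.1 U := (himg U _).1 ⟨t', rfl⟩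
  obtain ⟨f, hf⟩ := (hQ.1 U _ _).1 (h1.trans h2.symm)
  refine ⟨f⁻¹, ?_, ?_⟩
  · apply hinj U
    have := hact U f⁻¹ t
    rw [map_inv, inv_inv] at this
    exact this.trans hf.symm
  · intro f' hf'
    apply hu U
    have h3 := hact U f' t
    rw [hf', hf] at h3
    have h4 := mul_left_cancel h3
    rw [map_inv, h4, inv_inv]

/-- the sheaf of liftings of a section of the quotient `G/F` is locally nonempty -/
lemma locallyNonempty_of_isFibreOver
    (hQ : IsQuotientBy u π) {c : Q.P.obj.sections} {T : GSheaf F} (hT : IsFibreOver u π c T) :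
    T.LocallyNonempty := by
  obtain ⟨ι, hinj, himg, hact⟩ := hT
  intro U
  obtain ⟨S, hS, h⟩ := hQ.2 U (c.1 (op U))
  refine ⟨S, hS, fun V a ha => ?_⟩
  obtain ⟨g, hg⟩ := h a ha
  rw [c.2 a.op] at hg
  obtain ⟨t, -⟩ := (himg (op V) g).2 hg
  exact ⟨t⟩

lemma isTorsor_of_isFibreOver (hu : ∀ U : Cᵒᵖ, Function.Injective (u.hom.app U))
    (hQ : IsQuotientBy u π) {c : Q.P.obj.sections} {T : GSheaf F} (hT : IsFibreOver u π c T) :
    T.IsTorsor :=
  ⟨isPseudoTorsor_of_isFibreOver hu hQ hT, locallyNonempty_of_isFibreOver hQ hT⟩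

/-- translating liftings of `c` by a global section `g` of `G` with `g • c = c'` identifies the
sheaves of liftings of `c` and of `c'` -/
lemma nonempty_iso_of_translate {c c' : Q.P.obj.sections} {T T' : GSheaf F}
    (hT : IsFibreOver u π c T) (hT' : IsFibreOver u π c' T')
    (g : (uSh G).obj.sections) (hg : ∀ U, Q.smul (toGrp (g.1 U)) (c.1 U) = c'.1 U) :
    Nonempty (T ≅ T') := by
  obtain ⟨ι, hinj, himg, hact⟩ := hT
  obtain ⟨ι', hinj', himg', hact'⟩ := hT'
  let ψ : T.P ⟶ uSh G :=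
    ⟨{ app := fun U => TypeCat.ofHom
          (fun t : T.P.obj.obj U => ofGrp (toGrp (g.1 U) * toGrp (ι.hom.app U t)))
       naturality := by
        intro U V f
        ext t
        change ofGrp (toGrp (g.1 V) * toGrp (ι.hom.app V (T.P.obj.map f t))) =
          (uSh G).obj.map f (ofGrp (toGrp (g.1 U) * toGrp (ι.hom.app U t)))
        have e1 : G.obj.map f (toGrp (g.1 U) * toGrp (ι.hom.app U t)) =
            G.obj.map f (toGrp (g.1 U)) * G.obj.map f (toGrp (ι.hom.app U t)) := map_mul _ _ _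
        have e2 : G.obj.map f (toGrp (g.1 U)) = toGrp (g.1 V) := g.2 f
        rw [map_app]
        exact (e1.trans (by rw [e2]; rfl)).symm }⟩
  have hψ : ∀ U (t : T.P.obj.obj U),
      toGrp (ψ.hom.app U t) = toGrp (g.1 U) * toGrp (ι.hom.app U t) := fun _ _ => rfl
  have hπι : ∀ U (t : T.P.obj.obj U), π.hom.hom.app U (ι.hom.app U t) = c.1 U :=
    fun U t => (himg U _).1 ⟨t, rfl⟩
  have h : ∀ U (t : T.P.obj.obj U), ∃ b, ι'.hom.app U b = ψ.hom.app U t := by
    intro U t
    apply (himg' U _).2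
    change π.hom.hom.app U (ofGrp (toGrp (g.1 U) * toGrp (ι.hom.app U t))) = _
    rw [π_mul]
    change Q.smul _ (π.hom.hom.app U (ι.hom.app U t)) = _
    rw [hπι, hg]
  obtain ⟨θ, hθ⟩ := exists_lift_of_injective ι' hinj' ψ h
  have θeq : ∀ U (t : T.P.obj.obj U),
      toGrp (ι'.hom.app U (θ.hom.app U t)) = toGrp (g.1 U) * toGrp (ι.hom.app U t) := hθ
  let Θ : T ⟶ T' := ⟨θ, fun {U} f t => hinj' U (by
    change toGrp (ι'.hom.app U (θ.hom.app U (T.smul f t))) =
      toGrp (ι'.hom.app U (T'.smul f (θ.hom.app U t)))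
    rw [θeq, hact', θeq, hact, mul_assoc])⟩
  have : IsIso Θ := by
    apply isIso_of_bijective
    intro U
    constructor
    · intro t t₂ htt
      apply hinj U
      have h1 := θeq U t
      have h2 := θeq U t₂
      have h3 : θ.hom.app U t = θ.hom.app U t₂ := htt
      rw [h3, h2] at h1
      exact (mul_left_cancel h1).symm
    · intro t'
      have h1 : π.hom.hom.app U (ofGrp ((toGrp (g.1 U))⁻¹ * toGrp (ι'.hom.app U t'))) = c.1 U := by
        rw [π_mul]
        have : π.hom.hom.app U (ofGrp (toGrp (ι'.hom.app U t'))) = c'.1 U :=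
          (himg' U _).1 ⟨t', rfl⟩
        rw [this, ← hg, ← Q.mul_smul, inv_mul_cancel, Q.one_smul]
      obtain ⟨t, ht⟩ := (himg U _).2 h1
      refine ⟨t, hinj' U ?_⟩
      change toGrp (ι'.hom.app U (θ.hom.app U t)) = toGrp (ι'.hom.app U t')
      rw [θeq, ht, mul_inv_cancel_left]
  exact ⟨asIso Θ⟩

/-- an equivariant isomorphism between the sheaves of liftings of `c` and `c'` comes from
translation by a global section of `G` -/
lemma exists_translate_of_iso (hu : ∀ U : Cᵒᵖ, Function.Injective (u.hom.app U))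
    (hQ : IsQuotientBy u π) {c c' : Q.P.obj.sections} {T T' : GSheaf F}
    (hT : IsFibreOver u π c T) (hT' : IsFibreOver u π c' T') (e : T ≅ T') :
    ∃ g : (uSh G).obj.sections, ∀ U, Q.smul (toGrp (g.1 U)) (c.1 U) = c'.1 U := by
  have hps := isPseudoTorsor_of_isFibreOver hu hQ hT
  have hcov := locallyNonempty_of_isFibreOver hQ hT
  obtain ⟨ι, hinj, himg, hact⟩ := hT
  obtain ⟨ι', hinj', himg', hact'⟩ := hT'
  have hD : ∀ ⦃V W : C⦄ (_ : W ⟶ V), Nonempty (T.P.obj.obj (op V)) → Nonempty (T.P.obj.obj (op W)) :=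
    fun V W f ⟨t⟩ => ⟨T.P.obj.map f.op t⟩
  let k : ∀ U : Cᵒᵖ, T.P.obj.obj U → G.obj.obj U := fun U t =>
    toGrp (ι'.hom.app U (e.hom.hom.hom.app U t)) * (toGrp (ι.hom.app U t))⁻¹
  have kindep : ∀ U (t t₂ : T.P.obj.obj U), k U t = k U t₂ := by
    intro U t t₂
    obtain ⟨f, rfl, -⟩ := hps U t t₂
    change _ = toGrp (ι'.hom.app U (e.hom.hom.hom.app U (T.smul f t))) *
      (toGrp (ι.hom.app U (T.smul f t)))⁻¹
    rw [e.hom.map_smul, hact', hact, mul_inv_rev, _root_.inv_inv, mul_assoc,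
      inv_mul_cancel_left]
  have knat : ∀ {U V : Cᵒᵖ} (f : U ⟶ V) (t : T.P.obj.obj U),
      G.obj.map f (k U t) = k V (T.P.obj.map f t) := by
    intro U V f t
    change G.obj.map f (toGrp (ι'.hom.app U (e.hom.hom.hom.app U t)) *
      (toGrp (ι.hom.app U t))⁻¹) = toGrp (ι'.hom.app V (e.hom.hom.hom.app V (T.P.obj.map f t))) *
      (toGrp (ι.hom.app V (T.P.obj.map f t)))⁻¹
    rw [map_mul, map_inv, map_app, map_app, map_app]
    rfl
  obtain ⟨g, hg⟩ := exists_glue hD hcov (uSh G) (fun V hV => ofGrp (k (op V) hV.some)) (by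
    intro V W f hV
    change ofGrp (G.obj.map f.op (k (op V) hV.some)) = _
    rw [knat]
    exact kindep _ _ _)
  refine ⟨g, fun U => ?_⟩
  apply ext_of_dom (U := U.unop) hD hcov Q.P
  intro V f hV
  have e1 : Q.P.obj.map f.op (Q.smul (toGrp (g.1 U)) (c.1 U)) =
      Q.smul (G.obj.map f.op (toGrp (g.1 U))) (Q.P.obj.map f.op (c.1 U)) := Q.map_smul _ _ _
  have e2 : G.obj.map f.op (toGrp (g.1 U)) = toGrp (g.1 (op V)) := g.2 f.op
  have e3 : Q.P.obj.map f.op (c.1 U) = c.1 (op V) := c.2 f.op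
  have e4 : Q.P.obj.map f.op (c'.1 U) = c'.1 (op V) := c'.2 f.op
  have e5 : c.1 (op V) = π.hom.hom.app (op V) (ι.hom.app (op V) hV.some) :=
    ((himg (op V) _).1 ⟨hV.some, rfl⟩).symm
  have e6 : π.hom.hom.app (op V)
      (ι'.hom.app (op V) (e.hom.hom.hom.app (op V) hV.some)) = c'.1 (op V) :=
    (himg' (op V) _).1 ⟨_, rfl⟩
  refine e1.trans ?_
  rw [e2, e3, e4, hg V hV, e5, ← e6]
  change Q.smul (k (op V) hV.some) (π.hom.hom.app (op V) (ofGrp (toGrp (ι.hom.app (op V) hV.some)))) = _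
  rw [← π_mul]
  change π.hom.hom.app (op V) (ofGrp (toGrp (ι'.hom.app (op V) (e.hom.hom.hom.app (op V) hV.some)) *
    (toGrp (ι.hom.app (op V) hV.some))⁻¹ * toGrp (ι.hom.app (op V) hV.some))) = _
  rw [inv_mul_cancel_right]

variable (G) in
/-- inversion, as an endomorphism of the sheaf of sets underlying `G` -/
def invHom : uSh G ⟶ uSh G :=
  ⟨{ app := fun U => TypeCat.ofHom (fun x : (uSh G).obj.obj U => ofGrp (toGrp x)⁻¹)
     naturality := by
      intro U V f
      ext x
      change ofGrp (G.obj.map f (toGrp x))⁻¹ = ofGrp (G.obj.map f (toGrp x)⁻¹)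
      rw [map_inv] }⟩

lemma invHom_app (U : Cᵒᵖ) (x : (uSh G).obj.obj U) :
    toGrp ((invHom G).hom.app U x) = (toGrp x)⁻¹ := rfl

/-- the sheaf of liftings of a section of `G/F` maps `u`-equivariantly to `G` (by `t ↦ (ι t)⁻¹`) -/
lemma isPushforwardAlong_of_isFibreOver {c : Q.P.obj.sections} {T : GSheaf F}
    (hT : IsFibreOver u π c T) : IsPushforwardAlong u T (trivial G) := by
  obtain ⟨ι, hinj, himg, hact⟩ := hT
  refine ⟨ι ≫ invHom G, ?_⟩
  intro U f t
  change ofGrp (toGrp (ι.hom.app U (T.smul f t)))⁻¹ =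
    ofGrp (u.hom.app U f * (toGrp (ι.hom.app U t))⁻¹)
  rw [hact, mul_inv_rev, _root_.inv_inv]

/-- an `F`-torsor with a `u`-equivariant map to `G` is the sheaf of liftings of a section of
`G/F` -/
lemma exists_isFibreOver_of_isPushforwardAlong
    (hu : ∀ U : Cᵒᵖ, Function.Injective (u.hom.app U)) (hQ : IsQuotientBy u π)
    {T : GSheaf F} (hTt : T.IsTorsor) (hT : IsPushforwardAlong u T (trivial G)) :
    ∃ c : Q.P.obj.sections, IsFibreOver u π c T := by
  obtain ⟨φ, hφ⟩ := hT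
  have hφ' : ∀ U (f : F.obj.obj U) (t : T.P.obj.obj U),
      toGrp (φ.hom.app U (T.smul f t)) = u.hom.app U f * toGrp (φ.hom.app U t) := hφ
  let ι : T.P ⟶ uSh G := φ ≫ invHom G
  have hι : ∀ U (t : T.P.obj.obj U), toGrp (ι.hom.app U t) = (toGrp (φ.hom.app U t))⁻¹ :=
    fun _ _ => rfl
  have hact : ∀ (U : Cᵒᵖ) (f : F.obj.obj U) (t : T.P.obj.obj U),
      toGrp (ι.hom.app U (T.smul f t)) = toGrp (ι.hom.app U t) * (u.hom.app U f)⁻¹ := by
    intro U f t
    rw [hι, hι, hφ', mul_inv_rev]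
  have hinj : ∀ U : Cᵒᵖ, Function.Injective (ι.hom.app U) := by
    intro U t t' htt
    have h1 : toGrp (φ.hom.app U t) = toGrp (φ.hom.app U t') := by
      have h0 : toGrp (ι.hom.app U t) = toGrp (ι.hom.app U t') := htt
      rw [hι, hι] at h0
      exact inv_injective h0
    obtain ⟨f, rfl, -⟩ := hTt.1 U t t'
    rw [hφ'] at h1
    have h2 : u.hom.app U f = 1 := by
      have := congrArg (· * (toGrp (φ.hom.app U t))⁻¹) h1
      simpa using this.symm
    have h3 : f = 1 := hu U (h2.trans (map_one _).symm)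
    rw [h3, T.one_smul]
  have hD : ∀ ⦃V W : C⦄ (_ : W ⟶ V), Nonempty (T.P.obj.obj (op V)) → Nonempty (T.P.obj.obj (op W)) :=
    fun V W f ⟨t⟩ => ⟨T.P.obj.map f.op t⟩
  have hcov := hTt.2
  have hindep : ∀ U (t t' : T.P.obj.obj U),
      π.hom.hom.app U (ι.hom.app U t) = π.hom.hom.app U (ι.hom.app U t') := by
    intro U t t'
    obtain ⟨f, rfl, -⟩ := hTt.1 U t t'
    refine (hQ.1 U (toGrp (ι.hom.app U t)) (toGrp (ι.hom.app U (T.smul f t)))).2 ⟨f⁻¹, ?_⟩
    rw [hact, map_inv]
  have hπnat : ∀ {U V : Cᵒᵖ} (f : U ⟶ V) (x : (uSh G).obj.obj U),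
      π.hom.hom.app V ((uSh G).obj.map f x) = Q.P.obj.map f (π.hom.hom.app U x) :=
    fun f x => map_app π.hom f x
  obtain ⟨c, hc⟩ := exists_glue hD hcov Q.P
    (fun V hV => π.hom.hom.app (op V) (ι.hom.app (op V) hV.some)) (by
      intro V W f hV
      rw [← hπnat, ← map_app ι]
      exact hindep _ _ _)
  have hc' : ∀ U (t : T.P.obj.obj U), π.hom.hom.app U (ι.hom.app U t) = c.1 U := by
    intro U t
    rw [hc U.unop ⟨t⟩]
    exact hindep _ _ _
  refine ⟨c, ι, hinj, ?_, hact⟩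
  intro U g
  constructor
  · rintro ⟨t, rfl⟩
    exact hc' U t
  · intro hg
    apply mem_image_of_locally ι hinj (U := U.unop) (ofGrp g) (domSieve _ hD U.unop)
      (domSieve_mem hD hcov U.unop)
    intro V f hV
    have h1 : π.hom.hom.app (op V) ((uSh G).obj.map f.op (ofGrp g)) =
        π.hom.hom.app (op V) (ι.hom.app (op V) hV.some) := by
      rw [hπnat, hc' (op V) hV.some]
      change Q.P.obj.map f.op (π.hom.hom.app U (ofGrp g)) = _
      rw [hg]
      exact c.2 f.op
    obtain ⟨f', hf'⟩ := (hQ.1 (op V) _ _).1 h1.symm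
    refine ⟨T.smul f'⁻¹ hV.some, ?_⟩
    change toGrp (ι.hom.app (op V) (T.smul f'⁻¹ hV.some)) = toGrp ((uSh G).obj.map f.op (ofGrp g))
    rw [hact, map_inv, _root_.inv_inv]
    exact hf'.symm

lemma π_nat {U V : Cᵒᵖ} (f : U ⟶ V) (x : (uSh G).obj.obj U) :
    π.hom.hom.app V ((uSh G).obj.map f x) = Q.P.obj.map f (π.hom.hom.app U x) :=
  map_app π.hom f x

omit [J.HasSheafCompose (forget GrpCat.{w})] in
lemma u_nat {U V : Cᵒᵖ} (i : U ⟶ V) (f : F.obj.obj U) :
    G.obj.map i (u.hom.app U f) = u.hom.app V (F.obj.map i f) :=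
  (ConcreteCategory.congr_hom (u.hom.naturality i) f).symm

variable (π) in
/-- the subfunctor of `G` of liftings of the global section `c` of `Q` -/
def fibSub (c : Q.P.obj.sections) : Subfunctor (uSh G).obj where
  obj U := {g | π.hom.hom.app U g = c.1 U}
  map := by
    intro U V i g hg
    change π.hom.hom.app V ((uSh G).obj.map i g) = c.1 V
    rw [π_nat, show π.hom.hom.app U g = c.1 U from hg]
    exact c.2 i

variable (π) in
/-- the sheaf of liftings of the global section `c` of `Q` -/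
def fibSheaf (c : Q.P.obj.sections) : Sheaf J (Type w) :=
  ⟨(fibSub π c).toFunctor, (isSheaf_iff_isSheaf_of_type _ _).2
    ((Subfunctor.isSheaf_iff (fibSub π c) ((isSheaf_iff_isSheaf_of_type _ _).1 (uSh G).property)).2 (by
      intro U s hs
      change π.hom.hom.app U s = c.1 U
      apply (Q.P.property.isSheafFor _ hs).isSeparatedFor.ext
      intro V f hf
      have h1 : π.hom.hom.app (op V) ((uSh G).obj.map f.op s) = c.1 (op V) := hf
      rw [← π_nat, h1]
      exact (c.2 f.op).symm))⟩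

/-- the sheaf of liftings of `c`, with `F` acting by `f • g = g · u(f)⁻¹` -/
def fibGSheaf (hQ : IsQuotientBy u π) (c : Q.P.obj.sections) : GSheaf F where
  P := fibSheaf π c
  smul {U} f g := ⟨ofGrp (toGrp g.1 * (u.hom.app U f)⁻¹), by
    change π.hom.hom.app U (ofGrp (toGrp g.1 * (u.hom.app U f)⁻¹)) = c.1 U
    rw [← show π.hom.hom.app U g.1 = c.1 U from g.2]
    exact ((hQ.1 U (toGrp g.1) _).2 ⟨f⁻¹, by rw [map_inv]⟩).symm⟩
  one_smul {U} g := by
    apply Subtype.ext
    change ofGrp (toGrp g.1 * (u.hom.app U 1)⁻¹) = g.1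
    rw [map_one, inv_one, _root_.mul_one]
  mul_smul {U} f h g := by
    apply Subtype.ext
    change ofGrp (toGrp g.1 * (u.hom.app U (f * h))⁻¹) =
      ofGrp (toGrp g.1 * (u.hom.app U h)⁻¹ * (u.hom.app U f)⁻¹)
    rw [map_mul, mul_inv_rev, mul_assoc]
  map_smul {U V} i f g := by
    apply Subtype.ext
    change ofGrp (G.obj.map i (toGrp g.1 * (u.hom.app U f)⁻¹)) =
      ofGrp (G.obj.map i (toGrp g.1) * (u.hom.app V (F.obj.map i f))⁻¹)
    rw [map_mul, map_inv, u_nat]

/-- the sheaf of liftings exists -/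
lemma isFibreOver_fibGSheaf (hQ : IsQuotientBy u π) (c : Q.P.obj.sections) :
    IsFibreOver u π c (fibGSheaf hQ c) := by
  refine ⟨⟨(fibSub π c).ι⟩, ?_, ?_, ?_⟩
  · intro U a b hab
    exact Subtype.ext hab
  · intro U g
    constructor
    · rintro ⟨t, rfl⟩
      exact t.2
    · intro hg
      exact ⟨⟨ofGrp g, hg⟩, rfl⟩
  · intro U f t
    rfl

variable (G) in
/-- the unit global section of `G` -/
def oneSection : (uSh G).obj.sections :=
  ⟨fun U => ofGrp (1 : G.obj.obj U), fun f => map_one (G.obj.map f).hom⟩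

/-- two sheaves of liftings of the same section are equivariantly isomorphic -/
lemma nonempty_iso_of_isFibreOver {c : Q.P.obj.sections} {T T' : GSheaf F}
    (hT : IsFibreOver u π c T) (hT' : IsFibreOver u π c T') : Nonempty (T ≅ T') :=
  nonempty_iso_of_translate hT hT' (oneSection G) (fun _ => Q.one_smul _)

end Boundary

end NonAbH1Lib
end Groth.Agent.Lib.Helper43
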