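import Groth.Prelude.Def_PBC
import Groth.Prelude.Def_EtShriek2
import Mathlib
import Groth.Agent.Lib.Helper43.ExtZeroSplit
import Groth.Agent.S0621
import Groth.Agent.S0069
import Groth.Agent.S0652

/-!
# Direct image along split and finite étale morphisms preserves finite locally constant sheaves
-/

set_option autoImplicit false
universe u
open CategoryTheory CategoryTheory.Limits AlgebraicGeometry Opposite

namespace Groth.Agent.Lib.Helper43.PushSplit

open Groth.Agent.Lib.Helper43 Groth.Agent.Lib.Helper43.ExtZeroSplit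
  Groth.Agent.Lib.Helper43.EtFLCLocal Groth.Agent.Lib.Helper4 Groth.Agent.Lib.Helper24

/-- for an open immersion with closed range, `a_* ≅ a_!` objectwise -/
theorem nonempty_push_iso_extZero {V Z : Scheme.{u}} (a : V ⟶ Z) [IsOpenImmersion a]
    (hcl : IsClosed (Set.range a)) (K : EtCoh.Ab V) :
    Nonempty ((EtCoh.push a).obj K ≅ (EtShriek.extZero a).obj K) := by
  have : IsClosedImmersion a := IsClosedImmersion.of_isPreimmersion a hcl
  refine Groth.Agent.S0652.result a K ((EtCoh.push a).obj K) ?_ ?_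
  · have hc : IsIso ((EtCoh.pullPushAdj a).counit.app K) := (Groth.Agent.S0651.result a K).1
    exact ⟨((EtRestr.pullIsoRestr a).app _).symm ≪≫ asIso ((EtCoh.pullPushAdj a).counit.app K)⟩
  · intro Ω _ _ ξ hξ
    refine Groth.Agent.S0069.result a K ξ ?_
    rw [Set.disjoint_iff]
    rintro z ⟨h1, h2⟩
    exact hξ h1 h2

/-- direct image along an isomorphism preserves finite locally constant sheaves -/
theorem isFLC_push_of_isIso {V T : Scheme.{u}} (c : V ⟶ T) [IsIso c] (K : EtCoh.Ab V)
    (hK : EtCoh.IsFiniteLocallyConstant K) :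
    EtCoh.IsFiniteLocallyConstant ((EtCoh.push c).obj K) := by
  apply isFLC_of_local
  intro t
  refine ⟨V, c, inferInstance, (inv c).base t, ?_, ?_⟩
  · rw [← Scheme.Hom.comp_apply, IsIso.inv_hom_id]
    rfl
  · have hc : IsIso ((EtCoh.pullPushAdj c).counit.app K) := (Groth.Agent.S0651.result c K).1
    exact EtConstr.isFLC_of_iso (asIso ((EtCoh.pullPushAdj c).counit.app K)).symm hK

instance additive_push {Z T : Scheme.{u}} (h : Z ⟶ T) : (EtCoh.push h).Additive := by
  have : (EtCoh.push h).IsRightAdjoint := (EtCoh.pullPushAdj h).isRightAdjoint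
  exact Functor.additive_of_preserves_binary_products _

/-- direct image along a split morphism preserves finite locally constant sheaves -/
theorem isFLC_push_of_isSplitOver {Z T : Scheme.{u}} (h : Z ⟶ T)
    (hs : IsSplitOver h) (G : EtCoh.Ab Z) (hG : EtCoh.IsFiniteLocallyConstant G) :
    EtCoh.IsFiniteLocallyConstant ((EtCoh.push h).obj G) := by
  obtain ⟨n, V, c, hc, e, he⟩ := hs
  let a : ∀ j, V j ⟶ Z := fun j => Sigma.ι V j ≫ e.hom
  have hdisj : Pairwise (fun i j => Disjoint (Set.range (a i)) (Set.range (a j))) := by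
    intro i j hij
    rw [Set.disjoint_iff]
    rintro z ⟨⟨x, hx⟩, ⟨y, hy⟩⟩
    have h1 : (Sigma.ι V i) x = (Sigma.ι V j) y := by
      have h2 : e.hom ((Sigma.ι V i) x) = e.hom ((Sigma.ι V j) y) := hx.trans hy.symm
      exact (Scheme.Hom.isOpenEmbedding e.hom).injective h2
    have := (sigmaι_eq_iff V i j x y).1 h1
    exact hij (congrArg Sigma.fst this)
  have hcov : ∀ z : Z, ∃ j, z ∈ Set.range (a j) := by
    intro z
    obtain ⟨j, x, hx⟩ := (sigmaOpenCover V).exists_eq (e.inv z)
    refine ⟨j, x, ?_⟩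
    change (Sigma.ι V j) x = e.inv z at hx
    change e.hom ((Sigma.ι V j) x) = z
    rw [hx, ← Scheme.Hom.comp_apply, Iso.inv_hom_id]
    rfl
  have hcl : ∀ j, IsClosed (Set.range (a j)) := by
    intro j
    have : (Set.range (a j))ᶜ = ⋃ (i : Fin n) (_ : i ≠ j), Set.range (a i) := by
      ext z
      simp only [Set.mem_compl_iff, Set.mem_iUnion, exists_prop]
      constructor
      · intro hz
        obtain ⟨i, hi⟩ := hcov z
        refine ⟨i, ?_, hi⟩
        rintro rfl
        exact hz hi
      · rintro ⟨i, hij, hi⟩ hz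
        exact Set.disjoint_iff.1 (hdisj hij) ⟨hi, hz⟩
    rw [← isOpen_compl_iff, this]
    exact isOpen_iUnion fun i => isOpen_iUnion fun _ => (a i).isOpenEmbedding.isOpen_range
  have := isIso_decompMap a hdisj hcov G
  refine EtConstr.isFLC_of_iso ((EtCoh.push h).mapIso (asIso (decompMap a G))) ?_
  refine EtConstr.isFLC_of_iso ((EtCoh.push h).mapBiproduct (summand a G)).symm ?_
  apply isFLC_biproduct
  intro j
  have hcj : a j ≫ h = c j := by
    rw [Category.assoc]
    exact he j
  have : IsIso (a j ≫ h) := by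
    rw [hcj]
    exact hc j
  have h1 : EtCoh.IsFiniteLocallyConstant ((EtShriek.restrAlong (a j)).obj G) :=
    EtConstr.isFLC_of_iso ((EtRestr.pullIsoRestr (a j)).app G) (EtConstr.isFLC_pull (a j) G hG)
  obtain ⟨θ⟩ := nonempty_push_iso_extZero (a j) (hcl j) ((EtShriek.restrAlong (a j)).obj G)
  refine EtConstr.isFLC_of_iso ((EtCoh.push h).mapIso θ) ?_
  exact EtConstr.isFLC_of_iso ((EtCoh.pushComp h (a j)).app _).symm
    (isFLC_push_of_isIso (a j ≫ h) _ h1)

/-- direct image along a finite étale morphism preserves finite locally constant sheaves -/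
theorem isFLC_push_of_finite_etale {Z T : Scheme.{u}} (h : Z ⟶ T) [Etale h] [IsFinite h]
    (G : EtCoh.Ab Z) (hG : EtCoh.IsFiniteLocallyConstant G) :
    EtCoh.IsFiniteLocallyConstant ((EtCoh.push h).obj G) := by
  apply isFLC_of_local
  intro t
  obtain ⟨U, g, hg, u, hu, hs⟩ := exists_etale_isSplitOver_of_finite_etale h t
  refine ⟨U, g, hg, u, hu, ?_⟩
  have hiso := Groth.Agent.S0621.result h g (pullback.snd h g) (pullback.fst h g)
    (IsPullback.of_hasPullback h g) G
  refine EtConstr.isFLC_of_iso (asIso (EtCoh.baseChange0 h g (pullback.snd h g) (pullback.fst h g)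
    (IsPullback.of_hasPullback h g).w G)).symm ?_
  exact isFLC_push_of_isSplitOver _ hs _ (EtConstr.isFLC_pull _ G hG)

end Groth.Agent.Lib.Helper43.PushSplit
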