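import Mathlib

/-!
# Sheafification and the pointwise tensor product of presheaves

* `sheafifyTensorIso`: `(P ⊗ Q)^# ≅ (P^# ⊗ Q^#)^#`;
* `restrTensorIso`: restriction along a continuous and cocontinuous functor commutes with the
  sheafified tensor product;
* `tensorConstIso`: if the restrictions of `F`, `F'` are constant with values `M`, `N` then the restriction
  of the sheafified tensor product is constant with value `M ⊗ N`.
-/

set_option autoImplicit false
universe v₁ v₂ u₁ u₂ v₃ u₃
open CategoryTheory CategoryTheory.Limits Opposite MonoidalCategory MonoidalClosed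
  Enriched.FunctorCategory

namespace Groth.Agent.Lib.Helper43.TensorSheafify

section
variable {C : Type u₁} [Category.{v₁} C] (J : GrothendieckTopology C)
  {A : Type u₃} [Category.{v₃} A] [MonoidalCategory A] [MonoidalClosed A] [BraidedCategory A]
  [∀ (F₁ F₂ : Cᵒᵖ ⥤ A), HasFunctorEnrichedHom A F₁ F₂]
  [∀ (F₁ F₂ : Cᵒᵖ ⥤ A), HasEnrichedHom A F₁ F₂]
  [HasWeakSheafify J A]

/-- `toSheafify P ⊗ toSheafify Q` becomes an isomorphism after sheafification. -/
theorem isIso_sheafify_tensorHom (P Q : Cᵒᵖ ⥤ A) :
    IsIso ((presheafToSheaf J A).map (toSheafify J P ⊗ₘ toSheafify J Q)) := by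
  rw [← J.W_iff]
  rw [MonoidalCategory.tensorHom_def]
  have h1 : J.W (toSheafify J P ▷ Q) :=
    GrothendieckTopology.W.whiskerRight (J.W_toSheafify P) Q
  have h2 : J.W (sheafify J P ◁ toSheafify J Q) :=
    GrothendieckTopology.W.whiskerLeft (J.W_toSheafify Q) (sheafify J P)
  exact MorphismProperty.comp_mem _ _ _ h1 h2

/-- sheafification of a tensor product only depends on the sheafifications -/
noncomputable def sheafifyTensorIso (P Q : Cᵒᵖ ⥤ A) :
    (presheafToSheaf J A).obj (P ⊗ Q) ≅ (presheafToSheaf J A).obj (sheafify J P ⊗ sheafify J Q) :=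
  haveI := isIso_sheafify_tensorHom J P Q
  asIso ((presheafToSheaf J A).map (toSheafify J P ⊗ₘ toSheafify J Q))

/-- the pointwise tensor product of constant presheaves -/
def constTensorIso (M N : A) :
    (Functor.const Cᵒᵖ).obj M ⊗ (Functor.const Cᵒᵖ).obj N ≅ (Functor.const Cᵒᵖ).obj (M ⊗ N) :=
  NatIso.ofComponents (fun _ => Iso.refl _)

/-- the sheafified tensor product of two constant sheaves is constant -/
noncomputable def constSheafTensorIso (M N : A) :
    (presheafToSheaf J A).obj (((constantSheaf J A).obj M).obj ⊗ ((constantSheaf J A).obj N).obj) ≅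
      (constantSheaf J A).obj (M ⊗ N) :=
  (sheafifyTensorIso J ((Functor.const Cᵒᵖ).obj M) ((Functor.const Cᵒᵖ).obj N)).symm ≪≫
    (presheafToSheaf J A).mapIso (constTensorIso M N)

end

section
variable {C : Type u₁} [Category.{v₁} C] {D : Type u₂} [Category.{v₂} D]
  (J : GrothendieckTopology C) (K : GrothendieckTopology D)
  {A : Type u₃} [Category.{v₃} A] [MonoidalCategory A]
  (G : C ⥤ D) [G.IsContinuous J K] [G.IsCocontinuous J K]
  [∀ (F : Cᵒᵖ ⥤ A), G.op.HasPointwiseRightKanExtension F]
  [HasWeakSheafify J A] [HasWeakSheafify K A]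

/-- restriction of presheaves commutes with the pointwise tensor product -/
def whiskerTensorIso (P Q : Dᵒᵖ ⥤ A) : G.op ⋙ (P ⊗ Q) ≅ (G.op ⋙ P) ⊗ (G.op ⋙ Q) :=
  NatIso.ofComponents (fun _ => Iso.refl _)

/-- restriction along a continuous and cocontinuous functor commutes with the sheafified tensor product -/
noncomputable def restrTensorIso (P Q : Dᵒᵖ ⥤ A) :
    (G.sheafPushforwardContinuous A J K).obj ((presheafToSheaf K A).obj (P ⊗ Q)) ≅
      (presheafToSheaf J A).obj ((G.op ⋙ P) ⊗ (G.op ⋙ Q)) :=
  ((G.pushforwardContinuousSheafificationCompatibility A J K).app (P ⊗ Q)).symm ≪≫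
    (presheafToSheaf J A).mapIso (whiskerTensorIso G P Q)

variable [MonoidalClosed A] [BraidedCategory A]
  [∀ (F₁ F₂ : Cᵒᵖ ⥤ A), HasFunctorEnrichedHom A F₁ F₂]
  [∀ (F₁ F₂ : Cᵒᵖ ⥤ A), HasEnrichedHom A F₁ F₂]

/-- if the restrictions of `F`, `F'` along `G` are constant with values `M`, `N`, then the restriction of
the sheafified tensor product is constant with value `M ⊗ N`. -/
noncomputable def tensorConstIso (F F' : Sheaf K A) (M N : A)
    (α : (G.sheafPushforwardContinuous A J K).obj F ≅ (constantSheaf J A).obj M)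
    (β : (G.sheafPushforwardContinuous A J K).obj F' ≅ (constantSheaf J A).obj N) :
    (G.sheafPushforwardContinuous A J K).obj ((presheafToSheaf K A).obj (F.obj ⊗ F'.obj)) ≅
      (constantSheaf J A).obj (M ⊗ N) :=
  restrTensorIso J K G F.obj F'.obj ≪≫
    (presheafToSheaf J A).mapIso
      (tensorIso ((sheafToPresheaf J A).mapIso α) ((sheafToPresheaf J A).mapIso β)) ≪≫
    constSheafTensorIso J M N

end

end Groth.Agent.Lib.Helper43.TensorSheafify
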